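import Cfsg.Agent.M24Orbits.Data

/-! Checks of the orbit certificates. -/

set_option autoImplicit false
set_option maxRecDepth 20000
open Cfsg Cfsg.Agent.Golay
open scoped Pointwise

namespace Cfsg.Agent.M24Orbits

theorem okOctTri : partsOK rootOct gensOct partsOctTri 3795 = true := by decide +kernel
theorem okOctSex : partsOK rootOct gensOct partsOctSex 1771 = true := by decide +kernel
theorem okOctOct : partsOK rootOct gensOct partsOctOct 759 = true := by decide +kernel
theorem okSexOct : partsOK rootSex gensSex partsSexOct 759 = true := by decide +kernel
theorem okSexTri : partsOK rootSex gensSex partsSexTri 3795 = true := by decide +kernel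
theorem okTriOct : partsOK rootTri gensTri partsTriOct 759 = true := by decide +kernel
theorem okTriSex : partsOK rootTri gensTri partsTriSex 1771 = true := by decide +kernel
theorem okDodSex : partsOK rootDod gensDod partsDodSex 1771 = true := by decide +kernel
theorem okYSex : partsOK rootY gensY partsYSex 1771 = true := by decide +kernel

/-- Every listed trio is reached from the root trio. -/
theorem okTrios : (let l := collectL [shiftCode, projInvCode, cubeTwistCode] treeTrios rootTri [rootTri]
    l.length == 3795 && l.all ascB && distinctB l) = true := by decide +kernel

end Cfsg.Agent.M24Orbits
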