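import Cfsg.Agent.M24Orbits.Framework

/-! Generated data: stabilizer generators and orbit forests. -/

set_option autoImplicit false

namespace Cfsg.Agent.M24Orbits

open Cfsg.Agent.Golay

/-- Root structure. -/
def rootOct : List ℕ := [9347075]

/-- Generators of its stabilizer. -/
def gensOct : List ℕ := [971535563237205117475771573814302176, 549736984667167039996556323933852241, 756398833854815949507048239974717169]

set_option maxRecDepth 20000 in
/-- Orbit forest. -/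
def treeOctTri0 : OrbTree := (.node 0 (.node 0 (.node 0 .nil .nil) (.node 2 (.node 1 .nil .nil) .nil)) (.node 1 (.node 0 (.node 1 .nil .nil) (.node 1 (.node 0 .nil .nil) .nil)) (.node 2 (.node 0 .nil (.node 1 (.node 2 .nil .nil) .nil)) .nil)))

set_option maxRecDepth 20000 in
/-- Orbit forest. -/
def treeOctTri1 : OrbTree := (.node 0 (.node 0 (.node 0 (.node 1 (.node 1 (.node 0 (.node 2 .nil .nil) (.node 1 (.node 2 .nil .nil) .nil)) (.node 2 (.node 1 .nil .nil) .nil)) (.node 2 (.node 0 (.node 2 .nil .nil) (.node 1 (.node 0 .nil .nil) (.node 2 (.node 0 (.node 2 .nil .nil) (.node 1 .nil (.node 2 .nil .nil))) .nil))) .nil)) (.node 1 (.node 0 (.node 0 (.node 1 .nil (.node 2 (.node 1 .nil .nil) .nil)) (.node 1 (.node 1 .nil (.node 2 (.node 2 .nil .nil) .nil)) (.node 2 (.node 0 .nil (.node 2 (.node 0 .nil .nil) .nil)) .nil))) (.node 1 (.node 0 (.node 0 .nil (.node 2 (.node 1 .nil .nil) .nil)) (.node 1 (.node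 0 .nil (.node 1 (.node 2 .nil .nil) (.node 2 .nil .nil))) (.node 2 .nil .nil))) (.node 2 (.node 0 (.node 0 .nil (.node 1 (.node 0 .nil .nil) .nil)) (.node 1 (.node 2 (.node 2 .nil .nil) .nil) (.node 2 (.node 1 (.node 0 .nil .nil) (.node 2 .nil .nil)) .nil))) .nil))) (.node 2 (.node 0 (.node 0 (.node 0 (.node 1 .nil .nil) .nil) (.node 1 (.node 0 (.node 1 .nil .nil) .nil) (.node 2 (.node 0 .nil (.node 1 .nil (.node 2 .nil .nil))) .nil))) (.node 1 (.node 0 (.node 2 (.node 1 .nil (.node 2 .nil .nil)) .nil) (.node 1 .nil (.node 2 .nil .nil))) (.node 2 (.node 0 (.node 0 .nil (.node 2 (.node 0 .nil (.node 1 .nil .nil)) .nil)) (.node 1 (.node 2 .nil .nil) .nil)) .nil))) .nil))) (.node 2 (.node 0 (.node 0 (.node 0 (.node 0 .nil (.node 1 (.node 2 .nil .nil) (.node 2 (.node 0 .nil .nil) .nil))) (.node 1 (.node 0 .nil (.node 1 .nil .nil)) (.node 2 (.node 0 .nil .nil) .nil))) (.node 1 (.node 0 .nil (.node 1 (.node 0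 .nil (.node 2 .nil .nil)) (.node 2 (.node 0 (.node 1 .nil .nil) (.node 1 (.node 2 .nil .nil) (.node 2 (.node 0 .nil .nil) .nil))) .nil))) (.node 2 (.node 1 (.node 2 (.node 1 .nil (.node 2 .nil .nil)) .nil) (.node 2 (.node 0 .nil (.node 2 .nil .nil)) .nil)) .nil))) (.node 1 (.node 0 (.node 0 .nil (.node 1 (.node 0 .nil (.node 1 .nil .nil)) (.node 2 (.node 1 .nil (.node 2 .nil .nil)) .nil))) (.node 1 (.node 0 (.node 0 .nil .nil) (.node 1 (.node 1 .nil .nil) (.node 2 (.node 0 (.node 0 .nil .nil) (.node 2 .nil .nil)) .nil))) (.node 2 (.node 0 .nil (.node 1 .nil (.node 2 (.node 0 .nil (.node 1 .nil .nil)) .nil))) .nil))) (.node 2 (.node 0 (.node 0 .nil (.node 1 (.node 0 .nil (.node 2 (.node 2 .nil .nil) .nil)) (.node 2 (.node 1 .nil (.node 2 .nil .nil)) .nil))) (.node 1 (.node 0 (.node 0 .nil (.node 2 .nil .nil)) (.node 2 (.node 1 .nil .nil) .nil)) (.node 2 (.node 0 .nil (.node 2 (.node 1 .nil .nil) .nil)) .nil)))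 .nil))) .nil)) (.node 1 (.node 0 (.node 0 (.node 0 (.node 0 .nil .nil) (.node 1 (.node 0 (.node 0 (.node 0 .nil .nil) (.node 1 .nil (.node 2 .nil .nil))) .nil) (.node 2 (.node 0 (.node 1 .nil .nil) (.node 1 (.node 0 .nil (.node 2 .nil .nil)) (.node 2 (.node 0 (.node 1 .nil .nil) (.node 2 (.node 0 .nil .nil) .nil)) .nil))) .nil))) (.node 1 (.node 1 (.node 0 (.node 0 .nil .nil) .nil) (.node 2 (.node 0 (.node 0 .nil (.node 1 .nil (.node 2 .nil .nil))) (.node 1 (.node 1 .nil .nil) .nil)) .nil)) (.node 2 (.node 0 (.node 0 .nil (.node 1 (.node 0 (.node 1 .nil .nil) (.node 2 .nil .nil)) (.node 2 (.node 1 .nil (.node 2 .nil .nil)) .nil))) (.node 1 (.node 0 (.node 1 .nil .nil) (.node 1 (.node 2 .nil .nil) (.node 2 (.node 2 .nil .nil) .nil))) (.node 2 (.node 0 (.node 2 .nil .nil) (.node 1 (.node 1 (.node 0 .nil .nil) .nil) .nil)) .nil))) .nil))) (.node 1 (.node 0 (.node 0 (.node 1 .nil (.node 2 .nil .nil)) (.node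 2 (.node 0 .nil (.node 1 .nil (.node 2 (.node 0 .nil (.node 2 .nil .nil)) .nil))) .nil)) (.node 1 (.node 0 (.node 0 (.node 0 .nil (.node 1 .nil .nil)) (.node 1 (.node 0 (.node 0 .nil .nil) (.node 2 (.node 2 .nil .nil) .nil)) .nil)) (.node 1 (.node 0 .nil (.node 1 (.node 0 .nil (.node 1 (.node 2 .nil .nil) .nil)) (.node 2 (.node 2 .nil .nil) .nil))) (.node 2 (.node 0 (.node 0 .nil (.node 2 .nil .nil)) (.node 2 (.node 2 .nil .nil) .nil)) .nil))) (.node 2 (.node 1 (.node 0 .nil (.node 1 .nil .nil)) (.node 2 (.node 0 .nil .nil) .nil)) .nil))) (.node 2 (.node 0 (.node 0 (.node 1 (.node 0 .nil .nil) .nil) (.node 1 (.node 0 (.node 0 .nil .nil) .nil) (.node 2 (.node 0 .nil (.node 2 .nil .nil)) .nil))) (.node 1 (.node 0 (.node 0 .nil .nil) (.node 1 (.node 1 .nil .nil) (.node 2 (.node 0 (.node 1 .nil (.node 2 .nil .nil)) .nil) .nil))) (.node 2 (.node 1 (.node 0 (.node 2 .nil .nil) (.node 2 (.node 0 .nil .nil) .nil))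 (.node 2 (.node 0 .nil (.node 1 .nil (.node 2 .nil .nil))) .nil)) .nil))) .nil))) (.node 2 (.node 0 (.node 0 (.node 0 (.node 0 (.node 2 .nil .nil) .nil) (.node 1 (.node 0 (.node 1 .nil .nil) (.node 1 (.node 0 .nil .nil) (.node 2 (.node 1 .nil .nil) .nil))) (.node 2 (.node 0 .nil (.node 1 (.node 2 .nil .nil) .nil)) .nil))) (.node 1 (.node 0 (.node 0 (.node 1 .nil .nil) (.node 2 .nil .nil)) (.node 1 (.node 0 (.node 2 .nil .nil) (.node 1 (.node 0 (.node 0 .nil .nil) .nil) (.node 2 (.node 0 .nil .nil) .nil))) (.node 2 (.node 0 (.node 2 .nil .nil) (.node 1 (.node 0 .nil .nil) .nil)) .nil))) (.node 2 (.node 0 (.node 0 (.node 2 .nil .nil) (.node 1 .nil .nil)) (.node 1 (.node 0 (.node 1 .nil .nil) .nil) (.node 2 (.node 0 (.node 0 .nil .nil) (.node 1 .nil (.node 2 .nil .nil))) .nil))) .nil))) (.node 1 (.node 0 (.node 0 (.node 1 (.node 0 .nil .nil) .nil) (.node 1 .nil (.node 2 (.node 0 (.node 1 .nil .nil) (.node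 2 (.node 0 (.node 0 .nil .nil) .nil) .nil)) .nil))) (.node 1 (.node 0 (.node 0 (.node 1 .nil .nil) (.node 1 (.node 2 .nil .nil) .nil)) (.node 1 (.node 0 .nil (.node 1 (.node 1 .nil .nil) .nil)) (.node 2 (.node 0 (.node 0 .nil (.node 1 .nil .nil)) (.node 1 (.node 0 .nil .nil) .nil)) .nil))) (.node 2 (.node 0 (.node 0 (.node 0 .nil (.node 1 .nil .nil)) (.node 1 (.node 0 .nil .nil) .nil)) (.node 1 (.node 0 .nil (.node 1 .nil (.node 2 (.node 0 .nil .nil) .nil))) (.node 2 (.node 2 (.node 1 .nil .nil) .nil) .nil))) .nil))) (.node 2 (.node 0 (.node 0 (.node 1 (.node 1 .nil (.node 2 .nil .nil)) .nil) (.node 1 (.node 0 .nil (.node 2 (.node 1 .nil (.node 2 .nil .nil)) .nil)) (.node 2 (.node 0 .nil (.node 2 (.node 2 .nil .nil) .nil)) .nil))) (.node 1 (.node 0 (.node 0 (.node 1 .nil (.node 2 .nil .nil)) (.node 1 .nil (.node 2 (.node 0 .nil (.node 2 .nil .nil)) .nil))) (.node 2 (.node 0 .nil (.node 1 .nil .nil)) .nil))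 (.node 2 (.node 1 (.node 1 (.node 1 .nil (.node 2 .nil .nil)) (.node 2 (.node 2 .nil .nil) .nil)) (.node 2 (.node 0 .nil (.node 1 .nil (.node 2 .nil .nil))) .nil)) .nil))) .nil))) .nil)))

set_option maxRecDepth 20000 in
/-- Orbit forest. -/
def treeOctTri2 : OrbTree := (.node 0 (.node 0 (.node 0 (.node 0 (.node 1 (.node 0 (.node 0 (.node 0 (.node 1 .nil .nil) (.node 1 (.node 0 .nil (.node 1 .nil .nil)) (.node 2 .nil .nil))) (.node 2 (.node 2 (.node 2 .nil .nil) .nil) .nil)) (.node 1 (.node 0 (.node 0 (.node 0 .nil (.node 2 .nil .nil)) (.node 1 .nil .nil)) (.node 1 (.node 2 .nil .nil) (.node 2 (.node 1 (.node 2 .nil .nil) .nil) .nil))) (.node 2 (.node 0 (.node 0 .nil .nil) (.node 1 (.node 0 .nil (.node 1 .nil (.node 2 (.node 0 .nil .nil) .nil))) .nil)) .nil))) (.node 2 (.node 0 (.node 0 (.node 0 (.node 0 .nil .nil) (.node 2 (.node 1 .nil .nil) .nil)) (.node 1 (.node 1 (.node 0 .nil .nil) .nil) .nil)) (.node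 1 (.node 0 (.node 1 (.node 0 .nil (.node 2 .nil .nil)) .nil) (.node 1 (.node 1 .nil .nil) (.node 2 .nil .nil))) (.node 2 (.node 0 (.node 1 .nil (.node 2 .nil .nil)) (.node 2 (.node 0 .nil (.node 1 (.node 2 .nil .nil) .nil)) .nil)) .nil))) .nil)) (.node 1 (.node 0 (.node 0 (.node 0 (.node 0 (.node 1 .nil .nil) .nil) (.node 1 (.node 0 .nil (.node 1 .nil .nil)) .nil)) (.node 2 (.node 0 (.node 0 .nil (.node 2 .nil .nil)) (.node 2 .nil .nil)) .nil)) (.node 1 (.node 0 (.node 0 (.node 0 (.node 2 .nil .nil) .nil) (.node 1 (.node 0 (.node 1 .nil .nil) (.node 1 .nil .nil)) (.node 2 (.node 0 .nil (.node 1 .nil .nil)) .nil))) (.node 1 (.node 0 (.node 0 .nil (.node 1 (.node 0 .nil .nil) (.node 2 (.node 0 .nil .nil) .nil))) (.node 1 (.node 2 (.node 1 .nil .nil) .nil) (.node 2 .nil .nil))) (.node 2 (.node 1 (.node 0 .nil (.node 1 (.node 1 .nil .nil) (.node 2 .nil .nil))) (.node 2 .nil .nil)) .nil))) (.node 2 (.node 0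 (.node 1 .nil .nil) (.node 1 (.node 0 (.node 1 (.node 0 .nil .nil) .nil) (.node 1 (.node 0 .nil (.node 1 (.node 0 .nil .nil) (.node 2 .nil .nil))) (.node 2 (.node 0 .nil (.node 2 (.node 0 .nil .nil) .nil)) .nil))) (.node 2 (.node 0 (.node 2 (.node 0 .nil .nil) .nil) (.node 1 (.node 0 (.node 2 .nil .nil) .nil) (.node 2 (.node 0 .nil .nil) .nil))) .nil))) .nil))) (.node 2 (.node 0 (.node 0 (.node 0 (.node 1 .nil (.node 2 .nil .nil)) (.node 1 (.node 2 .nil .nil) .nil)) (.node 1 (.node 0 (.node 0 .nil (.node 1 .nil (.node 2 (.node 1 .nil .nil) .nil))) (.node 2 .nil .nil)) (.node 2 (.node 0 (.node 0 .nil .nil) (.node 1 (.node 0 .nil .nil) .nil)) .nil))) (.node 1 (.node 0 (.node 0 (.node 1 (.node 0 .nil .nil) (.node 2 .nil .nil)) (.node 1 (.node 0 .nil .nil) (.node 2 (.node 1 .nil .nil) .nil))) (.node 1 (.node 1 (.node 1 (.node 1 .nil .nil) (.node 2 .nil .nil)) (.node 2 (.node 1 (.node 0 .nil .nil) .nil) .nil))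 (.node 2 (.node 0 .nil (.node 1 .nil (.node 2 (.node 0 .nil .nil) .nil))) .nil))) (.node 2 (.node 0 (.node 0 .nil (.node 1 (.node 1 .nil (.node 2 .nil .nil)) (.node 2 (.node 1 .nil (.node 2 .nil .nil)) .nil))) (.node 1 (.node 0 (.node 0 .nil (.node 1 (.node 1 .nil .nil) .nil)) (.node 1 (.node 0 .nil (.node 2 .nil .nil)) (.node 2 (.node 2 .nil .nil) .nil))) (.node 2 (.node 0 (.node 1 .nil (.node 2 .nil .nil)) (.node 1 (.node 0 .nil (.node 1 .nil (.node 2 .nil .nil))) (.node 2 (.node 0 .nil (.node 1 (.node 1 .nil .nil) (.node 2 (.node 0 .nil .nil) .nil))) .nil))) .nil))) .nil))) .nil))) (.node 1 (.node 0 (.node 0 (.node 1 (.node 0 (.node 0 .nil (.node 1 .nil .nil)) (.node 1 .nil (.node 2 (.node 0 .nil (.node 2 .nil .nil)) .nil))) (.node 2 (.node 0 .nil (.node 1 (.node 0 (.node 0 .nil (.node 2 .nil .nil)) .nil) (.node 2 (.node 0 .nil (.node 1 .nil (.node 2 (.node 2 .nil .nil) .nil))) .nil))) .nil)) (.node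 1 (.node 0 (.node 0 (.node 0 .nil .nil) (.node 2 (.node 0 .nil (.node 2 .nil .nil)) .nil)) (.node 1 (.node 0 .nil (.node 1 .nil (.node 2 (.node 0 .nil (.node 2 .nil .nil)) .nil))) (.node 2 (.node 0 (.node 0 (.node 0 .nil .nil) (.node 2 .nil .nil)) (.node 2 (.node 0 (.node 2 .nil .nil) (.node 1 .nil .nil)) .nil)) .nil))) (.node 2 (.node 1 (.node 0 (.node 0 .nil (.node 2 .nil .nil)) (.node 1 (.node 1 .nil (.node 2 (.node 0 .nil .nil) .nil)) (.node 2 (.node 0 .nil (.node 2 .nil .nil)) .nil))) (.node 2 (.node 0 (.node 1 .nil .nil) (.node 1 .nil (.node 2 (.node 0 .nil (.node 1 .nil .nil)) .nil))) .nil)) .nil))) (.node 1 (.node 0 (.node 0 (.node 0 (.node 0 .nil .nil) (.node 1 (.node 1 (.node 2 .nil .nil) .nil) (.node 2 (.node 0 (.node 2 .nil .nil) (.node 1 (.node 1 .nil .nil) .nil)) .nil))) (.node 1 (.node 0 (.node 0 .nil (.node 1 .nil .nil)) (.node 2 (.node 0 .nil (.node 2 (.node 0 .nil .nil) .nil)) .nil)) (.node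 2 (.node 0 (.node 2 .nil .nil) (.node 1 (.node 2 .nil .nil) .nil)) .nil))) (.node 1 (.node 0 (.node 0 (.node 1 .nil (.node 2 .nil .nil)) (.node 1 (.node 1 .nil (.node 2 .nil .nil)) (.node 2 (.node 0 (.node 0 .nil .nil) (.node 2 (.node 0 .nil .nil) .nil)) .nil))) (.node 1 (.node 0 (.node 0 .nil (.node 1 (.node 1 .nil .nil) .nil)) .nil) (.node 2 (.node 1 (.node 0 .nil (.node 2 .nil .nil)) (.node 2 (.node 0 .nil .nil) .nil)) .nil))) (.node 2 (.node 0 (.node 1 (.node 0 .nil (.node 1 (.node 2 .nil .nil) (.node 2 .nil .nil))) (.node 2 (.node 1 .nil (.node 2 .nil .nil)) .nil)) (.node 1 (.node 0 (.node 1 .nil (.node 2 (.node 1 .nil .nil) .nil)) (.node 1 (.node 2 .nil .nil) (.node 2 (.node 0 (.node 1 .nil .nil) (.node 2 .nil .nil)) .nil))) (.node 2 (.node 0 (.node 0 (.node 1 .nil .nil) .nil) (.node 2 .nil .nil)) .nil))) .nil))) (.node 2 (.node 0 (.node 0 (.node 0 (.node 2 .nil .nil) (.node 2 (.node 0 .nil (.node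 1 .nil (.node 2 (.node 2 .nil .nil) .nil))) .nil)) (.node 1 (.node 0 (.node 0 .nil .nil) (.node 2 (.node 0 .nil .nil) .nil)) (.node 2 (.node 0 (.node 0 (.node 2 .nil .nil) .nil) (.node 1 (.node 1 .nil .nil) (.node 2 (.node 2 .nil .nil) .nil))) .nil))) (.node 1 (.node 0 (.node 0 (.node 2 (.node 2 .nil .nil) .nil) (.node 1 (.node 0 .nil (.node 1 (.node 1 .nil .nil) (.node 2 .nil .nil))) .nil)) (.node 1 (.node 0 (.node 0 .nil .nil) (.node 1 (.node 1 .nil .nil) .nil)) (.node 2 (.node 1 (.node 1 .nil (.node 2 (.node 0 .nil (.node 2 .nil .nil)) .nil)) (.node 2 (.node 1 .nil .nil) .nil)) .nil))) (.node 2 (.node 0 (.node 0 .nil (.node 2 (.node 0 .nil (.node 2 (.node 1 .nil .nil) .nil)) .nil)) (.node 1 (.node 0 (.node 1 .nil .nil) (.node 1 (.node 0 .nil (.node 1 (.node 1 .nil .nil) .nil)) .nil)) (.node 2 (.node 2 (.node 0 .nil (.node 2 .nil .nil)) .nil) .nil))) .nil))) .nil))) (.node 2 (.node 0 (.node 0 (.node 0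 (.node 0 (.node 1 .nil .nil) (.node 1 (.node 1 (.node 2 .nil .nil) .nil) (.node 2 .nil .nil))) (.node 1 (.node 0 (.node 2 .nil .nil) (.node 2 .nil .nil)) .nil)) (.node 1 (.node 0 (.node 0 (.node 2 .nil .nil) (.node 2 (.node 0 .nil (.node 2 .nil .nil)) .nil)) (.node 1 (.node 0 (.node 0 (.node 2 .nil .nil) (.node 1 (.node 2 .nil .nil) .nil)) (.node 1 (.node 0 .nil (.node 1 .nil (.node 2 (.node 2 .nil .nil) .nil))) (.node 2 (.node 1 .nil (.node 2 (.node 1 .nil .nil) .nil)) .nil))) (.node 2 (.node 1 (.node 1 .nil .nil) .nil) .nil))) (.node 2 (.node 0 (.node 0 (.node 1 .nil .nil) (.node 1 (.node 0 .nil .nil) .nil)) (.node 1 (.node 0 .nil (.node 1 (.node 1 (.node 0 .nil .nil) .nil) (.node 2 (.node 0 .nil (.node 1 .nil .nil)) .nil))) (.node 2 (.node 0 (.node 1 .nil .nil) (.node 1 (.node 0 .nil .nil) (.node 2 (.node 1 .nil (.node 2 (.node 0 .nil .nil) .nil)) .nil))) .nil))) .nil))) (.node 1 (.node 0 (.node 0 (.node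 0 (.node 0 .nil (.node 1 .nil (.node 2 .nil .nil))) (.node 1 (.node 0 .nil (.node 1 .nil (.node 2 .nil .nil))) .nil)) (.node 1 (.node 1 (.node 0 .nil (.node 1 .nil (.node 2 .nil .nil))) (.node 2 .nil .nil)) (.node 2 (.node 0 (.node 1 .nil .nil) (.node 1 (.node 0 .nil (.node 1 .nil .nil)) (.node 2 (.node 0 .nil (.node 2 (.node 2 .nil .nil) .nil)) .nil))) .nil))) (.node 1 (.node 0 (.node 0 (.node 2 .nil .nil) (.node 1 (.node 2 (.node 2 .nil .nil) .nil) (.node 2 (.node 1 (.node 2 .nil .nil) .nil) .nil))) (.node 1 (.node 1 (.node 1 .nil (.node 2 .nil .nil)) (.node 2 (.node 1 .nil (.node 2 .nil .nil)) .nil)) (.node 2 (.node 0 (.node 2 .nil .nil) (.node 1 (.node 0 (.node 1 .nil .nil) (.node 2 (.node 2 .nil .nil) .nil)) (.node 2 (.node 0 (.node 1 .nil .nil) (.node 1 (.node 2 .nil .nil) (.node 2 .nil .nil))) .nil))) .nil))) (.node 2 (.node 0 (.node 1 (.node 1 (.node 1 .nil .nil) (.node 2 .nil .nil)) (.node 2 .nil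 .nil)) (.node 1 (.node 0 (.node 0 .nil .nil) (.node 1 (.node 0 .nil (.node 2 .nil .nil)) (.node 2 (.node 0 (.node 1 .nil .nil) .nil) .nil))) (.node 2 .nil .nil))) .nil))) (.node 2 (.node 0 (.node 0 (.node 0 .nil (.node 1 .nil (.node 2 (.node 1 .nil .nil) .nil))) (.node 1 (.node 0 (.node 2 (.node 0 .nil (.node 2 .nil .nil)) .nil) (.node 1 (.node 1 .nil .nil) (.node 2 (.node 1 (.node 0 .nil .nil) (.node 2 .nil .nil)) .nil))) (.node 2 (.node 0 (.node 0 .nil (.node 1 .nil (.node 2 (.node 0 .nil .nil) .nil))) (.node 1 (.node 0 (.node 2 .nil .nil) (.node 2 (.node 0 .nil (.node 1 .nil .nil)) .nil)) (.node 2 (.node 0 (.node 1 .nil .nil) (.node 1 (.node 0 .nil .nil) (.node 2 .nil .nil))) .nil))) .nil))) (.node 1 (.node 0 (.node 0 (.node 0 .nil (.node 1 .nil .nil)) (.node 1 .nil .nil)) (.node 1 (.node 0 (.node 2 .nil .nil) (.node 1 (.node 0 (.node 1 .nil .nil) .nil) (.node 2 (.node 1 .nil (.node 2 .nil .nil)) .nil)))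 (.node 2 (.node 0 (.node 1 (.node 1 .nil .nil) (.node 2 .nil .nil)) (.node 2 (.node 1 (.node 1 .nil .nil) (.node 2 (.node 1 .nil .nil) .nil)) .nil)) .nil))) (.node 2 (.node 0 (.node 0 (.node 1 .nil .nil) (.node 1 (.node 0 (.node 0 .nil (.node 2 .nil .nil)) (.node 1 .nil (.node 2 .nil .nil))) (.node 2 (.node 2 (.node 2 .nil .nil) .nil) .nil))) (.node 1 (.node 0 (.node 2 .nil .nil) (.node 2 (.node 0 (.node 0 .nil .nil) (.node 1 .nil (.node 2 (.node 1 .nil .nil) .nil))) .nil)) (.node 2 (.node 1 .nil (.node 2 (.node 1 (.node 0 .nil (.node 2 .nil .nil)) .nil) .nil)) .nil))) .nil))) .nil))) .nil))) (.node 1 (.node 0 (.node 0 (.node 0 (.node 0 (.node 1 (.node 0 (.node 0 .nil .nil) (.node 2 .nil .nil)) (.node 2 (.node 0 .nil (.node 2 .nil .nil)) .nil)) (.node 1 (.node 0 (.node 0 .nil (.node 2 .nil .nil)) (.node 1 .nil (.node 2 (.node 1 .nil (.node 2 .nil .nil)) .nil))) (.node 2 (.node 0 (.node 1 .nil .nil) (.node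 2 (.node 0 .nil (.node 2 .nil .nil)) .nil)) .nil))) (.node 1 (.node 0 (.node 0 (.node 1 .nil (.node 2 .nil .nil)) (.node 1 (.node 2 (.node 0 .nil .nil) .nil) (.node 2 .nil .nil))) (.node 1 (.node 0 (.node 0 .nil (.node 2 .nil .nil)) (.node 1 (.node 0 .nil .nil) (.node 2 (.node 2 .nil .nil) .nil))) (.node 2 (.node 0 .nil (.node 1 (.node 2 .nil .nil) (.node 2 .nil .nil))) .nil))) (.node 2 (.node 0 (.node 0 .nil (.node 2 (.node 2 (.node 2 .nil .nil) .nil) .nil)) (.node 1 (.node 0 (.node 1 .nil (.node 2 .nil .nil)) (.node 1 (.node 2 .nil .nil) (.node 2 .nil .nil))) (.node 2 (.node 1 (.node 0 .nil (.node 2 .nil .nil)) (.node 2 (.node 0 .nil (.node 2 (.node 2 .nil .nil) .nil)) .nil)) .nil))) .nil))) (.node 1 (.node 0 (.node 0 (.node 0 (.node 2 .nil .nil) (.node 1 (.node 0 .nil (.node 2 .nil .nil)) (.node 2 (.node 1 (.node 2 .nil .nil) .nil) .nil))) (.node 1 (.node 0 (.node 0 .nil (.node 2 (.node 0 .nil .nil)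 .nil)) (.node 1 (.node 2 (.node 1 .nil .nil) .nil) .nil)) (.node 2 (.node 0 (.node 1 .nil .nil) (.node 1 (.node 0 .nil (.node 1 .nil .nil)) (.node 2 (.node 0 .nil (.node 1 .nil .nil)) .nil))) .nil))) (.node 1 (.node 0 (.node 2 .nil .nil) (.node 1 (.node 1 .nil (.node 2 (.node 1 .nil .nil) .nil)) (.node 2 (.node 0 (.node 0 (.node 0 .nil .nil) (.node 1 .nil .nil)) (.node 1 .nil .nil)) .nil))) (.node 2 (.node 0 (.node 0 (.node 1 (.node 0 .nil .nil) .nil) (.node 2 .nil .nil)) (.node 1 (.node 0 (.node 1 .nil .nil) (.node 1 (.node 0 (.node 2 .nil .nil) .nil) (.node 2 (.node 1 .nil .nil) .nil))) (.node 2 (.node 0 .nil (.node 2 (.node 2 (.node 1 .nil .nil) .nil) .nil)) .nil))) .nil))) (.node 2 (.node 0 (.node 0 (.node 0 (.node 0 (.node 1 .nil .nil) (.node 1 .nil (.node 2 .nil .nil))) (.node 1 (.node 0 .nil (.node 1 (.node 2 .nil .nil) (.node 2 (.node 0 .nil .nil) .nil))) (.node 2 .nil .nil))) (.node 1 (.node 0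 (.node 1 .nil (.node 2 (.node 0 .nil .nil) .nil)) (.node 1 (.node 1 .nil .nil) (.node 2 (.node 1 (.node 0 .nil .nil) .nil) .nil))) (.node 2 (.node 0 (.node 1 .nil .nil) (.node 1 (.node 2 .nil .nil) (.node 2 (.node 0 .nil (.node 1 .nil .nil)) .nil))) .nil))) (.node 1 (.node 0 (.node 0 .nil (.node 1 (.node 0 .nil .nil) (.node 2 (.node 0 .nil (.node 1 .nil (.node 2 .nil .nil))) .nil))) (.node 1 (.node 0 .nil (.node 1 (.node 1 .nil (.node 2 (.node 1 .nil .nil) .nil)) .nil)) .nil)) (.node 2 (.node 0 (.node 0 (.node 1 .nil .nil) (.node 2 (.node 1 (.node 1 .nil .nil) .nil) .nil)) (.node 1 (.node 0 .nil (.node 2 (.node 0 (.node 0 .nil .nil) (.node 1 .nil (.node 2 (.node 1 .nil .nil) .nil))) .nil)) .nil)) .nil))) .nil))) (.node 1 (.node 0 (.node 0 (.node 0 .nil (.node 1 (.node 0 .nil (.node 1 (.node 0 .nil (.node 1 .nil (.node 2 .nil .nil))) (.node 2 (.node 1 .nil .nil) .nil))) (.node 2 (.node 1 .nil .nil) .nil)))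 (.node 1 (.node 0 (.node 0 (.node 2 .nil .nil) (.node 1 (.node 0 .nil (.node 1 (.node 2 .nil .nil) .nil)) (.node 2 (.node 2 (.node 1 .nil .nil) .nil) .nil))) (.node 1 (.node 0 (.node 0 (.node 2 .nil .nil) (.node 2 .nil .nil)) (.node 1 .nil .nil)) (.node 2 (.node 0 (.node 0 .nil (.node 2 (.node 0 .nil .nil) .nil)) (.node 1 (.node 0 .nil (.node 1 (.node 0 .nil .nil) (.node 2 (.node 0 .nil .nil) .nil))) .nil)) .nil))) (.node 2 (.node 0 (.node 0 (.node 2 .nil .nil) (.node 1 (.node 1 (.node 2 .nil .nil) .nil) (.node 2 (.node 0 .nil (.node 1 .nil .nil)) .nil))) (.node 1 (.node 0 .nil (.node 2 .nil .nil)) .nil)) .nil))) (.node 1 (.node 0 (.node 1 (.node 0 .nil (.node 1 .nil (.node 2 (.node 0 .nil (.node 1 (.node 2 .nil .nil) (.node 2 .nil .nil))) .nil))) (.node 2 (.node 2 (.node 0 .nil (.node 2 (.node 2 .nil .nil) .nil)) .nil) .nil)) (.node 1 (.node 0 (.node 0 (.node 2 .nil .nil) (.node 1 (.node 1 .nil .nil) (.node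 2 (.node 0 .nil .nil) .nil))) (.node 1 (.node 0 (.node 0 .nil (.node 2 .nil .nil)) (.node 1 (.node 1 .nil .nil) (.node 2 .nil .nil))) (.node 2 (.node 0 (.node 0 (.node 1 .nil .nil) (.node 1 .nil .nil)) (.node 1 .nil (.node 2 (.node 0 .nil (.node 1 .nil .nil)) .nil))) .nil))) (.node 2 (.node 0 (.node 1 (.node 0 (.node 1 .nil .nil) .nil) (.node 2 (.node 1 .nil .nil) .nil)) (.node 1 (.node 0 (.node 1 .nil .nil) (.node 1 (.node 1 (.node 0 .nil .nil) (.node 2 .nil .nil)) (.node 2 (.node 0 .nil (.node 1 .nil .nil)) .nil))) (.node 2 (.node 1 (.node 0 .nil .nil) (.node 2 (.node 0 .nil .nil) .nil)) .nil))) .nil))) (.node 2 (.node 0 (.node 0 (.node 0 (.node 0 .nil (.node 2 (.node 0 .nil .nil) .nil)) (.node 1 .nil (.node 2 (.node 0 .nil (.node 2 .nil .nil)) .nil))) (.node 1 (.node 0 (.node 0 .nil (.node 1 (.node 0 .nil .nil) (.node 2 .nil .nil))) (.node 1 .nil .nil)) (.node 2 (.node 1 (.node 0 .nil .nil) (.node 2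 .nil .nil)) .nil))) (.node 1 (.node 1 (.node 1 (.node 0 .nil .nil) (.node 2 (.node 2 (.node 0 .nil .nil) .nil) .nil)) (.node 2 (.node 0 .nil (.node 1 .nil (.node 2 (.node 2 .nil .nil) .nil))) .nil)) (.node 2 (.node 0 (.node 2 (.node 2 .nil .nil) .nil) (.node 1 (.node 2 .nil .nil) (.node 2 (.node 0 (.node 2 .nil .nil) (.node 2 (.node 0 .nil (.node 2 .nil .nil)) .nil)) .nil))) .nil))) .nil))) (.node 2 (.node 0 (.node 0 (.node 0 (.node 0 .nil .nil) (.node 1 (.node 1 .nil (.node 2 .nil .nil)) (.node 2 (.node 0 (.node 2 .nil .nil) (.node 1 (.node 1 .nil (.node 2 (.node 0 .nil .nil) .nil)) (.node 2 (.node 0 .nil (.node 2 .nil .nil)) .nil))) .nil))) (.node 1 (.node 0 (.node 1 (.node 1 .nil .nil) (.node 2 (.node 0 .nil (.node 1 (.node 2 .nil .nil) .nil)) .nil)) (.node 1 (.node 0 (.node 0 .nil (.node 1 .nil .nil)) (.node 1 .nil .nil)) (.node 2 (.node 0 (.node 0 .nil (.node 1 .nil (.node 2 .nil .nil))) .nil) .nil)))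 (.node 2 (.node 0 (.node 0 (.node 1 .nil .nil) (.node 1 (.node 1 .nil (.node 2 .nil .nil)) .nil)) (.node 1 (.node 0 .nil (.node 1 .nil (.node 2 (.node 0 .nil (.node 2 .nil .nil)) .nil))) (.node 2 (.node 0 (.node 0 .nil (.node 2 (.node 2 .nil .nil) .nil)) (.node 1 .nil (.node 2 (.node 1 .nil .nil) .nil))) .nil))) .nil))) (.node 1 (.node 0 (.node 0 (.node 0 (.node 2 (.node 1 .nil .nil) .nil) (.node 1 (.node 0 .nil .nil) (.node 2 (.node 2 .nil .nil) .nil))) (.node 1 (.node 0 (.node 2 .nil .nil) (.node 1 (.node 0 .nil (.node 1 .nil .nil)) (.node 2 (.node 0 .nil .nil) .nil))) (.node 2 (.node 0 (.node 1 .nil (.node 2 .nil .nil)) (.node 1 (.node 1 .nil .nil) .nil)) .nil))) (.node 1 (.node 0 (.node 2 (.node 1 .nil .nil) .nil) (.node 1 (.node 0 .nil .nil) (.node 2 (.node 0 .nil (.node 1 (.node 1 .nil .nil) (.node 2 .nil .nil))) .nil))) (.node 2 (.node 0 (.node 2 (.node 1 (.node 2 .nil .nil) .nil) .nil) (.node 1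 (.node 0 (.node 0 .nil (.node 1 .nil (.node 2 .nil .nil))) (.node 1 (.node 0 .nil (.node 1 .nil (.node 2 (.node 1 .nil .nil) .nil))) (.node 2 (.node 0 .nil .nil) .nil))) (.node 2 (.node 2 (.node 1 .nil .nil) .nil) .nil))) .nil))) (.node 2 (.node 0 (.node 0 (.node 2 .nil .nil) (.node 1 (.node 0 (.node 1 .nil .nil) (.node 1 (.node 2 .nil .nil) .nil)) (.node 2 (.node 1 .nil (.node 2 (.node 0 .nil (.node 2 .nil .nil)) .nil)) .nil))) (.node 1 (.node 0 (.node 0 .nil (.node 1 .nil (.node 2 .nil .nil))) (.node 1 (.node 0 (.node 0 .nil (.node 1 .nil (.node 2 .nil .nil))) (.node 1 (.node 2 .nil .nil) (.node 2 (.node 1 .nil .nil) .nil))) (.node 2 (.node 2 (.node 0 .nil .nil) .nil) .nil))) (.node 2 (.node 0 (.node 0 (.node 2 (.node 1 .nil .nil) .nil) (.node 1 .nil (.node 2 (.node 2 .nil .nil) .nil))) (.node 1 (.node 0 (.node 1 .nil .nil) (.node 2 (.node 0 (.node 2 .nil .nil) .nil) .nil)) (.node 2 (.node 1 (.node 0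 .nil (.node 1 (.node 1 .nil .nil) .nil)) (.node 2 (.node 0 .nil (.node 1 (.node 2 .nil .nil) .nil)) .nil)) .nil))) .nil))) .nil))) .nil))) (.node 2 (.node 0 (.node 0 (.node 0 (.node 0 (.node 1 (.node 2 .nil .nil) (.node 2 (.node 0 .nil .nil) .nil)) (.node 1 (.node 0 (.node 2 .nil .nil) (.node 2 (.node 2 .nil .nil) .nil)) (.node 2 (.node 0 (.node 0 .nil .nil) (.node 1 (.node 0 .nil .nil) .nil)) .nil))) (.node 1 (.node 0 (.node 0 (.node 0 (.node 1 .nil .nil) .nil) (.node 1 .nil (.node 2 .nil .nil))) (.node 1 (.node 0 (.node 1 .nil .nil) .nil) (.node 2 (.node 1 (.node 1 .nil (.node 2 .nil .nil)) (.node 2 (.node 0 .nil (.node 2 .nil .nil)) .nil)) .nil))) (.node 2 (.node 0 (.node 0 (.node 2 .nil .nil) (.node 1 (.node 2 .nil .nil) (.node 2 (.node 0 .nil .nil) .nil))) (.node 1 (.node 0 (.node 0 .nil .nil) (.node 1 (.node 0 .nil (.node 1 .nil .nil)) .nil)) .nil)) .nil))) (.node 1 (.node 0 (.node 0 (.node 0 (.node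 0 .nil (.node 2 (.node 1 .nil .nil) .nil)) .nil) (.node 1 (.node 0 (.node 2 .nil .nil) (.node 1 (.node 1 (.node 0 .nil .nil) .nil) .nil)) (.node 2 (.node 0 (.node 1 .nil .nil) (.node 1 (.node 1 .nil .nil) (.node 2 (.node 0 .nil (.node 1 .nil .nil)) .nil))) .nil))) (.node 1 (.node 0 (.node 0 (.node 2 .nil .nil) (.node 1 (.node 1 .nil .nil) (.node 2 (.node 0 .nil (.node 1 (.node 1 .nil .nil) (.node 2 .nil .nil))) .nil))) (.node 1 (.node 0 (.node 2 .nil .nil) (.node 2 (.node 1 .nil .nil) .nil)) (.node 2 (.node 1 (.node 1 .nil .nil) (.node 2 .nil .nil)) .nil))) (.node 2 (.node 0 (.node 0 .nil (.node 1 (.node 2 .nil .nil) .nil)) (.node 1 (.node 0 (.node 1 .nil .nil) (.node 1 (.node 0 .nil .nil) (.node 2 (.node 1 .nil .nil) .nil))) (.node 2 (.node 0 (.node 2 .nil .nil) (.node 1 .nil .nil)) .nil))) .nil))) (.node 2 (.node 0 (.node 0 (.node 1 .nil .nil) (.node 1 (.node 1 (.node 2 .nil .nil) (.node 2 .nil .nil))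 (.node 2 (.node 0 (.node 0 .nil (.node 1 .nil .nil)) (.node 1 (.node 2 (.node 0 .nil .nil) .nil) .nil)) .nil))) (.node 1 (.node 0 (.node 1 .nil (.node 2 (.node 2 .nil .nil) .nil)) (.node 1 (.node 0 (.node 1 (.node 2 .nil .nil) .nil) (.node 2 (.node 2 .nil .nil) .nil)) (.node 2 (.node 1 (.node 0 (.node 0 .nil .nil) (.node 1 .nil .nil)) .nil) .nil))) (.node 2 (.node 0 (.node 0 (.node 0 (.node 2 .nil .nil) (.node 2 .nil .nil)) (.node 1 (.node 0 .nil (.node 1 .nil (.node 2 .nil .nil))) (.node 2 (.node 1 .nil .nil) .nil))) (.node 1 (.node 0 (.node 1 .nil .nil) (.node 1 (.node 1 .nil .nil) .nil)) (.node 2 (.node 0 .nil (.node 2 (.node 0 .nil .nil) .nil)) .nil))) .nil))) .nil))) (.node 1 (.node 0 (.node 0 (.node 1 (.node 0 .nil (.node 1 (.node 1 (.node 0 .nil .nil) .nil) .nil)) (.node 2 (.node 0 .nil .nil) .nil)) (.node 1 (.node 0 (.node 0 (.node 0 .nil (.node 1 .nil .nil)) (.node 1 (.node 0 .nil (.node 1 (.node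 1 .nil .nil) .nil)) (.node 2 (.node 2 .nil .nil) .nil))) (.node 1 (.node 1 .nil (.node 2 (.node 0 (.node 2 .nil .nil) (.node 1 .nil .nil)) .nil)) (.node 2 (.node 1 .nil (.node 2 (.node 0 .nil .nil) .nil)) .nil))) (.node 2 (.node 0 (.node 0 (.node 2 .nil .nil) (.node 1 .nil (.node 2 (.node 0 .nil (.node 1 .nil .nil)) .nil))) (.node 2 (.node 0 (.node 1 .nil .nil) (.node 2 (.node 1 .nil (.node 2 .nil .nil)) .nil)) .nil)) .nil))) (.node 1 (.node 0 (.node 0 (.node 0 (.node 1 .nil (.node 2 .nil .nil)) (.node 1 (.node 0 .nil .nil) (.node 2 (.node 1 .nil (.node 2 .nil .nil)) .nil))) (.node 1 (.node 0 .nil .nil) (.node 2 (.node 0 (.node 0 .nil .nil) (.node 1 (.node 0 .nil .nil) .nil)) .nil))) (.node 1 (.node 0 (.node 0 (.node 0 (.node 0 .nil .nil) (.node 2 (.node 0 .nil .nil) .nil)) (.node 1 .nil (.node 2 (.node 1 (.node 1 .nil .nil) .nil) .nil))) (.node 1 (.node 0 .nil (.node 1 (.node 1 .nil .nil) .nil)) (.node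 2 (.node 1 (.node 1 .nil .nil) (.node 2 .nil .nil)) .nil))) (.node 2 (.node 0 (.node 1 (.node 1 .nil .nil) (.node 2 .nil .nil)) (.node 1 (.node 0 (.node 1 .nil .nil) (.node 1 .nil .nil)) (.node 2 (.node 0 (.node 2 .nil .nil) (.node 1 (.node 0 (.node 2 .nil .nil) (.node 2 .nil .nil)) (.node 2 .nil .nil))) .nil))) .nil))) (.node 2 (.node 0 (.node 0 (.node 0 .nil (.node 1 (.node 1 .nil (.node 2 (.node 2 .nil .nil) .nil)) (.node 2 (.node 2 .nil .nil) .nil))) (.node 1 (.node 1 (.node 0 .nil .nil) .nil) (.node 2 (.node 0 (.node 0 .nil (.node 2 .nil .nil)) (.node 2 (.node 1 .nil .nil) .nil)) .nil))) (.node 1 (.node 1 (.node 0 (.node 0 .nil (.node 2 .nil .nil)) (.node 1 .nil (.node 2 (.node 0 .nil (.node 1 .nil (.node 2 .nil .nil))) .nil))) (.node 2 (.node 0 (.node 0 .nil .nil) (.node 1 (.node 0 .nil (.node 2 .nil .nil)) .nil)) .nil)) (.node 2 (.node 0 (.node 0 (.node 1 .nil (.node 2 .nil .nil)) (.node 2 .nil .nil))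 (.node 1 (.node 0 (.node 1 .nil (.node 2 .nil .nil)) (.node 2 .nil .nil)) (.node 2 (.node 0 .nil (.node 1 (.node 2 (.node 0 .nil (.node 2 .nil .nil)) .nil) (.node 2 .nil .nil))) .nil))) .nil))) .nil))) (.node 2 (.node 0 (.node 0 (.node 0 (.node 0 (.node 2 .nil .nil) (.node 1 .nil (.node 2 (.node 1 (.node 1 .nil .nil) .nil) .nil))) (.node 1 (.node 1 .nil .nil) (.node 2 (.node 0 (.node 2 .nil .nil) (.node 2 .nil .nil)) .nil))) (.node 1 (.node 0 (.node 1 .nil .nil) (.node 1 (.node 0 .nil (.node 1 (.node 0 (.node 1 .nil .nil) (.node 1 .nil (.node 2 .nil .nil))) (.node 2 .nil .nil))) (.node 2 (.node 0 (.node 2 .nil .nil) (.node 1 .nil (.node 2 .nil .nil))) .nil))) (.node 2 (.node 0 (.node 0 (.node 0 .nil (.node 2 (.node 2 .nil .nil) .nil)) (.node 1 (.node 1 .nil .nil) (.node 2 .nil .nil))) (.node 1 (.node 0 (.node 1 .nil .nil) (.node 1 (.node 0 (.node 0 .nil .nil) (.node 1 .nil (.node 2 .nil .nil))) (.node 2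 (.node 0 .nil .nil) .nil))) (.node 2 (.node 0 (.node 2 .nil .nil) (.node 1 (.node 0 .nil .nil) (.node 2 .nil .nil))) .nil))) .nil))) (.node 1 (.node 0 (.node 0 (.node 1 (.node 2 .nil .nil) (.node 2 .nil .nil)) (.node 1 (.node 0 (.node 1 .nil (.node 2 .nil .nil)) (.node 2 (.node 0 .nil .nil) .nil)) (.node 2 (.node 1 .nil .nil) .nil))) (.node 1 (.node 0 (.node 0 (.node 2 .nil .nil) .nil) (.node 1 (.node 0 (.node 0 (.node 2 .nil .nil) (.node 1 .nil (.node 2 .nil .nil))) (.node 1 (.node 0 .nil .nil) (.node 2 (.node 0 .nil .nil) .nil))) (.node 2 (.node 0 (.node 0 (.node 0 .nil .nil) (.node 2 .nil .nil)) (.node 1 (.node 2 .nil .nil) .nil)) .nil))) (.node 2 (.node 1 (.node 1 (.node 2 .nil .nil) .nil) (.node 2 (.node 0 (.node 0 .nil .nil) (.node 1 (.node 1 .nil (.node 2 .nil .nil)) (.node 2 .nil .nil))) .nil)) .nil))) (.node 2 (.node 0 (.node 0 (.node 1 (.node 0 .nil (.node 2 .nil .nil)) (.node 2 (.node 1 .nil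 .nil) .nil)) (.node 1 (.node 0 (.node 0 .nil .nil) (.node 1 (.node 2 .nil .nil) (.node 2 (.node 1 .nil .nil) .nil))) (.node 2 (.node 0 (.node 0 .nil (.node 1 .nil .nil)) (.node 1 (.node 0 .nil .nil) .nil)) .nil))) (.node 1 (.node 0 (.node 0 (.node 2 .nil .nil) .nil) (.node 1 (.node 0 (.node 1 .nil .nil) (.node 1 (.node 1 (.node 0 .nil (.node 2 .nil .nil)) (.node 2 .nil .nil)) (.node 2 (.node 2 .nil .nil) .nil))) (.node 2 (.node 2 (.node 1 .nil .nil) .nil) .nil))) (.node 2 (.node 0 (.node 1 (.node 2 (.node 0 .nil .nil) .nil) (.node 2 (.node 0 .nil .nil) .nil)) (.node 1 (.node 1 .nil .nil) (.node 2 .nil .nil))) .nil))) .nil))) .nil))) .nil))) (.node 1 (.node 0 (.node 0 (.node 0 (.node 0 (.node 1 (.node 0 .nil (.node 2 (.node 2 .nil .nil) .nil)) (.node 2 (.node 2 .nil .nil) .nil)) (.node 1 (.node 0 (.node 0 (.node 1 .nil .nil) (.node 1 (.node 0 .nil (.node 1 .nil (.node 2 .nil .nil))) .nil)) (.node 1 (.node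 1 (.node 0 .nil (.node 2 .nil .nil)) (.node 2 (.node 0 .nil .nil) .nil)) (.node 2 .nil .nil))) (.node 2 (.node 0 (.node 0 (.node 1 .nil (.node 2 (.node 1 .nil .nil) .nil)) (.node 1 (.node 2 .nil .nil) (.node 2 (.node 1 .nil .nil) .nil))) (.node 1 (.node 0 .nil (.node 1 (.node 1 .nil .nil) (.node 2 (.node 0 .nil (.node 1 (.node 0 .nil .nil) .nil)) .nil))) (.node 2 (.node 0 (.node 0 .nil (.node 1 .nil .nil)) .nil) .nil))) .nil))) (.node 1 (.node 0 (.node 0 (.node 0 (.node 1 .nil .nil) (.node 1 .nil (.node 2 .nil .nil))) (.node 1 (.node 0 .nil (.node 1 (.node 0 .nil .nil) .nil)) (.node 2 (.node 1 .nil (.node 2 (.node 1 .nil .nil) .nil)) .nil))) (.node 1 (.node 0 (.node 0 (.node 0 .nil .nil) (.node 1 (.node 2 .nil .nil) (.node 2 (.node 1 .nil .nil) .nil))) (.node 1 (.node 0 (.node 0 .nil (.node 1 .nil (.node 2 (.node 0 .nil .nil) .nil))) (.node 1 (.node 0 .nil .nil) (.node 2 (.node 0 .nil (.node 1 .nil (.node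 2 .nil .nil))) .nil))) .nil)) (.node 2 (.node 0 (.node 0 .nil (.node 1 (.node 0 .nil .nil) (.node 2 (.node 0 .nil (.node 2 .nil .nil)) .nil))) (.node 1 (.node 0 .nil (.node 1 (.node 0 .nil .nil) .nil)) (.node 2 (.node 1 .nil .nil) .nil))) .nil))) (.node 2 (.node 0 (.node 0 (.node 0 (.node 2 .nil .nil) (.node 2 (.node 0 .nil (.node 1 .nil .nil)) .nil)) (.node 2 (.node 0 .nil (.node 1 .nil (.node 2 (.node 1 (.node 1 .nil .nil) .nil) .nil))) .nil)) (.node 1 (.node 0 (.node 0 (.node 1 .nil .nil) (.node 1 (.node 0 .nil .nil) (.node 2 .nil .nil))) (.node 1 (.node 0 (.node 1 .nil .nil) (.node 1 (.node 0 .nil (.node 2 .nil .nil)) (.node 2 .nil .nil))) (.node 2 (.node 0 (.node 0 .nil (.node 1 .nil .nil)) (.node 1 (.node 0 .nil (.node 1 .nil .nil)) (.node 2 (.node 0 .nil .nil) .nil))) .nil))) (.node 2 (.node 0 (.node 2 (.node 0 (.node 1 .nil .nil) (.node 1 .nil .nil)) .nil) (.node 1 (.node 0 (.node 1 .nil .nil) (.node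 2 .nil .nil)) (.node 2 (.node 0 (.node 0 .nil (.node 1 .nil .nil)) (.node 1 .nil .nil)) .nil))) .nil))) .nil))) (.node 1 (.node 0 (.node 0 (.node 1 (.node 1 .nil (.node 2 .nil .nil)) (.node 2 (.node 2 (.node 0 .nil .nil) .nil) .nil)) (.node 1 (.node 0 (.node 0 (.node 0 .nil (.node 1 .nil .nil)) (.node 2 (.node 0 .nil .nil) .nil)) (.node 1 (.node 0 (.node 0 .nil .nil) (.node 1 (.node 0 .nil (.node 1 .nil .nil)) .nil)) (.node 2 (.node 0 (.node 2 .nil .nil) (.node 1 (.node 1 .nil .nil) (.node 2 (.node 1 .nil .nil) .nil))) .nil))) (.node 2 (.node 0 (.node 0 .nil (.node 1 .nil (.node 2 (.node 2 (.node 2 .nil .nil) .nil) .nil))) (.node 1 (.node 0 (.node 2 .nil .nil) (.node 1 .nil .nil)) (.node 2 (.node 0 (.node 1 .nil (.node 2 (.node 2 .nil .nil) .nil)) (.node 1 (.node 2 .nil .nil) .nil)) .nil))) .nil))) (.node 1 (.node 0 (.node 0 (.node 0 (.node 2 .nil .nil) (.node 1 (.node 2 (.node 2 .nil .nil) .nil) (.node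 2 (.node 1 .nil (.node 2 .nil .nil)) .nil))) (.node 1 (.node 0 .nil (.node 1 (.node 0 .nil (.node 2 .nil .nil)) (.node 2 .nil .nil))) (.node 2 (.node 0 (.node 0 .nil (.node 2 .nil .nil)) (.node 1 (.node 1 .nil .nil) .nil)) .nil))) (.node 1 (.node 0 (.node 2 .nil .nil) (.node 1 (.node 0 (.node 0 .nil .nil) .nil) (.node 2 (.node 0 .nil (.node 2 (.node 0 .nil .nil) .nil)) .nil))) (.node 2 (.node 0 (.node 2 (.node 0 .nil (.node 1 .nil (.node 2 .nil .nil))) .nil) (.node 1 (.node 0 (.node 0 .nil .nil) (.node 1 (.node 0 .nil .nil) .nil)) (.node 2 (.node 2 .nil .nil) .nil))) .nil))) (.node 2 (.node 0 (.node 0 (.node 0 (.node 1 .nil .nil) (.node 1 .nil .nil)) (.node 1 (.node 0 (.node 2 .nil .nil) (.node 1 .nil (.node 2 .nil .nil))) (.node 2 (.node 0 (.node 2 .nil .nil) .nil) .nil))) (.node 1 (.node 0 (.node 0 .nil (.node 2 .nil .nil)) (.node 1 (.node 0 .nil (.node 1 .nil (.node 2 .nil .nil))) (.node 2 (.node 0 .nil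 (.node 1 (.node 2 .nil .nil) (.node 2 (.node 2 .nil .nil) .nil))) .nil))) (.node 2 (.node 0 (.node 0 .nil (.node 2 .nil .nil)) (.node 1 (.node 0 .nil (.node 1 (.node 1 (.node 2 .nil .nil) .nil) .nil)) (.node 2 (.node 0 .nil (.node 2 (.node 0 .nil (.node 1 .nil .nil)) .nil)) .nil))) .nil))) .nil))) (.node 2 (.node 0 (.node 0 (.node 0 (.node 0 (.node 1 .nil .nil) (.node 2 (.node 0 .nil .nil) .nil)) (.node 1 (.node 0 (.node 1 .nil (.node 2 .nil .nil)) (.node 1 (.node 0 .nil .nil) (.node 2 (.node 0 .nil (.node 1 (.node 1 .nil .nil) .nil)) .nil))) (.node 2 (.node 1 .nil (.node 2 (.node 0 .nil .nil) .nil)) .nil))) (.node 1 (.node 0 (.node 2 .nil .nil) (.node 1 (.node 1 (.node 1 .nil .nil) (.node 2 (.node 0 .nil .nil) .nil)) .nil)) (.node 2 (.node 0 (.node 0 .nil (.node 1 .nil (.node 2 (.node 1 (.node 2 .nil .nil) .nil) .nil))) (.node 1 (.node 2 .nil .nil) (.node 2 (.node 1 (.node 1 .nil (.node 2 (.node 1 .nil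 .nil) .nil)) (.node 2 (.node 2 .nil .nil) .nil)) .nil))) .nil))) (.node 1 (.node 0 (.node 0 .nil (.node 1 (.node 1 .nil (.node 2 .nil .nil)) (.node 2 (.node 1 .nil (.node 2 .nil .nil)) .nil))) (.node 1 (.node 0 (.node 0 (.node 0 .nil (.node 2 .nil .nil)) (.node 1 (.node 0 .nil (.node 2 .nil .nil)) (.node 2 (.node 1 (.node 2 .nil .nil) .nil) .nil))) (.node 1 (.node 0 .nil (.node 1 (.node 0 .nil (.node 1 .nil .nil)) (.node 2 (.node 0 .nil .nil) .nil))) (.node 2 (.node 1 (.node 0 .nil (.node 2 .nil .nil)) .nil) .nil))) (.node 2 (.node 2 (.node 1 (.node 2 .nil .nil) (.node 2 (.node 2 .nil .nil) .nil)) .nil) .nil))) (.node 2 (.node 0 (.node 0 .nil (.node 2 (.node 0 (.node 0 .nil (.node 2 .nil .nil)) (.node 1 (.node 1 .nil (.node 2 (.node 2 .nil .nil) .nil)) .nil)) .nil)) (.node 1 (.node 0 (.node 0 (.node 2 .nil .nil) (.node 2 (.node 1 .nil .nil) .nil)) (.node 1 (.node 0 .nil (.node 1 .nil (.node 2 .nil .nil)))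 (.node 2 (.node 0 .nil (.node 1 .nil (.node 2 .nil .nil))) .nil))) (.node 2 (.node 1 (.node 1 (.node 0 .nil .nil) .nil) (.node 2 (.node 0 .nil (.node 1 .nil .nil)) .nil)) .nil))) .nil))) .nil))) (.node 1 (.node 0 (.node 0 (.node 0 (.node 0 (.node 1 .nil (.node 2 (.node 1 .nil .nil) .nil)) (.node 1 (.node 1 (.node 0 .nil (.node 2 .nil .nil)) (.node 2 (.node 2 .nil .nil) .nil)) (.node 2 (.node 0 (.node 0 .nil .nil) (.node 1 (.node 1 .nil (.node 2 .nil .nil)) (.node 2 .nil .nil))) .nil))) (.node 1 (.node 0 (.node 1 .nil .nil) (.node 1 (.node 0 (.node 1 .nil .nil) (.node 1 (.node 1 (.node 0 .nil .nil) .nil) (.node 2 .nil .nil))) (.node 2 (.node 0 .nil (.node 1 .nil .nil)) .nil))) (.node 2 (.node 1 (.node 1 (.node 1 .nil (.node 2 .nil .nil)) (.node 2 .nil .nil)) (.node 2 (.node 0 (.node 0 .nil .nil) (.node 1 (.node 0 .nil .nil) (.node 2 .nil .nil))) .nil)) .nil))) (.node 1 (.node 0 (.node 0 (.node 0 (.node 0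 .nil (.node 2 .nil .nil)) .nil) (.node 1 (.node 0 .nil (.node 1 .nil (.node 2 (.node 0 .nil .nil) .nil))) (.node 2 (.node 0 (.node 2 .nil .nil) (.node 1 (.node 0 .nil .nil) (.node 2 .nil .nil))) .nil))) (.node 1 (.node 0 (.node 0 .nil (.node 1 .nil (.node 2 .nil .nil))) (.node 1 (.node 0 (.node 1 .nil (.node 2 .nil .nil)) (.node 1 (.node 0 .nil .nil) (.node 2 (.node 0 .nil (.node 2 .nil .nil)) .nil))) (.node 2 (.node 1 (.node 1 .nil .nil) (.node 2 .nil .nil)) .nil))) (.node 2 (.node 0 (.node 0 .nil .nil) (.node 1 (.node 1 (.node 0 .nil (.node 2 .nil .nil)) (.node 2 (.node 0 .nil (.node 1 .nil .nil)) .nil)) .nil)) .nil))) (.node 2 (.node 0 (.node 0 (.node 2 .nil .nil) (.node 1 (.node 0 .nil (.node 1 .nil (.node 2 (.node 2 .nil .nil) .nil))) (.node 2 (.node 0 (.node 1 .nil .nil) (.node 2 .nil .nil)) .nil))) (.node 1 (.node 0 (.node 0 (.node 2 .nil .nil) (.node 2 (.node 0 .nil .nil) .nil)) (.node 1 (.node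 0 (.node 2 .nil .nil) (.node 1 .nil (.node 2 (.node 1 .nil (.node 2 .nil .nil)) .nil))) (.node 2 (.node 2 (.node 0 .nil (.node 2 .nil .nil)) .nil) .nil))) (.node 2 (.node 0 (.node 1 .nil (.node 2 (.node 0 .nil .nil) .nil)) (.node 1 (.node 0 (.node 0 .nil (.node 1 .nil (.node 2 .nil .nil))) (.node 1 .nil .nil)) .nil)) .nil))) .nil))) (.node 1 (.node 0 (.node 0 (.node 1 (.node 0 (.node 1 .nil .nil) (.node 2 (.node 1 .nil .nil) .nil)) (.node 2 (.node 0 .nil (.node 1 (.node 1 .nil .nil) .nil)) .nil)) (.node 1 (.node 0 (.node 0 (.node 1 .nil .nil) .nil) (.node 1 (.node 0 (.node 1 .nil .nil) (.node 2 (.node 1 .nil .nil) .nil)) .nil)) (.node 2 (.node 0 (.node 0 (.node 1 .nil .nil) (.node 1 (.node 2 .nil .nil) (.node 2 .nil .nil))) (.node 1 (.node 0 (.node 1 .nil .nil) (.node 1 (.node 2 .nil .nil) (.node 2 (.node 1 .nil .nil) .nil))) (.node 2 (.node 1 (.node 2 .nil .nil) (.node 2 .nil .nil)) .nil))) .nil))) (.node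 1 (.node 0 (.node 0 (.node 1 (.node 1 (.node 1 .nil .nil) .nil) (.node 2 (.node 2 .nil .nil) .nil)) (.node 1 (.node 0 (.node 0 .nil .nil) (.node 1 .nil (.node 2 (.node 0 .nil (.node 1 .nil (.node 2 .nil .nil))) .nil))) (.node 2 (.node 1 (.node 0 .nil .nil) (.node 2 .nil .nil)) .nil))) (.node 1 (.node 0 (.node 1 (.node 2 .nil .nil) .nil) (.node 1 (.node 1 (.node 1 .nil (.node 2 .nil .nil)) (.node 2 .nil .nil)) (.node 2 (.node 0 .nil (.node 1 (.node 1 .nil .nil) (.node 2 .nil .nil))) .nil))) (.node 2 (.node 0 (.node 0 (.node 2 .nil .nil) (.node 1 (.node 0 .nil .nil) (.node 2 (.node 0 .nil .nil) .nil))) (.node 2 (.node 0 (.node 0 .nil (.node 1 .nil .nil)) (.node 1 .nil (.node 2 (.node 1 .nil .nil) .nil))) .nil)) .nil))) (.node 2 (.node 0 (.node 0 (.node 0 (.node 0 .nil (.node 1 .nil .nil)) (.node 1 (.node 2 .nil .nil) .nil)) (.node 1 (.node 0 (.node 0 .nil .nil) (.node 1 (.node 0 (.node 2 .nil .nil) .nil)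 (.node 2 (.node 0 .nil (.node 2 .nil .nil)) .nil))) (.node 2 .nil .nil))) (.node 1 (.node 1 (.node 0 .nil (.node 1 .nil .nil)) (.node 2 (.node 0 (.node 0 .nil .nil) (.node 1 .nil .nil)) .nil)) (.node 2 (.node 1 .nil .nil) .nil))) .nil))) (.node 2 (.node 0 (.node 0 (.node 0 (.node 0 .nil .nil) (.node 1 (.node 0 (.node 0 .nil (.node 1 .nil (.node 2 .nil .nil))) (.node 1 (.node 2 (.node 0 .nil .nil) .nil) (.node 2 .nil .nil))) (.node 2 (.node 1 (.node 0 .nil .nil) (.node 2 (.node 1 (.node 1 .nil .nil) .nil) .nil)) .nil))) (.node 1 (.node 0 (.node 1 (.node 2 .nil .nil) .nil) (.node 1 (.node 0 .nil (.node 1 (.node 1 .nil .nil) .nil)) .nil)) (.node 2 (.node 2 (.node 0 (.node 2 .nil .nil) (.node 1 (.node 0 .nil (.node 2 .nil .nil)) (.node 2 .nil .nil))) .nil) .nil))) (.node 1 (.node 0 (.node 0 (.node 2 .nil .nil) (.node 2 (.node 1 .nil (.node 2 .nil .nil)) .nil)) (.node 1 (.node 0 (.node 0 (.node 0 .nil .nil)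 (.node 1 (.node 1 .nil .nil) (.node 2 (.node 2 .nil .nil) .nil))) (.node 2 (.node 0 (.node 0 .nil .nil) (.node 2 .nil .nil)) .nil)) (.node 2 (.node 0 .nil .nil) .nil))) (.node 2 (.node 0 (.node 0 (.node 0 (.node 2 .nil .nil) (.node 2 .nil .nil)) (.node 1 (.node 0 .nil (.node 1 .nil (.node 2 .nil .nil))) (.node 2 (.node 0 (.node 0 (.node 1 .nil .nil) (.node 2 .nil .nil)) (.node 2 (.node 1 .nil (.node 2 .nil .nil)) .nil)) .nil))) (.node 1 (.node 0 (.node 0 .nil (.node 1 .nil .nil)) (.node 1 (.node 1 (.node 0 .nil (.node 1 .nil .nil)) (.node 2 (.node 2 .nil .nil) .nil)) (.node 2 (.node 2 .nil .nil) .nil))) (.node 2 (.node 0 (.node 1 (.node 2 .nil .nil) (.node 2 (.node 2 .nil .nil) .nil)) (.node 1 (.node 0 (.node 0 (.node 2 .nil .nil) .nil) .nil) (.node 2 (.node 0 .nil (.node 2 (.node 0 .nil (.node 2 .nil .nil)) .nil)) .nil))) .nil))) .nil))) .nil))) (.node 2 (.node 0 (.node 0 (.node 0 (.node 0 (.node 2 (.node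 2 .nil .nil) .nil) (.node 2 (.node 2 .nil .nil) .nil)) (.node 1 (.node 0 (.node 1 (.node 2 .nil .nil) (.node 2 (.node 0 .nil .nil) .nil)) (.node 1 (.node 1 .nil .nil) (.node 2 (.node 2 (.node 1 (.node 1 .nil .nil) .nil) .nil) .nil))) (.node 2 (.node 0 (.node 2 (.node 1 .nil .nil) .nil) (.node 1 (.node 0 .nil (.node 1 (.node 0 .nil .nil) .nil)) (.node 2 (.node 0 (.node 0 .nil .nil) (.node 2 .nil .nil)) .nil))) .nil))) (.node 1 (.node 0 (.node 0 (.node 0 (.node 1 .nil .nil) (.node 1 .nil (.node 2 .nil .nil))) (.node 1 (.node 0 (.node 1 .nil .nil) (.node 1 .nil .nil)) (.node 2 (.node 0 (.node 1 .nil (.node 2 .nil .nil)) .nil) .nil))) (.node 1 (.node 0 (.node 0 (.node 1 .nil .nil) (.node 1 (.node 0 .nil .nil) (.node 2 (.node 0 .nil .nil) .nil))) (.node 1 (.node 0 .nil (.node 1 .nil .nil)) (.node 2 (.node 1 .nil (.node 2 (.node 2 .nil .nil) .nil)) .nil))) (.node 2 (.node 0 (.node 1 (.node 0 .nil .nil) .nil)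 (.node 1 (.node 1 .nil (.node 2 .nil .nil)) (.node 2 (.node 2 (.node 2 .nil .nil) .nil) .nil))) .nil))) (.node 2 (.node 0 (.node 0 (.node 0 .nil (.node 2 (.node 1 .nil .nil) .nil)) (.node 1 (.node 0 (.node 1 .nil .nil) (.node 2 (.node 1 .nil .nil) .nil)) (.node 2 (.node 2 .nil .nil) .nil))) (.node 1 (.node 2 (.node 0 (.node 2 .nil .nil) (.node 1 .nil .nil)) .nil) (.node 2 (.node 0 (.node 1 .nil (.node 2 .nil .nil)) (.node 1 (.node 2 .nil .nil) (.node 2 (.node 0 .nil (.node 1 (.node 1 .nil .nil) (.node 2 (.node 2 .nil .nil) .nil))) .nil))) .nil))) .nil))) (.node 1 (.node 0 (.node 0 (.node 0 (.node 0 .nil .nil) (.node 1 (.node 1 (.node 2 .nil .nil) .nil) (.node 2 (.node 1 (.node 2 .nil .nil) .nil) .nil))) (.node 1 (.node 0 (.node 0 (.node 2 .nil .nil) (.node 1 (.node 1 .nil .nil) .nil)) (.node 1 (.node 0 .nil (.node 1 (.node 2 .nil .nil) (.node 2 (.node 1 .nil .nil) .nil))) (.node 2 (.node 1 (.node 1 .nil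 .nil) .nil) .nil))) (.node 2 (.node 0 (.node 1 .nil .nil) (.node 1 (.node 0 (.node 0 .nil .nil) (.node 1 .nil .nil)) (.node 2 .nil .nil))) .nil))) (.node 1 (.node 0 (.node 0 (.node 0 (.node 0 .nil .nil) .nil) (.node 1 (.node 0 (.node 0 .nil .nil) .nil) (.node 2 (.node 2 (.node 1 .nil .nil) .nil) .nil))) (.node 1 (.node 0 (.node 1 .nil .nil) (.node 1 (.node 0 .nil (.node 1 (.node 1 .nil .nil) .nil)) (.node 2 (.node 0 .nil (.node 2 .nil .nil)) .nil))) (.node 2 (.node 0 (.node 0 .nil (.node 1 (.node 1 .nil .nil) (.node 2 (.node 0 .nil .nil) .nil))) (.node 1 (.node 0 .nil (.node 1 (.node 1 .nil .nil) (.node 2 .nil .nil))) (.node 2 (.node 0 (.node 2 .nil .nil) (.node 1 (.node 0 .nil .nil) (.node 2 (.node 0 .nil .nil) .nil))) .nil))) .nil))) (.node 2 (.node 1 (.node 0 (.node 0 .nil (.node 1 .nil (.node 2 (.node 2 .nil .nil) .nil))) (.node 1 (.node 0 .nil (.node 1 .nil (.node 2 (.node 0 .nil .nil) .nil))) (.node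 2 (.node 0 .nil (.node 2 .nil .nil)) .nil))) (.node 2 (.node 0 (.node 0 .nil (.node 1 (.node 2 .nil .nil) .nil)) (.node 1 (.node 2 (.node 0 .nil .nil) .nil) (.node 2 (.node 1 (.node 2 .nil .nil) (.node 2 .nil .nil)) .nil))) .nil)) .nil))) (.node 2 (.node 0 (.node 0 (.node 0 (.node 1 .nil (.node 2 .nil .nil)) (.node 1 (.node 0 (.node 0 .nil (.node 2 .nil .nil)) (.node 1 .nil .nil)) (.node 2 (.node 0 .nil (.node 1 .nil (.node 2 (.node 2 .nil .nil) .nil))) .nil))) (.node 1 (.node 0 (.node 0 (.node 2 .nil .nil) (.node 1 (.node 2 .nil .nil) .nil)) (.node 1 (.node 0 .nil (.node 2 .nil .nil)) .nil)) .nil)) (.node 1 (.node 0 (.node 0 (.node 1 (.node 1 .nil .nil) .nil) (.node 1 (.node 0 (.node 1 .nil .nil) (.node 2 (.node 0 .nil (.node 2 .nil .nil)) .nil)) (.node 2 (.node 2 (.node 0 .nil .nil) .nil) .nil))) (.node 1 .nil (.node 2 (.node 0 (.node 0 .nil (.node 1 (.node 0 .nil .nil) (.node 2 .nil .nil))) (.node 1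 (.node 0 .nil (.node 1 .nil (.node 2 .nil .nil))) (.node 2 (.node 0 (.node 1 .nil (.node 2 .nil .nil)) (.node 1 .nil (.node 2 (.node 2 .nil .nil) .nil))) .nil))) .nil))) (.node 2 (.node 1 (.node 0 (.node 0 .nil (.node 1 (.node 1 .nil .nil) .nil)) (.node 1 (.node 2 .nil .nil) (.node 2 .nil .nil))) .nil) .nil))) .nil))) .nil))) (.node 2 (.node 0 (.node 0 (.node 0 (.node 0 (.node 1 (.node 0 (.node 0 .nil (.node 1 .nil (.node 2 .nil .nil))) (.node 1 (.node 2 .nil .nil) (.node 2 .nil .nil))) (.node 2 (.node 0 (.node 2 .nil .nil) (.node 1 (.node 1 .nil .nil) (.node 2 .nil .nil))) .nil)) (.node 1 (.node 1 (.node 2 (.node 0 .nil .nil) .nil) (.node 2 (.node 0 (.node 0 .nil (.node 2 .nil .nil)) (.node 1 .nil (.node 2 .nil .nil))) .nil)) (.node 2 (.node 0 (.node 0 .nil (.node 1 .nil .nil)) (.node 1 (.node 0 .nil .nil) (.node 2 .nil .nil))) .nil))) (.node 1 (.node 0 (.node 0 (.node 0 .nil (.node 1 (.node 1 .nil (.node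 2 .nil .nil)) .nil)) (.node 1 (.node 0 .nil (.node 2 (.node 0 .nil .nil) .nil)) (.node 2 (.node 0 (.node 2 .nil .nil) .nil) .nil))) (.node 2 (.node 0 (.node 0 .nil (.node 2 .nil .nil)) (.node 2 (.node 0 .nil .nil) .nil)) .nil)) (.node 2 (.node 0 (.node 0 (.node 1 .nil (.node 2 .nil .nil)) (.node 1 (.node 0 (.node 0 .nil (.node 1 .nil (.node 2 .nil .nil))) .nil) (.node 2 (.node 0 (.node 1 .nil (.node 2 .nil .nil)) (.node 2 (.node 1 .nil .nil) .nil)) .nil))) (.node 1 (.node 0 .nil (.node 2 (.node 1 (.node 2 .nil .nil) .nil) .nil)) (.node 2 (.node 0 (.node 0 .nil (.node 1 (.node 2 .nil .nil) (.node 2 (.node 1 .nil .nil) .nil))) (.node 1 (.node 1 (.node 0 .nil (.node 1 .nil .nil)) (.node 2 .nil .nil)) (.node 2 (.node 0 .nil (.node 2 (.node 2 .nil .nil) .nil)) .nil))) .nil))) .nil))) (.node 1 (.node 0 (.node 0 (.node 0 (.node 1 .nil .nil) (.node 1 (.node 1 .nil (.node 2 .nil .nil)) (.node 2 (.node 1 .nil (.node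 2 .nil .nil)) .nil))) (.node 1 (.node 0 (.node 2 (.node 0 .nil (.node 1 .nil .nil)) .nil) (.node 1 (.node 0 (.node 2 .nil .nil) (.node 1 (.node 2 .nil .nil) (.node 2 (.node 1 .nil (.node 2 .nil .nil)) .nil))) (.node 2 (.node 1 .nil (.node 2 .nil .nil)) .nil))) (.node 2 (.node 0 (.node 0 .nil (.node 1 .nil (.node 2 (.node 0 .nil .nil) .nil))) (.node 1 (.node 0 (.node 1 .nil .nil) (.node 1 .nil (.node 2 .nil .nil))) (.node 2 (.node 0 .nil (.node 2 (.node 0 .nil (.node 1 .nil .nil)) .nil)) .nil))) .nil))) (.node 1 (.node 0 (.node 0 (.node 0 (.node 0 .nil (.node 2 .nil .nil)) (.node 1 (.node 0 .nil .nil) .nil)) .nil) (.node 1 (.node 1 (.node 0 (.node 0 .nil (.node 2 .nil .nil)) (.node 1 .nil (.node 2 .nil .nil))) (.node 2 (.node 2 (.node 0 .nil .nil) .nil) .nil)) (.node 2 (.node 0 (.node 2 (.node 0 .nil .nil) .nil) (.node 1 (.node 1 .nil (.node 2 .nil .nil)) (.node 2 (.node 2 .nil .nil) .nil))) .nil))) (.node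 2 (.node 0 (.node 0 (.node 2 .nil .nil) (.node 1 (.node 1 (.node 1 .nil .nil) (.node 2 (.node 1 .nil .nil) .nil)) (.node 2 (.node 1 .nil (.node 2 (.node 1 .nil .nil) .nil)) .nil))) (.node 1 (.node 1 (.node 0 .nil (.node 1 .nil .nil)) .nil) (.node 2 (.node 0 (.node 0 .nil (.node 1 (.node 0 .nil .nil) (.node 2 (.node 0 .nil .nil) .nil))) (.node 1 (.node 0 .nil (.node 1 (.node 2 .nil .nil) .nil)) (.node 2 (.node 2 (.node 0 .nil .nil) .nil) .nil))) .nil))) .nil))) (.node 2 (.node 0 (.node 0 (.node 1 (.node 0 (.node 0 .nil .nil) (.node 1 (.node 2 .nil .nil) .nil)) (.node 2 (.node 0 .nil (.node 1 (.node 0 .nil .nil) (.node 2 (.node 0 .nil .nil) .nil))) .nil)) (.node 1 (.node 0 (.node 0 (.node 0 .nil (.node 2 .nil .nil)) (.node 1 .nil .nil)) (.node 2 (.node 2 .nil .nil) .nil)) (.node 2 (.node 0 (.node 1 .nil (.node 2 (.node 1 .nil .nil) .nil)) (.node 2 .nil .nil)) .nil))) (.node 1 (.node 0 (.node 0 (.node 0 .nil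 (.node 1 .nil (.node 2 .nil .nil))) (.node 1 (.node 1 (.node 1 .nil (.node 2 .nil .nil)) (.node 2 .nil .nil)) (.node 2 .nil .nil))) (.node 1 (.node 0 (.node 2 .nil .nil) (.node 1 (.node 0 .nil (.node 2 (.node 0 .nil (.node 2 .nil .nil)) .nil)) (.node 2 (.node 1 (.node 0 .nil (.node 2 .nil .nil)) .nil) .nil))) (.node 2 (.node 0 (.node 1 .nil (.node 2 (.node 1 .nil .nil) .nil)) (.node 1 (.node 0 (.node 0 .nil (.node 1 .nil .nil)) .nil) (.node 2 (.node 1 (.node 1 .nil .nil) .nil) .nil))) .nil))) (.node 2 (.node 0 (.node 0 (.node 0 (.node 1 .nil .nil) .nil) (.node 2 (.node 0 (.node 1 .nil .nil) (.node 1 (.node 0 .nil (.node 1 .nil .nil)) (.node 2 .nil .nil))) .nil)) (.node 1 (.node 1 (.node 1 (.node 0 .nil (.node 2 .nil .nil)) .nil) (.node 2 (.node 0 (.node 0 .nil (.node 2 .nil .nil)) (.node 1 .nil (.node 2 (.node 2 .nil .nil) .nil))) .nil)) (.node 2 (.node 1 .nil (.node 2 .nil .nil)) .nil))) .nil))) .nil)))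 (.node 1 (.node 0 (.node 0 (.node 0 (.node 0 (.node 1 (.node 0 .nil .nil) .nil) (.node 1 (.node 0 .nil (.node 2 (.node 0 .nil .nil) .nil)) (.node 2 (.node 0 (.node 0 .nil .nil) (.node 1 (.node 1 .nil .nil) .nil)) .nil))) (.node 2 (.node 0 (.node 1 (.node 0 .nil .nil) (.node 2 .nil .nil)) (.node 1 (.node 0 .nil .nil) (.node 2 (.node 0 .nil .nil) .nil))) .nil)) (.node 1 (.node 0 (.node 0 (.node 0 .nil (.node 1 (.node 0 .nil (.node 2 .nil .nil)) .nil)) (.node 1 (.node 1 (.node 1 .nil .nil) (.node 2 (.node 0 .nil (.node 2 .nil .nil)) .nil)) (.node 2 (.node 0 (.node 0 .nil .nil) (.node 1 (.node 0 .nil .nil) .nil)) .nil))) (.node 1 (.node 0 (.node 2 (.node 1 .nil .nil) .nil) (.node 1 (.node 0 .nil (.node 2 (.node 0 .nil .nil) .nil)) (.node 2 (.node 0 .nil (.node 1 .nil (.node 2 .nil .nil))) .nil))) (.node 2 (.node 0 .nil (.node 1 (.node 0 .nil (.node 1 .nil (.node 2 .nil .nil))) .nil)) .nil))) (.node 2 (.node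 0 (.node 1 (.node 1 (.node 2 .nil .nil) (.node 2 (.node 1 .nil .nil) .nil)) .nil) (.node 1 (.node 0 (.node 1 .nil .nil) (.node 2 (.node 2 .nil .nil) .nil)) (.node 2 (.node 0 (.node 1 .nil .nil) (.node 1 (.node 1 (.node 0 .nil .nil) (.node 2 .nil .nil)) (.node 2 (.node 0 (.node 2 .nil .nil) (.node 2 (.node 0 .nil .nil) .nil)) .nil))) .nil))) .nil))) (.node 1 (.node 0 (.node 0 (.node 0 (.node 0 (.node 2 .nil .nil) .nil) (.node 1 (.node 1 .nil (.node 2 (.node 1 .nil .nil) .nil)) (.node 2 (.node 0 (.node 2 .nil .nil) (.node 1 .nil (.node 2 (.node 0 .nil (.node 1 .nil (.node 2 .nil .nil))) .nil))) .nil))) (.node 1 (.node 2 (.node 0 (.node 0 .nil (.node 2 .nil .nil)) (.node 2 .nil .nil)) .nil) (.node 2 (.node 0 (.node 0 .nil (.node 1 .nil (.node 2 .nil .nil))) (.node 1 (.node 0 .nil (.node 2 .nil .nil)) (.node 2 (.node 0 (.node 1 .nil .nil) (.node 1 .nil (.node 2 (.node 0 .nil .nil) .nil))) .nil))) .nil))) (.node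 1 (.node 0 (.node 0 (.node 0 .nil .nil) (.node 1 (.node 0 (.node 0 .nil .nil) .nil) (.node 2 (.node 0 (.node 0 .nil .nil) (.node 1 .nil (.node 2 .nil .nil))) .nil))) (.node 1 (.node 1 (.node 2 .nil .nil) .nil) (.node 2 (.node 0 (.node 0 .nil .nil) (.node 1 .nil (.node 2 (.node 1 .nil .nil) .nil))) .nil))) (.node 2 (.node 0 (.node 0 (.node 1 (.node 2 .nil .nil) (.node 2 .nil .nil)) (.node 1 (.node 1 (.node 0 .nil (.node 1 .nil .nil)) (.node 2 .nil .nil)) .nil)) (.node 1 (.node 0 (.node 0 (.node 2 .nil .nil) (.node 2 .nil .nil)) (.node 1 (.node 0 .nil .nil) .nil)) (.node 2 (.node 0 (.node 0 .nil (.node 1 (.node 0 .nil (.node 1 .nil .nil)) (.node 2 (.node 1 .nil .nil) .nil))) (.node 1 (.node 0 .nil (.node 1 .nil (.node 2 (.node 2 .nil .nil) .nil))) (.node 2 .nil .nil))) .nil))) .nil))) (.node 2 (.node 0 (.node 0 (.node 0 (.node 2 .nil .nil) (.node 1 (.node 0 (.node 2 .nil .nil) .nil) (.node 2 (.node 0 .nil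 (.node 2 .nil .nil)) .nil))) (.node 1 (.node 0 .nil (.node 1 .nil (.node 2 (.node 2 (.node 2 .nil .nil) .nil) .nil))) (.node 2 (.node 0 (.node 2 (.node 2 .nil .nil) .nil) (.node 1 (.node 1 .nil .nil) (.node 2 (.node 0 (.node 1 .nil .nil) .nil) .nil))) .nil))) (.node 1 (.node 0 (.node 0 (.node 2 .nil .nil) (.node 2 (.node 0 .nil (.node 1 .nil (.node 2 (.node 1 .nil .nil) .nil))) .nil)) (.node 1 (.node 0 (.node 0 .nil .nil) (.node 1 (.node 1 (.node 0 .nil (.node 1 .nil .nil)) (.node 2 (.node 0 .nil .nil) .nil)) (.node 2 (.node 0 .nil (.node 1 .nil (.node 2 (.node 1 .nil .nil) .nil))) .nil))) (.node 2 (.node 0 (.node 0 .nil (.node 1 (.node 2 .nil .nil) .nil)) (.node 1 (.node 0 (.node 1 .nil (.node 2 .nil .nil)) .nil) (.node 2 (.node 1 (.node 0 .nil .nil) (.node 2 .nil .nil)) .nil))) .nil))) (.node 2 (.node 0 (.node 0 (.node 0 (.node 0 .nil (.node 1 .nil (.node 2 .nil .nil))) (.node 1 .nil .nil)) (.node 1 (.node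 2 .nil .nil) (.node 2 (.node 2 (.node 1 .nil .nil) .nil) .nil))) (.node 2 (.node 0 .nil (.node 1 (.node 0 .nil (.node 1 .nil (.node 2 .nil .nil))) (.node 2 (.node 0 .nil .nil) .nil))) .nil)) .nil))) .nil))) (.node 2 (.node 0 (.node 0 (.node 0 (.node 0 (.node 1 (.node 0 .nil .nil) .nil) (.node 2 .nil .nil)) (.node 1 (.node 0 (.node 1 (.node 0 .nil (.node 2 .nil .nil)) (.node 2 (.node 0 .nil .nil) .nil)) (.node 1 (.node 0 (.node 2 .nil .nil) (.node 1 .nil (.node 2 .nil .nil))) (.node 2 (.node 1 .nil .nil) .nil))) (.node 2 (.node 0 (.node 1 (.node 2 .nil .nil) (.node 2 (.node 0 .nil .nil) .nil)) (.node 2 (.node 1 .nil .nil) .nil)) .nil))) (.node 1 (.node 0 (.node 1 (.node 1 .nil .nil) (.node 2 (.node 0 .nil (.node 1 .nil .nil)) .nil)) (.node 1 (.node 0 (.node 1 .nil .nil) .nil) (.node 2 (.node 0 (.node 2 .nil .nil) (.node 1 (.node 0 .nil (.node 1 .nil .nil)) (.node 2 (.node 1 (.node 0 .nil .nil) .nil) .nil)))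 .nil))) (.node 2 (.node 0 (.node 1 .nil (.node 2 (.node 0 (.node 0 .nil .nil) (.node 2 .nil .nil)) .nil)) (.node 1 (.node 0 (.node 0 (.node 0 .nil (.node 1 .nil .nil)) (.node 1 (.node 2 .nil .nil) (.node 2 (.node 1 .nil .nil) .nil))) (.node 1 (.node 0 .nil (.node 1 .nil (.node 2 .nil .nil))) (.node 2 (.node 0 (.node 1 .nil .nil) (.node 1 .nil .nil)) .nil))) (.node 2 (.node 0 (.node 1 .nil .nil) (.node 2 (.node 0 (.node 2 .nil .nil) (.node 1 .nil .nil)) .nil)) .nil))) .nil))) (.node 1 (.node 0 (.node 0 (.node 0 (.node 1 (.node 0 .nil (.node 1 .nil .nil)) (.node 2 (.node 1 .nil .nil) .nil)) (.node 1 (.node 0 .nil (.node 1 .nil (.node 2 .nil .nil))) .nil)) (.node 1 (.node 1 (.node 0 .nil (.node 1 (.node 2 .nil .nil) (.node 2 (.node 0 .nil .nil) .nil))) (.node 2 (.node 0 .nil (.node 1 .nil .nil)) .nil)) (.node 2 (.node 0 (.node 0 .nil (.node 1 (.node 1 .nil .nil) .nil)) (.node 1 (.node 0 .nil (.node 2 .nil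 .nil)) .nil)) .nil))) (.node 1 (.node 0 (.node 0 (.node 0 .nil (.node 2 .nil .nil)) .nil) (.node 1 (.node 0 (.node 0 (.node 0 .nil .nil) (.node 1 (.node 0 .nil .nil) (.node 2 (.node 0 .nil .nil) .nil))) (.node 1 (.node 0 .nil (.node 2 .nil .nil)) (.node 2 (.node 1 .nil .nil) .nil))) .nil)) .nil)) (.node 2 (.node 0 (.node 2 (.node 0 (.node 0 .nil (.node 1 .nil .nil)) (.node 1 (.node 0 .nil .nil) (.node 2 (.node 0 (.node 0 .nil .nil) (.node 2 .nil .nil)) .nil))) .nil) (.node 1 (.node 0 (.node 0 (.node 2 .nil .nil) (.node 1 (.node 1 .nil .nil) (.node 2 (.node 0 (.node 2 .nil .nil) (.node 1 .nil (.node 2 .nil .nil))) .nil))) (.node 2 (.node 1 .nil (.node 2 (.node 1 .nil (.node 2 .nil .nil)) .nil)) .nil)) (.node 2 (.node 0 (.node 0 (.node 1 (.node 1 .nil .nil) .nil) .nil) (.node 1 (.node 1 (.node 2 .nil .nil) (.node 2 (.node 0 .nil (.node 1 (.node 2 .nil .nil) .nil)) .nil)) (.node 2 (.node 0 (.node 2 .nil .nil)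 (.node 1 (.node 0 .nil (.node 1 .nil (.node 2 .nil .nil))) (.node 2 (.node 0 .nil (.node 1 .nil .nil)) .nil))) .nil))) .nil))) .nil))) .nil))) .nil)))

/-- Orbits. -/
def partsOctTri : List Part := [(treeOctTri0, [21116, 7409024, 9347075], 64, 15), (treeOctTri1, [21116, 493953, 16262146], 32, 420), (treeOctTri2, [5279, 1009728, 15762208], 24, 3360)]

set_option maxRecDepth 20000 in
/-- Orbit forest. -/
def treeOctSex0 : OrbTree := (.node 0 (.node 0 (.node 0 .nil (.node 1 (.node 1 .nil .nil) (.node 2 (.node 0 .nil (.node 2 .nil .nil)) .nil))) (.node 1 (.node 0 (.node 0 .nil (.node 2 .nil .nil)) (.node 1 .nil (.node 2 .nil .nil))) (.node 2 .nil .nil))) (.node 1 (.node 0 (.node 0 (.node 2 .nil .nil) (.node 1 .nil .nil)) (.node 1 (.node 0 .nil .nil) (.node 2 .nil .nil))) (.node 2 (.node 0 (.node 1 (.node 1 .nil .nil) (.node 2 .nil .nil)) (.node 1 (.node 0 (.node 2 .nil .nil) (.node 1 .nil .nil)) (.node 2 (.node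 0 .nil .nil) .nil))) .nil)))

set_option maxRecDepth 20000 in
/-- Orbit forest. -/
def treeOctSex1 : OrbTree := (.node 0 (.node 0 (.node 0 (.node 0 (.node 1 (.node 0 .nil (.node 1 (.node 0 .nil .nil) (.node 2 (.node 1 .nil (.node 2 .nil .nil)) .nil))) (.node 2 (.node 0 (.node 0 .nil (.node 1 (.node 2 .nil .nil) (.node 2 .nil .nil))) (.node 1 (.node 2 .nil .nil) (.node 2 (.node 0 .nil .nil) .nil))) .nil)) (.node 1 (.node 0 (.node 0 (.node 0 .nil (.node 1 .nil .nil)) (.node 1 (.node 0 .nil (.node 1 (.node 1 .nil .nil) .nil)) (.node 2 (.node 0 .nil .nil) .nil))) (.node 1 (.node 0 .nil .nil) (.node 2 (.node 0 (.node 0 .nil (.node 1 .nil (.node 2 (.node 2 .nil .nil) .nil))) (.node 2 .nil .nil)) .nil))) (.node 2 (.node 0 (.node 0 (.node 1 .nil .nil) (.node 1 .nil (.node 2 (.node 1 .nil .nil) .nil))) (.node 1 (.node 0 (.node 1 .nil .nil) (.node 1 (.node 2 .nil .nil) (.node 2 .nil .nil))) (.node 2 (.node 0 (.node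 1 .nil (.node 2 .nil .nil)) (.node 1 (.node 0 .nil (.node 2 .nil .nil)) (.node 2 (.node 0 .nil .nil) .nil))) .nil))) .nil))) (.node 1 (.node 0 (.node 0 (.node 0 (.node 0 .nil (.node 2 .nil .nil)) (.node 1 (.node 0 .nil .nil) (.node 2 (.node 0 .nil (.node 1 .nil (.node 2 (.node 1 .nil .nil) .nil))) .nil))) (.node 2 (.node 0 (.node 1 .nil .nil) (.node 1 .nil (.node 2 (.node 0 .nil .nil) .nil))) .nil)) (.node 1 (.node 0 (.node 1 (.node 1 .nil .nil) (.node 2 (.node 0 .nil (.node 2 .nil .nil)) .nil)) (.node 1 (.node 0 .nil (.node 1 (.node 0 .nil .nil) (.node 2 .nil .nil))) .nil)) (.node 2 (.node 0 (.node 1 .nil (.node 2 (.node 0 (.node 0 .nil .nil) (.node 1 .nil (.node 2 .nil .nil))) .nil)) (.node 2 (.node 0 (.node 1 .nil (.node 2 .nil .nil)) (.node 2 (.node 2 (.node 1 .nil .nil) .nil) .nil)) .nil)) .nil))) (.node 2 (.node 0 (.node 1 (.node 1 (.node 0 (.node 1 .nil .nil) (.node 1 .nil (.node 2 .nil .nil))) .nil)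 (.node 2 (.node 0 (.node 1 .nil (.node 2 .nil .nil)) (.node 1 (.node 0 (.node 1 .nil .nil) (.node 2 .nil .nil)) .nil)) .nil)) (.node 1 (.node 0 (.node 1 (.node 2 .nil .nil) (.node 2 (.node 1 .nil (.node 2 .nil .nil)) .nil)) (.node 2 (.node 0 (.node 2 .nil .nil) (.node 1 .nil .nil)) .nil)) (.node 2 (.node 0 .nil (.node 1 (.node 0 (.node 1 .nil .nil) (.node 1 (.node 2 (.node 2 .nil .nil) .nil) (.node 2 .nil .nil))) (.node 2 (.node 0 (.node 1 .nil (.node 2 (.node 2 .nil .nil) .nil)) (.node 2 .nil .nil)) .nil))) .nil))) .nil))) (.node 1 (.node 0 (.node 0 (.node 0 (.node 0 .nil (.node 2 (.node 2 .nil .nil) .nil)) (.node 1 (.node 0 (.node 0 .nil (.node 2 .nil .nil)) (.node 1 .nil (.node 2 (.node 0 .nil .nil) .nil))) (.node 2 .nil .nil))) (.node 1 (.node 0 (.node 1 .nil (.node 2 .nil .nil)) (.node 1 (.node 0 (.node 0 .nil .nil) (.node 1 .nil .nil)) (.node 2 (.node 0 (.node 0 .nil .nil) .nil) .nil))) (.node 2 (.node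 0 (.node 0 (.node 2 .nil .nil) .nil) (.node 1 (.node 0 (.node 0 .nil (.node 2 (.node 2 .nil .nil) .nil)) (.node 1 (.node 0 .nil (.node 2 .nil .nil)) .nil)) (.node 2 (.node 1 .nil (.node 2 (.node 2 .nil .nil) .nil)) .nil))) .nil))) (.node 1 (.node 0 (.node 0 (.node 2 (.node 0 .nil (.node 2 .nil .nil)) .nil) (.node 1 (.node 0 (.node 1 .nil (.node 2 .nil .nil)) (.node 1 .nil .nil)) (.node 2 (.node 0 (.node 0 .nil (.node 1 .nil .nil)) (.node 1 (.node 1 .nil (.node 2 .nil .nil)) .nil)) .nil))) (.node 1 (.node 0 (.node 2 .nil .nil) (.node 1 (.node 0 (.node 1 .nil (.node 2 .nil .nil)) (.node 1 (.node 0 .nil .nil) (.node 2 .nil .nil))) (.node 2 (.node 0 .nil (.node 1 (.node 0 .nil .nil) (.node 2 (.node 0 .nil (.node 1 .nil (.node 2 .nil .nil))) .nil))) .nil))) (.node 2 (.node 0 (.node 0 (.node 0 .nil (.node 1 .nil .nil)) (.node 1 (.node 0 (.node 0 .nil .nil) (.node 2 .nil .nil)) .nil)) (.node 1 (.node 0 (.node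 0 .nil (.node 2 .nil .nil)) (.node 1 .nil (.node 2 (.node 1 .nil .nil) .nil))) (.node 2 (.node 1 .nil (.node 2 (.node 2 .nil .nil) .nil)) .nil))) .nil))) (.node 2 (.node 0 (.node 0 (.node 0 .nil (.node 1 .nil .nil)) (.node 1 (.node 0 (.node 0 .nil .nil) .nil) (.node 2 (.node 0 (.node 0 .nil .nil) (.node 1 (.node 2 (.node 2 .nil .nil) .nil) (.node 2 (.node 0 .nil (.node 1 .nil .nil)) .nil))) .nil))) (.node 1 (.node 0 (.node 0 .nil (.node 1 .nil (.node 2 (.node 0 .nil (.node 2 .nil .nil)) .nil))) (.node 1 (.node 0 (.node 1 .nil .nil) (.node 2 (.node 0 .nil .nil) .nil)) .nil)) (.node 2 (.node 0 (.node 1 (.node 0 .nil (.node 2 .nil .nil)) (.node 2 (.node 0 .nil (.node 1 .nil .nil)) .nil)) (.node 1 (.node 0 (.node 2 .nil .nil) (.node 1 (.node 1 .nil .nil) (.node 2 (.node 0 .nil (.node 2 .nil .nil)) .nil))) (.node 2 (.node 0 .nil (.node 1 (.node 0 .nil (.node 1 .nil (.node 2 .nil .nil))) (.node 2 .nil .nil)))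 .nil))) .nil))) .nil))) (.node 2 (.node 0 (.node 0 (.node 0 (.node 0 .nil (.node 1 (.node 0 .nil (.node 2 .nil .nil)) .nil)) (.node 1 (.node 0 (.node 2 .nil .nil) .nil) (.node 2 (.node 0 .nil (.node 1 (.node 2 .nil .nil) (.node 2 (.node 2 .nil .nil) .nil))) .nil))) (.node 1 (.node 0 (.node 1 (.node 2 .nil .nil) (.node 2 .nil .nil)) (.node 1 (.node 0 (.node 0 .nil .nil) (.node 1 (.node 0 .nil (.node 2 .nil .nil)) .nil)) (.node 2 (.node 0 .nil (.node 1 (.node 0 .nil .nil) (.node 2 .nil .nil))) .nil))) (.node 2 (.node 0 (.node 0 .nil .nil) .nil) .nil))) (.node 1 (.node 0 (.node 0 (.node 0 .nil (.node 1 (.node 1 .nil (.node 2 .nil .nil)) (.node 2 .nil .nil))) (.node 2 (.node 0 .nil (.node 2 .nil .nil)) .nil)) (.node 1 (.node 0 (.node 0 .nil (.node 1 (.node 0 .nil (.node 2 .nil .nil)) (.node 2 .nil .nil))) (.node 1 (.node 1 .nil .nil) (.node 2 (.node 0 (.node 0 .nil .nil) (.node 2 (.node 1 .nil (.node 2 .nil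 .nil)) .nil)) .nil))) (.node 2 (.node 0 (.node 0 (.node 0 .nil .nil) (.node 1 (.node 0 .nil .nil) (.node 2 (.node 2 .nil .nil) .nil))) (.node 1 (.node 1 .nil (.node 2 (.node 0 .nil .nil) .nil)) (.node 2 (.node 0 .nil (.node 1 .nil (.node 2 (.node 2 .nil .nil) .nil))) .nil))) .nil))) (.node 2 (.node 0 (.node 2 (.node 0 (.node 0 .nil (.node 1 (.node 2 .nil .nil) (.node 2 .nil .nil))) (.node 2 (.node 1 .nil (.node 2 .nil .nil)) .nil)) .nil) (.node 1 (.node 0 (.node 1 (.node 2 .nil .nil) (.node 2 .nil .nil)) (.node 1 (.node 0 (.node 2 .nil .nil) (.node 1 (.node 0 .nil .nil) (.node 2 (.node 0 .nil .nil) .nil))) (.node 2 (.node 0 .nil (.node 1 (.node 2 .nil .nil) .nil)) .nil))) (.node 2 (.node 0 (.node 1 (.node 1 .nil .nil) .nil) (.node 1 (.node 1 (.node 1 .nil .nil) (.node 2 .nil .nil)) (.node 2 (.node 0 (.node 1 .nil .nil) (.node 2 (.node 0 (.node 0 .nil .nil) .nil) .nil)) .nil))) .nil))) .nil))) .nil))) (.node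 1 (.node 0 (.node 0 (.node 0 (.node 0 (.node 1 (.node 0 .nil (.node 2 .nil .nil)) .nil) (.node 1 (.node 1 .nil .nil) (.node 2 (.node 0 .nil (.node 1 (.node 1 .nil .nil) (.node 2 .nil .nil))) .nil))) (.node 1 (.node 0 (.node 0 (.node 1 .nil .nil) (.node 1 (.node 1 .nil .nil) .nil)) (.node 1 (.node 1 .nil .nil) .nil)) (.node 2 (.node 1 (.node 1 (.node 1 .nil (.node 2 .nil .nil)) (.node 2 .nil .nil)) .nil) .nil))) (.node 1 (.node 0 (.node 0 (.node 1 .nil (.node 2 (.node 1 .nil .nil) .nil)) (.node 1 (.node 0 .nil (.node 1 (.node 1 .nil .nil) .nil)) (.node 2 (.node 2 .nil .nil) .nil))) (.node 1 (.node 0 (.node 0 .nil (.node 1 (.node 0 .nil (.node 2 .nil .nil)) .nil)) (.node 1 (.node 1 (.node 1 .nil .nil) .nil) (.node 2 (.node 0 .nil (.node 1 .nil (.node 2 (.node 0 .nil .nil) .nil))) .nil))) (.node 2 (.node 0 (.node 0 (.node 0 .nil (.node 2 .nil .nil)) (.node 2 .nil .nil)) (.node 2 (.node 0 .nil (.node 2 (.node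 0 .nil .nil) .nil)) .nil)) .nil))) (.node 2 (.node 0 (.node 0 (.node 0 (.node 2 .nil .nil) .nil) (.node 1 (.node 1 (.node 1 .nil .nil) .nil) (.node 2 (.node 0 .nil (.node 1 (.node 0 .nil .nil) (.node 2 (.node 0 .nil .nil) .nil))) .nil))) (.node 1 (.node 0 (.node 0 (.node 1 .nil (.node 2 .nil .nil)) (.node 1 (.node 1 .nil (.node 2 .nil .nil)) (.node 2 .nil .nil))) (.node 1 (.node 0 .nil (.node 1 .nil (.node 2 .nil .nil))) (.node 2 .nil .nil))) (.node 2 (.node 0 (.node 0 .nil (.node 1 .nil .nil)) (.node 1 (.node 0 .nil (.node 1 (.node 2 .nil .nil) (.node 2 .nil .nil))) (.node 2 (.node 0 (.node 1 .nil .nil) (.node 2 (.node 0 .nil (.node 1 .nil .nil)) .nil)) .nil))) .nil))) .nil))) (.node 1 (.node 0 (.node 1 (.node 0 .nil (.node 1 (.node 0 (.node 0 .nil (.node 2 .nil .nil)) .nil) (.node 2 (.node 1 (.node 1 (.node 1 .nil .nil) .nil) .nil) .nil))) (.node 2 (.node 0 (.node 0 (.node 2 .nil .nil) (.node 1 (.node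 0 .nil .nil) (.node 2 .nil .nil))) (.node 1 (.node 0 (.node 2 .nil .nil) .nil) (.node 2 (.node 0 (.node 1 .nil .nil) .nil) .nil))) .nil)) (.node 1 (.node 0 (.node 0 (.node 0 .nil (.node 1 (.node 2 .nil .nil) .nil)) (.node 1 (.node 1 .nil .nil) (.node 2 (.node 0 (.node 0 .nil (.node 2 .nil .nil)) (.node 1 (.node 0 .nil (.node 1 .nil .nil)) .nil)) .nil))) (.node 2 (.node 0 (.node 2 .nil .nil) (.node 1 (.node 2 .nil .nil) (.node 2 (.node 0 .nil (.node 2 (.node 0 .nil (.node 2 .nil .nil)) .nil)) .nil))) .nil)) (.node 2 (.node 0 (.node 0 (.node 1 .nil (.node 2 .nil .nil)) (.node 1 (.node 0 .nil (.node 2 (.node 1 .nil (.node 2 .nil .nil)) .nil)) (.node 2 (.node 0 .nil (.node 1 .nil (.node 2 (.node 2 .nil .nil) .nil))) .nil))) (.node 1 .nil (.node 2 (.node 0 (.node 0 .nil (.node 1 (.node 0 .nil .nil) (.node 2 .nil .nil))) (.node 1 (.node 0 .nil (.node 1 (.node 0 .nil .nil) .nil)) (.node 2 (.node 1 .nil .nil) .nil)))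 .nil))) .nil))) (.node 2 (.node 0 (.node 1 (.node 0 (.node 1 .nil .nil) (.node 2 (.node 0 .nil (.node 1 (.node 1 .nil .nil) .nil)) .nil)) (.node 2 (.node 0 (.node 0 .nil (.node 1 (.node 1 .nil .nil) .nil)) (.node 1 (.node 1 .nil .nil) (.node 2 .nil .nil))) .nil)) (.node 1 (.node 0 (.node 1 (.node 2 .nil .nil) .nil) (.node 1 (.node 0 .nil (.node 1 (.node 0 (.node 0 .nil (.node 1 .nil .nil)) (.node 1 .nil (.node 2 .nil .nil))) (.node 2 (.node 0 .nil (.node 2 (.node 1 .nil .nil) .nil)) .nil))) (.node 2 (.node 0 (.node 1 .nil .nil) (.node 1 (.node 1 (.node 2 .nil .nil) (.node 2 (.node 0 .nil .nil) .nil)) (.node 2 .nil .nil))) .nil))) .nil)) .nil))) (.node 2 (.node 0 (.node 0 (.node 0 (.node 0 (.node 1 .nil (.node 2 (.node 1 .nil .nil) .nil)) (.node 1 (.node 1 .nil .nil) (.node 2 (.node 0 (.node 0 .nil .nil) (.node 1 .nil .nil)) .nil))) (.node 1 (.node 0 (.node 0 .nil (.node 2 .nil .nil)) (.node 1 (.node 0 (.node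 1 .nil (.node 2 .nil .nil)) (.node 2 .nil .nil)) .nil)) (.node 2 (.node 0 (.node 1 .nil .nil) (.node 2 (.node 0 .nil (.node 1 .nil (.node 2 (.node 0 .nil .nil) .nil))) .nil)) .nil))) (.node 1 (.node 1 (.node 0 .nil (.node 1 (.node 1 .nil (.node 2 .nil .nil)) .nil)) (.node 2 (.node 0 (.node 0 (.node 2 .nil .nil) .nil) (.node 1 (.node 1 (.node 2 .nil .nil) .nil) (.node 2 (.node 0 .nil .nil) .nil))) .nil)) (.node 2 (.node 0 (.node 0 (.node 0 .nil (.node 1 .nil (.node 2 (.node 1 .nil .nil) .nil))) (.node 1 .nil (.node 2 (.node 0 (.node 0 .nil .nil) (.node 2 .nil .nil)) .nil))) (.node 1 (.node 0 (.node 2 .nil .nil) (.node 1 (.node 0 .nil (.node 2 (.node 1 .nil (.node 2 .nil .nil)) .nil)) (.node 2 (.node 1 .nil .nil) .nil))) (.node 2 (.node 0 (.node 1 .nil .nil) (.node 2 (.node 2 .nil .nil) .nil)) .nil))) .nil))) (.node 1 (.node 0 (.node 0 (.node 0 (.node 2 .nil .nil) (.node 1 (.node 0 (.node 1 .nil .nil) (.node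 1 (.node 1 .nil .nil) (.node 2 .nil .nil))) .nil)) (.node 1 (.node 0 (.node 1 .nil (.node 2 .nil .nil)) (.node 2 (.node 1 .nil (.node 2 .nil .nil)) .nil)) (.node 2 (.node 0 (.node 0 .nil (.node 1 .nil (.node 2 .nil .nil))) (.node 1 (.node 2 .nil .nil) (.node 2 (.node 2 .nil .nil) .nil))) .nil))) (.node 1 (.node 1 (.node 1 (.node 2 (.node 0 .nil (.node 1 .nil .nil)) .nil) (.node 2 (.node 1 .nil .nil) .nil)) .nil) (.node 2 (.node 0 (.node 0 (.node 1 .nil .nil) (.node 1 (.node 0 .nil .nil) (.node 2 .nil .nil))) (.node 1 (.node 1 (.node 1 (.node 2 .nil .nil) .nil) .nil) (.node 2 (.node 1 (.node 1 .nil .nil) (.node 2 (.node 2 .nil .nil) .nil)) .nil))) .nil))) (.node 2 (.node 0 (.node 0 (.node 1 (.node 0 .nil (.node 1 .nil .nil)) (.node 2 (.node 1 (.node 0 .nil .nil) (.node 2 .nil .nil)) .nil)) (.node 1 (.node 0 (.node 2 .nil .nil) (.node 1 .nil .nil)) (.node 2 (.node 0 (.node 0 .nil (.node 1 .nil .nil)) (.node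 1 (.node 1 .nil .nil) (.node 2 (.node 1 .nil .nil) .nil))) .nil))) (.node 1 (.node 0 (.node 0 (.node 0 .nil .nil) (.node 1 (.node 0 (.node 1 .nil (.node 2 .nil .nil)) (.node 2 .nil .nil)) .nil)) (.node 1 (.node 0 .nil (.node 2 (.node 0 (.node 0 .nil .nil) (.node 1 .nil (.node 2 .nil .nil))) .nil)) (.node 2 (.node 0 (.node 1 .nil .nil) (.node 1 (.node 1 .nil .nil) (.node 2 (.node 1 .nil .nil) .nil))) .nil))) (.node 2 (.node 0 (.node 0 (.node 1 .nil .nil) (.node 1 (.node 0 .nil (.node 1 .nil (.node 2 .nil .nil))) (.node 2 .nil .nil))) (.node 1 (.node 0 (.node 0 .nil (.node 1 .nil .nil)) (.node 1 (.node 0 .nil (.node 2 .nil .nil)) (.node 2 (.node 1 .nil .nil) .nil))) (.node 2 (.node 2 (.node 2 .nil .nil) .nil) .nil))) .nil))) .nil))) .nil)))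

set_option maxRecDepth 20000 in
/-- Orbit forest. -/
def treeOctSex2 : OrbTree := (.node 0 (.node 0 (.node 0 (.node 0 (.node 1 (.node 0 (.node 1 .nil (.node 2 .nil .nil)) (.node 1 (.node 0 .nil .nil) (.node 2 (.node 0 .nil .nil) .nil))) (.node 2 (.node 0 (.node 2 .nil .nil) (.node 1 (.node 1 .nil (.node 2 .nil .nil)) (.node 2 (.node 0 .nil (.node 2 (.node 2 .nil .nil) .nil)) .nil))) .nil)) (.node 1 (.node 0 (.node 1 (.node 1 .nil (.node 2 .nil .nil)) (.node 2 (.node 0 .nil .nil) .nil)) (.node 1 (.node 0 (.node 0 .nil .nil) (.node 1 (.node 1 .nil (.node 2 .nil .nil)) (.node 2 (.node 2 .nil .nil) .nil))) (.node 2 (.node 0 .nil (.node 1 (.node 2 .nil .nil) (.node 2 .nil .nil))) .nil))) (.node 2 (.node 0 (.node 0 (.node 0 .nil .nil) (.node 1 (.node 0 .nil (.node 1 .nil .nil)) (.node 2 (.node 0 (.node 1 .nil .nil) (.node 1 .nil .nil)) .nil))) (.node 1 (.node 0 (.node 0 .nil .nil) (.node 2 (.node 1 .nil (.node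 2 .nil .nil)) .nil)) (.node 2 (.node 0 .nil (.node 1 (.node 0 (.node 1 .nil .nil) (.node 2 .nil .nil)) .nil)) .nil))) .nil))) (.node 1 (.node 0 (.node 0 (.node 0 (.node 0 .nil (.node 2 .nil .nil)) (.node 1 (.node 0 .nil (.node 1 .nil .nil)) (.node 2 (.node 2 .nil .nil) .nil))) (.node 1 (.node 0 (.node 0 .nil (.node 2 .nil .nil)) (.node 1 (.node 0 .nil .nil) .nil)) .nil)) (.node 1 (.node 0 (.node 0 .nil (.node 1 (.node 1 .nil .nil) (.node 2 (.node 1 .nil .nil) .nil))) (.node 1 (.node 1 .nil (.node 2 (.node 0 .nil .nil) .nil)) (.node 2 (.node 0 .nil (.node 1 .nil .nil)) .nil))) (.node 2 (.node 0 (.node 0 .nil (.node 1 (.node 1 (.node 2 .nil .nil) .nil) (.node 2 (.node 2 .nil .nil) .nil))) (.node 1 (.node 1 (.node 1 .nil (.node 2 .nil .nil)) (.node 2 (.node 2 .nil .nil) .nil)) .nil)) .nil))) (.node 2 (.node 0 (.node 0 (.node 0 (.node 2 .nil .nil) (.node 1 .nil (.node 2 (.node 0 .nil (.node 1 .nil .nil)) .nil)))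 (.node 1 (.node 1 (.node 0 .nil .nil) (.node 2 .nil .nil)) (.node 2 (.node 0 (.node 1 .nil .nil) (.node 1 (.node 1 .nil .nil) (.node 2 .nil .nil))) .nil))) (.node 1 (.node 0 (.node 0 (.node 0 .nil (.node 1 .nil (.node 2 .nil .nil))) (.node 2 (.node 1 .nil .nil) .nil)) (.node 1 (.node 0 (.node 2 .nil .nil) (.node 1 (.node 1 .nil .nil) (.node 2 (.node 0 .nil (.node 1 .nil (.node 2 (.node 2 .nil .nil) .nil))) .nil))) (.node 2 (.node 0 (.node 1 .nil (.node 2 .nil .nil)) (.node 2 (.node 2 .nil .nil) .nil)) .nil))) .nil)) .nil))) (.node 1 (.node 0 (.node 0 (.node 0 (.node 1 .nil (.node 2 (.node 1 .nil .nil) .nil)) (.node 1 (.node 1 .nil (.node 2 (.node 2 .nil .nil) .nil)) (.node 2 (.node 0 (.node 0 .nil .nil) (.node 1 (.node 0 .nil (.node 1 .nil .nil)) .nil)) .nil))) (.node 2 (.node 0 (.node 0 (.node 0 (.node 0 .nil .nil) .nil) (.node 1 .nil (.node 2 .nil .nil))) (.node 1 (.node 0 (.node 0 .nil .nil) (.node 1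 (.node 1 .nil .nil) .nil)) (.node 2 (.node 0 (.node 0 .nil (.node 1 .nil .nil)) (.node 1 .nil (.node 2 .nil .nil))) .nil))) .nil)) (.node 1 (.node 0 (.node 0 (.node 1 (.node 0 (.node 1 .nil .nil) .nil) (.node 2 (.node 0 .nil (.node 1 .nil .nil)) .nil)) (.node 1 (.node 0 (.node 1 .nil .nil) (.node 1 (.node 1 .nil .nil) .nil)) .nil)) (.node 2 (.node 0 (.node 0 (.node 1 .nil (.node 2 .nil .nil)) (.node 1 (.node 1 .nil (.node 2 .nil .nil)) .nil)) (.node 1 (.node 0 (.node 2 .nil .nil) (.node 1 .nil (.node 2 (.node 0 .nil (.node 1 .nil .nil)) .nil))) (.node 2 (.node 1 .nil .nil) .nil))) .nil)) (.node 2 (.node 0 (.node 0 (.node 0 .nil (.node 1 .nil (.node 2 (.node 0 .nil .nil) .nil))) (.node 1 (.node 1 (.node 0 .nil (.node 1 .nil .nil)) .nil) (.node 2 (.node 1 (.node 1 .nil (.node 2 .nil .nil)) .nil) .nil))) (.node 1 (.node 0 (.node 0 (.node 1 .nil .nil) (.node 2 (.node 1 .nil .nil) .nil)) (.node 1 (.node 0 (.node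 1 .nil (.node 2 .nil .nil)) (.node 2 .nil .nil)) (.node 2 (.node 0 (.node 2 .nil .nil) (.node 2 (.node 0 .nil (.node 1 .nil .nil)) .nil)) .nil))) (.node 2 (.node 0 (.node 0 .nil (.node 1 .nil (.node 2 .nil .nil))) (.node 1 (.node 0 (.node 1 .nil .nil) (.node 1 .nil .nil)) (.node 2 (.node 0 (.node 0 .nil .nil) (.node 1 (.node 0 .nil .nil) (.node 2 .nil .nil))) .nil))) .nil))) .nil))) (.node 2 (.node 0 (.node 0 (.node 0 (.node 1 (.node 0 .nil (.node 2 .nil .nil)) (.node 2 (.node 2 .nil .nil) .nil)) (.node 1 (.node 0 (.node 1 .nil .nil) .nil) (.node 2 (.node 0 (.node 0 .nil .nil) .nil) .nil))) (.node 1 (.node 0 (.node 0 (.node 0 .nil (.node 1 .nil .nil)) (.node 1 (.node 2 .nil .nil) (.node 2 (.node 1 .nil .nil) .nil))) (.node 1 (.node 0 (.node 1 .nil .nil) (.node 1 (.node 0 .nil (.node 2 .nil .nil)) .nil)) (.node 2 (.node 0 .nil (.node 1 .nil .nil)) .nil))) (.node 2 (.node 0 (.node 1 .nil .nil) (.node 1 (.node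 0 (.node 1 .nil .nil) (.node 1 (.node 0 .nil .nil) (.node 2 (.node 1 .nil .nil) .nil))) .nil)) .nil))) (.node 1 (.node 0 (.node 0 (.node 2 (.node 1 (.node 1 .nil .nil) (.node 2 .nil .nil)) .nil) (.node 1 (.node 0 (.node 0 .nil (.node 1 .nil (.node 2 .nil .nil))) (.node 1 (.node 2 .nil .nil) .nil)) (.node 2 (.node 0 .nil .nil) .nil))) (.node 1 (.node 0 (.node 1 (.node 2 (.node 1 .nil .nil) .nil) (.node 2 (.node 2 .nil .nil) .nil)) (.node 1 (.node 2 .nil .nil) (.node 2 (.node 0 (.node 1 .nil (.node 2 .nil .nil)) (.node 2 .nil .nil)) .nil))) (.node 2 (.node 0 (.node 0 (.node 0 .nil (.node 2 .nil .nil)) (.node 1 (.node 1 .nil .nil) (.node 2 .nil .nil))) (.node 1 (.node 0 (.node 1 .nil .nil) (.node 1 (.node 0 .nil .nil) (.node 2 .nil .nil))) (.node 2 (.node 0 .nil (.node 1 (.node 2 .nil .nil) .nil)) .nil))) .nil))) (.node 2 (.node 0 (.node 0 (.node 1 (.node 1 .nil .nil) .nil) (.node 1 (.node 0 (.node 2 .nil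 .nil) (.node 1 (.node 1 .nil .nil) (.node 2 (.node 0 (.node 2 .nil .nil) .nil) .nil))) (.node 2 (.node 0 (.node 0 .nil (.node 1 .nil (.node 2 .nil .nil))) (.node 2 (.node 0 .nil .nil) .nil)) .nil))) (.node 1 (.node 0 (.node 0 (.node 2 .nil .nil) (.node 1 (.node 2 .nil .nil) (.node 2 (.node 2 (.node 0 .nil .nil) .nil) .nil))) (.node 1 (.node 0 (.node 0 .nil (.node 2 .nil .nil)) (.node 1 (.node 0 .nil (.node 2 .nil .nil)) (.node 2 .nil .nil))) (.node 2 (.node 0 (.node 2 .nil .nil) (.node 1 .nil (.node 2 (.node 2 .nil .nil) .nil))) .nil))) (.node 2 (.node 0 (.node 1 (.node 2 .nil .nil) .nil) (.node 1 (.node 1 (.node 1 .nil .nil) (.node 2 (.node 0 .nil (.node 2 .nil .nil)) .nil)) (.node 2 (.node 2 .nil .nil) .nil))) .nil))) .nil))) .nil))) (.node 1 (.node 0 (.node 0 (.node 0 (.node 0 (.node 1 (.node 0 .nil .nil) .nil) (.node 1 (.node 1 (.node 0 (.node 2 .nil .nil) .nil) (.node 2 (.node 0 .nil .nil) .nil)) (.node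 2 (.node 0 .nil .nil) .nil))) (.node 1 (.node 0 (.node 0 .nil (.node 2 .nil .nil)) (.node 1 (.node 2 .nil .nil) (.node 2 (.node 0 .nil (.node 2 .nil .nil)) .nil))) (.node 2 (.node 1 (.node 2 (.node 0 .nil (.node 1 .nil (.node 2 .nil .nil))) .nil) .nil) .nil))) (.node 1 (.node 0 (.node 0 (.node 0 (.node 2 .nil .nil) (.node 2 (.node 1 .nil .nil) .nil)) (.node 1 (.node 0 (.node 2 .nil .nil) (.node 2 .nil .nil)) (.node 2 .nil .nil))) (.node 1 (.node 1 (.node 0 (.node 2 .nil .nil) (.node 2 (.node 0 .nil .nil) .nil)) (.node 2 (.node 1 (.node 0 .nil .nil) (.node 2 .nil .nil)) .nil)) (.node 2 (.node 0 (.node 0 .nil .nil) (.node 1 (.node 0 .nil (.node 1 .nil (.node 2 (.node 1 .nil .nil) .nil))) (.node 2 (.node 0 .nil (.node 1 .nil (.node 2 .nil .nil))) .nil))) .nil))) (.node 2 (.node 0 (.node 0 (.node 0 .nil (.node 2 (.node 1 .nil .nil) .nil)) (.node 1 (.node 1 (.node 0 .nil .nil) (.node 2 (.node 1 .nil .nil) .nil))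 (.node 2 (.node 0 .nil (.node 1 (.node 1 .nil .nil) .nil)) .nil))) (.node 1 .nil (.node 2 (.node 0 (.node 2 .nil .nil) (.node 1 (.node 0 (.node 2 .nil .nil) (.node 1 .nil (.node 2 (.node 0 .nil (.node 2 .nil .nil)) .nil))) (.node 2 (.node 1 .nil (.node 2 (.node 0 (.node 2 .nil .nil) .nil) .nil)) .nil))) .nil))) .nil))) (.node 1 (.node 0 (.node 0 (.node 1 (.node 0 .nil (.node 1 (.node 0 .nil (.node 2 .nil .nil)) (.node 2 .nil .nil))) (.node 2 (.node 1 .nil .nil) .nil)) (.node 1 (.node 0 (.node 1 (.node 1 .nil .nil) (.node 2 (.node 0 .nil .nil) .nil)) (.node 1 (.node 0 (.node 2 .nil .nil) .nil) (.node 2 (.node 0 .nil (.node 1 (.node 2 .nil .nil) (.node 2 (.node 2 .nil .nil) .nil))) .nil))) (.node 2 (.node 0 .nil (.node 1 (.node 0 .nil .nil) (.node 2 (.node 0 (.node 0 .nil .nil) (.node 1 (.node 1 .nil .nil) .nil)) .nil))) .nil))) (.node 1 (.node 0 (.node 1 (.node 0 .nil (.node 1 (.node 0 .nil .nil) (.node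 2 (.node 2 .nil .nil) .nil))) .nil) (.node 1 (.node 0 (.node 2 .nil .nil) (.node 1 (.node 1 .nil .nil) (.node 2 (.node 0 .nil (.node 1 (.node 2 .nil .nil) (.node 2 (.node 0 .nil .nil) .nil))) .nil))) (.node 2 (.node 0 (.node 1 .nil .nil) (.node 1 (.node 0 .nil (.node 1 .nil .nil)) (.node 2 .nil .nil))) .nil))) (.node 2 (.node 0 (.node 0 (.node 1 (.node 0 .nil .nil) (.node 2 .nil .nil)) (.node 1 (.node 0 .nil .nil) (.node 2 (.node 1 .nil .nil) .nil))) (.node 1 (.node 0 (.node 1 .nil (.node 2 (.node 1 .nil .nil) .nil)) (.node 1 (.node 0 .nil .nil) (.node 2 (.node 0 .nil .nil) .nil))) (.node 2 (.node 0 (.node 1 (.node 1 .nil .nil) .nil) (.node 1 (.node 1 .nil .nil) (.node 2 (.node 1 .nil (.node 2 .nil .nil)) .nil))) .nil))) .nil))) (.node 2 (.node 0 (.node 0 (.node 0 (.node 0 .nil .nil) (.node 2 (.node 2 .nil .nil) .nil)) (.node 1 (.node 1 (.node 1 .nil .nil) (.node 2 (.node 0 .nil .nil) .nil)) (.node 2 (.node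 0 (.node 2 .nil .nil) (.node 1 (.node 1 .nil (.node 2 .nil .nil)) (.node 2 (.node 1 (.node 0 .nil .nil) .nil) .nil))) .nil))) (.node 1 (.node 0 (.node 0 (.node 0 .nil (.node 1 .nil (.node 2 .nil .nil))) (.node 2 (.node 0 .nil .nil) .nil)) (.node 1 (.node 0 (.node 0 .nil (.node 1 (.node 1 .nil .nil) (.node 2 .nil .nil))) (.node 1 (.node 1 .nil (.node 2 .nil .nil)) (.node 2 (.node 0 .nil (.node 1 .nil .nil)) .nil))) (.node 2 (.node 0 (.node 1 .nil (.node 2 (.node 2 .nil .nil) .nil)) (.node 1 (.node 0 (.node 1 .nil .nil) (.node 1 (.node 1 .nil .nil) .nil)) (.node 2 (.node 0 .nil (.node 1 .nil .nil)) .nil))) .nil))) (.node 2 (.node 0 (.node 0 (.node 2 .nil .nil) (.node 1 (.node 2 .nil .nil) .nil)) (.node 1 (.node 0 (.node 0 (.node 0 .nil (.node 1 .nil .nil)) .nil) (.node 1 (.node 0 .nil .nil) (.node 2 (.node 1 .nil (.node 2 .nil .nil)) .nil))) (.node 2 (.node 1 (.node 2 (.node 1 .nil .nil) .nil) (.node 2 .nil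 .nil)) .nil))) .nil))) .nil))) (.node 2 (.node 0 (.node 0 (.node 0 (.node 0 (.node 2 (.node 0 .nil .nil) .nil) (.node 1 (.node 0 (.node 0 .nil .nil) .nil) (.node 2 (.node 2 .nil .nil) .nil))) (.node 1 (.node 0 (.node 0 .nil (.node 2 .nil .nil)) (.node 1 (.node 0 .nil (.node 1 .nil (.node 2 .nil .nil))) (.node 2 (.node 0 .nil (.node 1 .nil .nil)) .nil))) (.node 2 (.node 0 .nil (.node 1 (.node 0 .nil (.node 2 (.node 1 .nil .nil) .nil)) (.node 2 (.node 2 .nil .nil) .nil))) .nil))) (.node 1 (.node 0 (.node 0 (.node 0 .nil (.node 2 .nil .nil)) (.node 1 (.node 0 .nil (.node 1 .nil .nil)) (.node 2 (.node 0 .nil (.node 1 (.node 2 .nil .nil) (.node 2 (.node 1 .nil .nil) .nil))) .nil))) (.node 1 (.node 1 (.node 2 (.node 2 .nil .nil) .nil) (.node 2 (.node 0 .nil .nil) .nil)) (.node 2 (.node 0 (.node 0 .nil .nil) (.node 2 (.node 0 .nil (.node 1 .nil .nil)) .nil)) .nil))) (.node 2 (.node 0 (.node 0 (.node 0 .nil (.node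 1 .nil (.node 2 .nil .nil))) (.node 1 (.node 1 (.node 0 .nil .nil) .nil) (.node 2 (.node 0 .nil .nil) .nil))) (.node 1 (.node 0 (.node 0 (.node 2 .nil .nil) .nil) (.node 1 (.node 2 (.node 0 .nil .nil) .nil) .nil)) (.node 2 (.node 0 (.node 0 .nil .nil) (.node 1 (.node 0 .nil .nil) .nil)) .nil))) .nil))) (.node 1 (.node 0 (.node 0 (.node 0 (.node 0 (.node 1 .nil .nil) (.node 2 (.node 0 .nil .nil) .nil)) (.node 2 (.node 1 .nil .nil) .nil)) (.node 1 (.node 0 (.node 1 (.node 2 .nil .nil) (.node 2 .nil .nil)) (.node 1 (.node 2 .nil .nil) (.node 2 (.node 0 .nil (.node 1 .nil .nil)) .nil))) (.node 2 (.node 1 .nil (.node 2 .nil .nil)) .nil))) (.node 1 (.node 0 (.node 0 (.node 0 (.node 0 .nil .nil) .nil) (.node 2 (.node 0 (.node 1 .nil .nil) (.node 1 .nil .nil)) .nil)) (.node 1 (.node 0 .nil (.node 2 (.node 0 (.node 2 .nil .nil) (.node 1 .nil (.node 2 .nil .nil))) .nil)) (.node 2 (.node 1 (.node 1 .nil .nil) (.node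 2 (.node 0 (.node 0 .nil .nil) (.node 1 .nil (.node 2 (.node 2 .nil .nil) .nil))) .nil)) .nil))) (.node 2 (.node 0 (.node 0 (.node 2 .nil .nil) (.node 1 (.node 0 .nil (.node 1 .nil .nil)) (.node 2 .nil .nil))) (.node 1 (.node 0 (.node 0 (.node 0 .nil .nil) (.node 1 .nil (.node 2 .nil .nil))) (.node 1 (.node 2 .nil .nil) .nil)) (.node 2 (.node 1 (.node 2 .nil .nil) (.node 2 (.node 0 .nil (.node 1 .nil (.node 2 .nil .nil))) .nil)) .nil))) .nil))) (.node 2 (.node 0 (.node 0 (.node 0 .nil (.node 1 (.node 1 .nil (.node 2 .nil .nil)) (.node 2 (.node 0 .nil (.node 1 .nil (.node 2 (.node 1 .nil .nil) .nil))) .nil))) (.node 1 (.node 0 (.node 0 .nil (.node 2 .nil .nil)) (.node 1 (.node 0 .nil (.node 1 .nil (.node 2 .nil .nil))) .nil)) (.node 2 (.node 1 (.node 1 (.node 1 .nil .nil) .nil) .nil) .nil))) (.node 1 (.node 0 (.node 0 .nil (.node 1 (.node 0 (.node 1 .nil .nil) (.node 1 (.node 1 .nil .nil) (.node 2 .nil .nil)))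 (.node 2 (.node 0 .nil (.node 1 (.node 1 .nil (.node 2 .nil .nil)) .nil)) .nil))) (.node 1 (.node 1 (.node 1 .nil .nil) (.node 2 (.node 0 .nil (.node 1 (.node 2 .nil .nil) .nil)) .nil)) (.node 2 (.node 0 (.node 0 .nil (.node 1 (.node 1 .nil .nil) (.node 2 .nil .nil))) (.node 1 .nil (.node 2 (.node 2 .nil .nil) .nil))) .nil))) (.node 2 (.node 0 (.node 0 (.node 2 .nil .nil) .nil) (.node 1 (.node 0 .nil (.node 1 (.node 0 (.node 0 .nil (.node 1 .nil .nil)) .nil) .nil)) (.node 2 (.node 0 .nil (.node 1 (.node 1 .nil (.node 2 .nil .nil)) (.node 2 (.node 0 (.node 0 .nil .nil) (.node 2 .nil .nil)) .nil))) .nil))) .nil))) .nil))) .nil)))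

/-- Orbits. -/
def partsOctSex : List Part := [(treeOctSex0, [92, 21024, 663553, 3147904, 4261120, 8683522], 32, 35), (treeOctSex1, [15, 5264, 622848, 3416064, 4196928, 8536096], 16, 840), (treeOctSex2, [29, 5250, 346112, 663616, 5275680, 10486528], 14, 896)]

set_option maxRecDepth 20000 in
/-- Orbit forest. -/
def treeOctOct0 : OrbTree := .nil

set_option maxRecDepth 20000 in
/-- Orbit forest. -/
def treeOctOct1 : OrbTree := (.node 0 (.node 1 (.node 0 (.node 0 .nil .nil) (.node 1 .nil (.node 2 .nil .nil))) (.node 2 (.node 0 (.node 1 .nil .nil) (.node 1 (.node 0 .nil (.node 2 .nil .nil)) (.node 2 .nil .nil))) .nil)) (.node 1 (.node 0 (.node 0 .nil (.node 1 .nil .nil)) (.node 1 (.node 2 .nil .nil) (.node 2 (.node 1 .nil (.node 2 (.node 1 .nil .nil) .nil)) .nil))) (.node 2 (.node 0 (.node 2 .nil .nil) (.node 1 (.node 1 .nil (.node 2 .nil .nil)) .nil)) .nil)))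

set_option maxRecDepth 20000 in
/-- Orbit forest. -/
def treeOctOct2 : OrbTree := (.node 0 (.node 0 (.node 0 (.node 1 (.node 0 (.node 0 .nil .nil) (.node 1 (.node 1 .nil (.node 2 .nil .nil)) (.node 2 (.node 1 .nil .nil) .nil))) (.node 2 (.node 0 .nil (.node 1 (.node 1 .nil (.node 2 .nil .nil)) .nil)) .nil)) (.node 1 (.node 0 (.node 0 (.node 0 (.node 2 .nil .nil) .nil) (.node 2 (.node 0 .nil (.node 2 .nil .nil)) .nil)) (.node 1 (.node 0 (.node 0 .nil (.node 1 .nil .nil)) (.node 1 (.node 1 .nil (.node 2 (.node 1 .nil .nil) .nil)) .nil)) .nil)) (.node 2 (.node 0 (.node 0 (.node 2 .nil .nil) (.node 1 (.node 0 .nil (.node 2 .nil .nil)) (.node 2 .nil .nil))) (.node 1 (.node 1 (.node 1 .nil .nil) (.node 2 (.node 0 .nil (.node 1 .nil (.node 2 .nil .nil))) .nil)) (.node 2 (.node 0 .nil (.node 1 (.node 1 .nil (.node 2 (.node 1 .nil .nil) .nil)) .nil)) .nil))) .nil))) (.node 1 (.node 0 (.node 0 (.node 0 .nil (.node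 2 .nil .nil)) (.node 2 (.node 0 (.node 0 .nil .nil) (.node 1 (.node 1 .nil (.node 2 .nil .nil)) .nil)) .nil)) (.node 1 (.node 0 (.node 0 (.node 0 .nil .nil) (.node 2 (.node 2 .nil .nil) .nil)) (.node 1 (.node 0 (.node 1 .nil (.node 2 .nil .nil)) (.node 1 (.node 2 .nil .nil) (.node 2 .nil .nil))) (.node 2 (.node 0 (.node 1 .nil .nil) .nil) .nil))) (.node 2 (.node 0 (.node 2 (.node 1 .nil .nil) .nil) (.node 1 (.node 1 (.node 0 .nil .nil) (.node 2 (.node 0 .nil .nil) .nil)) (.node 2 (.node 1 (.node 1 .nil .nil) .nil) .nil))) .nil))) (.node 2 (.node 0 (.node 0 (.node 0 .nil (.node 1 (.node 2 .nil .nil) .nil)) (.node 2 (.node 0 (.node 0 .nil .nil) .nil) .nil)) (.node 1 (.node 0 (.node 2 .nil .nil) (.node 1 (.node 1 .nil (.node 2 .nil .nil)) (.node 2 (.node 1 .nil .nil) .nil))) (.node 2 (.node 0 (.node 1 .nil (.node 2 .nil .nil)) (.node 1 (.node 2 (.node 2 .nil .nil) .nil) (.node 2 (.node 0 (.node 1 .nil .nil)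 (.node 1 .nil (.node 2 .nil .nil))) .nil))) .nil))) .nil))) (.node 1 (.node 0 (.node 0 (.node 0 (.node 1 (.node 0 .nil (.node 1 .nil (.node 2 .nil .nil))) .nil) (.node 1 (.node 1 (.node 2 .nil .nil) (.node 2 (.node 1 .nil .nil) .nil)) (.node 2 (.node 1 .nil .nil) .nil))) (.node 1 (.node 1 (.node 0 (.node 0 .nil (.node 2 .nil .nil)) (.node 1 (.node 1 .nil .nil) (.node 2 .nil .nil))) (.node 2 (.node 1 .nil (.node 2 (.node 0 .nil .nil) .nil)) .nil)) (.node 2 (.node 1 (.node 1 (.node 2 .nil .nil) .nil) (.node 2 (.node 1 .nil (.node 2 .nil .nil)) .nil)) .nil))) (.node 1 (.node 0 (.node 0 (.node 0 .nil (.node 1 .nil .nil)) (.node 1 (.node 1 .nil (.node 2 .nil .nil)) .nil)) (.node 1 (.node 0 .nil (.node 1 (.node 0 .nil (.node 1 .nil .nil)) (.node 2 (.node 0 .nil (.node 2 (.node 1 .nil .nil) .nil)) .nil))) (.node 2 (.node 0 (.node 1 (.node 1 .nil .nil) .nil) (.node 1 .nil (.node 2 (.node 0 .nil (.node 2 (.node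 2 .nil .nil) .nil)) .nil))) .nil))) (.node 2 (.node 0 (.node 0 (.node 0 .nil (.node 1 .nil (.node 2 (.node 1 .nil .nil) .nil))) (.node 1 (.node 0 (.node 0 .nil (.node 2 .nil .nil)) .nil) (.node 2 .nil .nil))) (.node 1 (.node 0 (.node 0 .nil (.node 1 .nil (.node 2 .nil .nil))) (.node 1 (.node 0 .nil (.node 2 .nil .nil)) .nil)) (.node 2 (.node 0 (.node 0 .nil (.node 1 .nil .nil)) (.node 1 (.node 1 .nil .nil) (.node 2 (.node 0 .nil (.node 1 .nil .nil)) .nil))) .nil))) .nil))) (.node 2 (.node 0 (.node 0 (.node 1 (.node 0 .nil (.node 1 (.node 1 .nil .nil) (.node 2 (.node 0 .nil .nil) .nil))) (.node 2 (.node 0 .nil (.node 2 .nil .nil)) .nil)) (.node 1 (.node 0 (.node 0 .nil (.node 1 (.node 1 .nil .nil) (.node 2 .nil .nil))) (.node 1 .nil (.node 2 (.node 0 .nil (.node 1 .nil .nil)) .nil))) (.node 2 (.node 1 (.node 0 .nil (.node 2 (.node 0 .nil .nil) .nil)) .nil) .nil))) (.node 1 (.node 0 (.node 1 (.node 1 .nil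 (.node 2 .nil .nil)) .nil) (.node 1 (.node 1 (.node 0 (.node 0 .nil .nil) (.node 2 .nil .nil)) (.node 2 (.node 0 (.node 1 .nil .nil) (.node 1 (.node 2 .nil .nil) .nil)) .nil)) (.node 2 (.node 0 (.node 0 (.node 0 .nil (.node 1 .nil .nil)) (.node 1 (.node 1 .nil (.node 2 .nil .nil)) (.node 2 .nil .nil))) (.node 1 .nil (.node 2 .nil .nil))) .nil))) (.node 2 (.node 0 (.node 1 (.node 0 .nil (.node 2 (.node 0 .nil .nil) .nil)) (.node 2 (.node 1 (.node 0 .nil .nil) (.node 2 .nil .nil)) .nil)) (.node 1 (.node 0 (.node 1 .nil (.node 2 .nil .nil)) (.node 2 .nil .nil)) (.node 2 .nil .nil))) .nil))) .nil)))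

set_option maxRecDepth 20000 in
/-- Orbit forest. -/
def treeOctOct3 : OrbTree := (.node 0 (.node 0 (.node 0 (.node 0 (.node 1 (.node 0 .nil (.node 2 (.node 0 .nil (.node 2 .nil .nil)) .nil)) .nil) (.node 1 (.node 0 (.node 0 .nil (.node 2 .nil .nil)) (.node 1 (.node 2 .nil .nil) (.node 2 (.node 0 .nil .nil) .nil))) .nil)) (.node 1 (.node 0 (.node 0 (.node 1 .nil .nil) (.node 1 (.node 0 .nil (.node 2 (.node 0 .nil .nil) .nil)) (.node 2 (.node 0 .nil (.node 1 .nil .nil)) .nil))) (.node 1 (.node 0 (.node 0 (.node 1 .nil (.node 2 .nil .nil)) (.node 1 (.node 2 .nil .nil) (.node 2 (.node 0 .nil .nil) .nil))) (.node 2 (.node 0 .nil (.node 1 (.node 0 .nil (.node 1 .nil (.node 2 .nil .nil))) .nil)) .nil)) (.node 2 (.node 0 (.node 2 (.node 0 .nil .nil) .nil) (.node 1 (.node 0 .nil (.node 1 (.node 0 .nil (.node 2 .nil .nil)) (.node 2 .nil .nil))) (.node 2 (.node 2 (.node 0 .nil .nil) .nil) .nil))) .nil))) (.node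 2 (.node 0 (.node 0 (.node 0 (.node 2 .nil .nil) .nil) (.node 1 .nil (.node 2 (.node 1 (.node 1 .nil (.node 2 .nil .nil)) (.node 2 .nil .nil)) .nil))) (.node 1 (.node 0 (.node 2 .nil .nil) (.node 1 (.node 1 .nil .nil) (.node 2 (.node 1 .nil .nil) .nil))) (.node 2 (.node 0 (.node 0 (.node 1 .nil .nil) (.node 1 (.node 0 .nil .nil) (.node 2 .nil .nil))) (.node 1 (.node 1 .nil .nil) (.node 2 (.node 2 .nil .nil) .nil))) .nil))) .nil))) (.node 1 (.node 0 (.node 0 (.node 1 (.node 1 (.node 0 .nil .nil) (.node 2 .nil .nil)) .nil) (.node 1 (.node 0 (.node 0 .nil .nil) (.node 2 (.node 0 .nil (.node 2 .nil .nil)) .nil)) (.node 2 (.node 0 .nil (.node 1 .nil (.node 2 (.node 0 .nil (.node 1 (.node 0 .nil .nil) .nil)) .nil))) .nil))) (.node 1 (.node 1 (.node 0 (.node 1 .nil (.node 2 (.node 0 .nil .nil) .nil)) (.node 1 (.node 1 .nil .nil) (.node 2 (.node 0 .nil (.node 1 .nil (.node 2 (.node 0 .nil .nil) .nil))) .nil)))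 (.node 2 (.node 0 (.node 0 .nil (.node 1 .nil (.node 2 (.node 1 .nil .nil) .nil))) (.node 1 (.node 2 .nil .nil) (.node 2 (.node 2 .nil .nil) .nil))) .nil)) (.node 2 (.node 0 (.node 1 (.node 1 .nil .nil) (.node 2 .nil .nil)) (.node 1 (.node 0 (.node 0 .nil (.node 2 .nil .nil)) (.node 2 (.node 2 .nil .nil) .nil)) (.node 2 (.node 0 (.node 2 .nil .nil) (.node 2 (.node 0 (.node 2 .nil .nil) (.node 1 .nil .nil)) .nil)) .nil))) .nil))) (.node 2 (.node 0 (.node 1 (.node 1 .nil (.node 2 (.node 1 .nil .nil) .nil)) (.node 2 (.node 0 (.node 0 (.node 2 .nil .nil) (.node 1 .nil .nil)) (.node 1 (.node 1 .nil .nil) (.node 2 (.node 0 .nil (.node 2 (.node 2 .nil .nil) .nil)) .nil))) .nil)) (.node 1 (.node 1 (.node 0 (.node 0 .nil (.node 2 (.node 0 .nil .nil) .nil)) (.node 1 (.node 1 .nil .nil) (.node 2 (.node 1 (.node 0 .nil .nil) .nil) .nil))) (.node 2 (.node 1 (.node 1 .nil (.node 2 .nil .nil)) (.node 2 (.node 2 .nil .nil)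 .nil)) .nil)) (.node 2 (.node 0 (.node 0 (.node 0 .nil .nil) (.node 2 (.node 0 (.node 1 .nil .nil) (.node 1 .nil (.node 2 .nil .nil))) .nil)) (.node 1 (.node 1 (.node 0 .nil .nil) (.node 2 (.node 0 .nil (.node 1 .nil (.node 2 (.node 0 .nil .nil) .nil))) .nil)) (.node 2 (.node 2 (.node 1 .nil (.node 2 (.node 0 .nil .nil) .nil)) .nil) .nil))) .nil))) .nil))) (.node 1 (.node 0 (.node 0 (.node 0 (.node 1 (.node 0 .nil (.node 1 .nil .nil)) (.node 2 (.node 1 (.node 1 .nil (.node 2 .nil .nil)) (.node 2 (.node 0 .nil .nil) .nil)) .nil)) (.node 1 (.node 0 (.node 0 (.node 2 .nil .nil) (.node 2 .nil .nil)) (.node 1 (.node 2 .nil .nil) (.node 2 (.node 0 .nil (.node 1 .nil .nil)) .nil))) (.node 2 (.node 0 (.node 0 .nil .nil) (.node 1 (.node 2 (.node 1 .nil (.node 2 .nil .nil)) .nil) (.node 2 (.node 1 (.node 2 .nil .nil) (.node 2 (.node 1 .nil .nil) .nil)) .nil))) .nil))) (.node 1 (.node 1 (.node 0 (.node 0 .nil (.node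 2 .nil .nil)) (.node 1 (.node 1 .nil (.node 2 (.node 2 .nil .nil) .nil)) .nil)) (.node 2 (.node 0 (.node 1 .nil (.node 2 .nil .nil)) (.node 1 (.node 0 .nil .nil) (.node 2 (.node 1 .nil .nil) .nil))) .nil)) (.node 2 (.node 0 (.node 0 (.node 0 .nil (.node 2 .nil .nil)) (.node 1 .nil (.node 2 (.node 0 .nil (.node 2 .nil .nil)) .nil))) (.node 1 (.node 0 (.node 0 .nil (.node 2 (.node 1 .nil .nil) .nil)) (.node 1 (.node 2 .nil .nil) (.node 2 .nil .nil))) (.node 2 (.node 0 .nil .nil) .nil))) .nil))) (.node 1 (.node 0 (.node 0 (.node 1 (.node 0 .nil (.node 1 .nil (.node 2 .nil .nil))) .nil) (.node 1 (.node 1 .nil .nil) (.node 2 (.node 0 (.node 0 (.node 2 .nil .nil) .nil) (.node 1 (.node 0 .nil .nil) .nil)) .nil))) (.node 2 (.node 0 (.node 1 .nil (.node 2 (.node 1 .nil .nil) .nil)) (.node 1 (.node 0 (.node 2 .nil .nil) (.node 1 (.node 2 (.node 0 .nil .nil) .nil) (.node 2 (.node 0 .nil .nil) .nil))) (.node 2 (.node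 1 (.node 1 .nil .nil) (.node 2 .nil .nil)) .nil))) .nil)) (.node 2 (.node 0 (.node 0 (.node 0 (.node 1 .nil .nil) (.node 1 (.node 0 .nil (.node 1 .nil .nil)) .nil)) (.node 1 (.node 0 (.node 0 (.node 2 .nil .nil) .nil) (.node 2 (.node 0 (.node 2 .nil .nil) .nil) .nil)) .nil)) (.node 1 (.node 0 (.node 0 (.node 0 .nil .nil) (.node 2 .nil .nil)) .nil) (.node 2 (.node 0 (.node 0 (.node 2 .nil .nil) (.node 1 (.node 0 .nil (.node 2 .nil .nil)) (.node 2 .nil .nil))) (.node 1 (.node 0 (.node 0 .nil .nil) (.node 1 .nil .nil)) (.node 2 (.node 1 .nil (.node 2 (.node 0 .nil (.node 2 .nil .nil)) .nil)) .nil))) .nil))) .nil))) (.node 2 (.node 0 (.node 0 (.node 0 (.node 0 (.node 2 .nil .nil) (.node 2 (.node 0 .nil .nil) .nil)) (.node 1 (.node 0 (.node 2 .nil .nil) (.node 1 (.node 0 .nil (.node 1 .nil (.node 2 .nil .nil))) .nil)) (.node 2 (.node 1 .nil (.node 2 .nil .nil)) .nil))) (.node 1 (.node 0 (.node 0 (.node 1 .nil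 .nil) (.node 2 (.node 0 .nil .nil) .nil)) (.node 1 (.node 0 (.node 2 .nil .nil) (.node 1 (.node 0 .nil (.node 1 .nil (.node 2 .nil .nil))) .nil)) (.node 2 (.node 1 .nil .nil) .nil))) (.node 2 (.node 0 (.node 0 .nil (.node 1 .nil .nil)) (.node 1 (.node 1 (.node 0 .nil (.node 1 .nil .nil)) (.node 2 (.node 0 .nil (.node 2 .nil .nil)) .nil)) (.node 2 .nil .nil))) .nil))) (.node 1 (.node 0 (.node 1 (.node 1 (.node 2 .nil .nil) (.node 2 (.node 2 .nil .nil) .nil)) (.node 2 (.node 1 (.node 1 .nil .nil) .nil) .nil)) (.node 1 (.node 0 (.node 0 (.node 2 .nil .nil) (.node 2 (.node 1 .nil .nil) .nil)) (.node 1 (.node 0 .nil (.node 2 (.node 0 .nil .nil) .nil)) (.node 2 .nil .nil))) .nil)) (.node 2 (.node 0 (.node 0 (.node 1 (.node 0 .nil .nil) (.node 2 .nil .nil)) (.node 1 (.node 0 (.node 0 .nil .nil) .nil) .nil)) (.node 1 (.node 0 .nil (.node 1 (.node 1 (.node 1 .nil .nil) (.node 2 (.node 0 (.node 0 .nil .nil) .nil)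 .nil)) (.node 2 (.node 0 (.node 0 .nil (.node 2 .nil .nil)) (.node 1 (.node 0 .nil .nil) (.node 2 (.node 2 .nil .nil) .nil))) .nil))) (.node 2 (.node 0 (.node 0 .nil (.node 1 .nil (.node 2 (.node 1 .nil .nil) .nil))) (.node 1 (.node 0 .nil (.node 2 .nil .nil)) (.node 2 (.node 0 .nil (.node 1 .nil (.node 2 (.node 1 .nil .nil) .nil))) .nil))) .nil))) .nil))) .nil)))

/-- Orbits. -/
def partsOctOct : List Part := [(treeOctOct0, [9347075], 64, 1), (treeOctOct1, [5329044], 0, 30), (treeOctOct2, [13062145], 16, 280), (treeOctOct3, [16056344], 4, 448)]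

/-- Root structure. -/
def rootSex : List ℕ := [1352, 950272, 1069184, 2099744, 4259860, 8396803]

/-- Generators of its stabilizer. -/
def gensSex : List ℕ := [691200804277800456814226805486729922, 384841554948590237971700018885077365, 564178172311013191059826524256779319]

set_option maxRecDepth 20000 in
/-- Orbit forest. -/
def treeSexOct0 : OrbTree := (.node 0 (.node 0 .nil (.node 1 (.node 0 .nil (.node 1 (.node 0 .nil .nil) .nil)) .nil)) (.node 1 (.node 1 (.node 1 .nil .nil) (.node 2 .nil .nil)) (.node 2 (.node 0 (.node 2 .nil .nil) (.node 1 .nil .nil)) .nil)))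

set_option maxRecDepth 20000 in
/-- Orbit forest. -/
def treeSexOct1 : OrbTree := (.node 0 (.node 0 (.node 0 (.node 0 (.node 1 (.node 2 .nil .nil) (.node 2 (.node 0 .nil (.node 2 .nil .nil)) .nil)) (.node 1 (.node 0 .nil (.node 1 (.node 0 (.node 0 .nil .nil) .nil) .nil)) .nil)) (.node 1 (.node 0 (.node 0 (.node 0 .nil (.node 2 .nil .nil)) (.node 1 (.node 1 .nil (.node 2 (.node 2 .nil .nil) .nil)) (.node 2 (.node 1 .nil .nil) .nil))) (.node 1 (.node 0 .nil (.node 2 (.node 0 (.node 0 .nil .nil) .nil) .nil)) (.node 2 (.node 0 (.node 0 .nil .nil) (.node 2 (.node 1 .nil (.node 2 (.node 2 .nil .nil) .nil)) .nil)) .nil))) (.node 2 (.node 0 (.node 0 (.node 2 .nil .nil) (.node 1 (.node 1 .nil .nil) (.node 2 (.node 2 .nil .nil) .nil))) (.node 1 (.node 0 .nil (.node 1 .nil .nil)) (.node 2 (.node 0 (.node 1 .nil (.node 2 (.node 1 .nil .nil) .nil)) (.node 1 (.node 2 .nil .nil) (.node 2 .nil .nil))) .nil))) .nil)))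 (.node 1 (.node 0 (.node 2 (.node 0 (.node 0 .nil .nil) (.node 1 (.node 0 (.node 0 .nil (.node 2 .nil .nil)) (.node 1 (.node 2 .nil .nil) (.node 2 .nil .nil))) (.node 2 (.node 1 .nil .nil) .nil))) .nil) (.node 1 (.node 0 (.node 0 (.node 0 .nil (.node 1 .nil (.node 2 .nil .nil))) (.node 1 .nil (.node 2 (.node 1 .nil (.node 2 .nil .nil)) .nil))) (.node 1 .nil .nil)) (.node 2 (.node 0 (.node 1 (.node 1 .nil (.node 2 .nil .nil)) .nil) (.node 1 (.node 0 (.node 2 .nil .nil) (.node 1 (.node 2 .nil .nil) (.node 2 .nil .nil))) (.node 2 (.node 0 .nil (.node 1 (.node 0 .nil (.node 2 .nil .nil)) .nil)) .nil))) .nil))) (.node 2 (.node 0 (.node 0 (.node 2 .nil .nil) (.node 1 (.node 0 (.node 0 .nil .nil) (.node 1 .nil (.node 2 .nil .nil))) (.node 2 (.node 1 (.node 0 .nil (.node 1 .nil (.node 2 (.node 2 .nil .nil) .nil))) (.node 2 (.node 2 .nil .nil) .nil)) .nil))) (.node 1 (.node 0 (.node 0 .nil (.node 1 (.node 0 .nil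 (.node 2 .nil .nil)) (.node 2 .nil .nil))) (.node 1 (.node 1 (.node 1 (.node 2 .nil .nil) .nil) (.node 2 (.node 1 .nil .nil) .nil)) (.node 2 (.node 0 (.node 0 .nil (.node 2 .nil .nil)) (.node 2 (.node 1 .nil .nil) .nil)) .nil))) (.node 2 (.node 0 (.node 0 (.node 2 .nil .nil) (.node 2 (.node 1 .nil .nil) .nil)) (.node 1 (.node 0 (.node 0 .nil (.node 2 .nil .nil)) (.node 1 .nil (.node 2 (.node 1 .nil (.node 2 (.node 0 .nil .nil) .nil)) .nil))) (.node 2 .nil .nil))) .nil))) .nil))) (.node 1 (.node 0 (.node 0 (.node 0 (.node 1 .nil (.node 2 (.node 2 .nil .nil) .nil)) (.node 1 (.node 0 (.node 0 .nil .nil) (.node 1 (.node 0 .nil .nil) (.node 2 .nil .nil))) (.node 2 (.node 2 (.node 0 .nil (.node 2 .nil .nil)) .nil) .nil))) (.node 1 (.node 0 .nil (.node 1 (.node 0 (.node 1 .nil .nil) .nil) .nil)) (.node 2 (.node 0 (.node 1 .nil (.node 2 .nil .nil)) (.node 1 (.node 0 (.node 0 .nil (.node 2 .nil .nil)) (.node 1 (.node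 0 .nil .nil) (.node 2 .nil .nil))) (.node 2 (.node 0 .nil (.node 2 .nil .nil)) .nil))) .nil))) (.node 1 (.node 0 (.node 0 (.node 0 (.node 2 .nil .nil) (.node 1 (.node 1 .nil .nil) (.node 2 (.node 0 .nil .nil) .nil))) (.node 2 (.node 1 .nil (.node 2 (.node 0 .nil (.node 1 (.node 0 .nil .nil) (.node 2 .nil .nil))) .nil)) .nil)) (.node 1 (.node 1 (.node 1 .nil (.node 2 (.node 2 .nil .nil) .nil)) (.node 2 (.node 0 .nil (.node 2 .nil .nil)) .nil)) (.node 2 (.node 0 (.node 0 (.node 1 .nil (.node 2 .nil .nil)) (.node 2 (.node 2 .nil .nil) .nil)) (.node 1 (.node 0 (.node 0 .nil .nil) (.node 1 (.node 1 .nil .nil) (.node 2 (.node 0 .nil (.node 2 .nil .nil)) .nil))) (.node 2 (.node 0 (.node 0 .nil .nil) (.node 1 (.node 0 .nil .nil) (.node 2 .nil .nil))) .nil))) .nil))) (.node 2 (.node 0 (.node 0 (.node 0 .nil (.node 2 (.node 1 .nil .nil) .nil)) (.node 2 (.node 0 .nil (.node 1 (.node 0 .nil .nil) (.node 2 .nil .nil)))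 .nil)) (.node 1 (.node 0 (.node 1 (.node 1 .nil .nil) .nil) (.node 1 (.node 2 .nil .nil) (.node 2 .nil .nil))) (.node 2 (.node 0 (.node 1 .nil (.node 2 .nil .nil)) (.node 1 (.node 1 .nil .nil) (.node 2 (.node 0 .nil (.node 1 (.node 0 .nil (.node 2 .nil .nil)) (.node 2 .nil .nil))) .nil))) .nil))) .nil))) (.node 2 (.node 0 (.node 0 (.node 0 (.node 1 (.node 1 .nil .nil) (.node 2 (.node 0 .nil .nil) .nil)) (.node 1 (.node 0 .nil (.node 1 (.node 2 .nil .nil) (.node 2 .nil .nil))) (.node 2 (.node 2 .nil .nil) .nil))) (.node 1 (.node 0 (.node 0 (.node 0 .nil (.node 1 .nil .nil)) (.node 1 (.node 1 .nil (.node 2 .nil .nil)) (.node 2 .nil .nil))) (.node 1 (.node 0 (.node 2 .nil .nil) (.node 1 (.node 2 .nil .nil) (.node 2 .nil .nil))) (.node 2 (.node 2 .nil .nil) .nil))) (.node 2 (.node 0 .nil (.node 1 (.node 0 (.node 1 .nil (.node 2 .nil .nil)) (.node 1 .nil .nil)) (.node 2 (.node 0 .nil (.node 1 .nil .nil)) .nil)))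 .nil))) (.node 1 (.node 0 (.node 0 (.node 0 .nil .nil) (.node 1 (.node 0 (.node 1 .nil .nil) .nil) (.node 2 (.node 1 (.node 1 .nil .nil) (.node 2 .nil .nil)) .nil))) (.node 1 (.node 0 (.node 0 (.node 1 .nil .nil) (.node 1 .nil (.node 2 .nil .nil))) (.node 2 (.node 1 .nil (.node 2 (.node 2 .nil .nil) .nil)) .nil)) (.node 2 (.node 1 (.node 0 .nil .nil) (.node 2 (.node 1 .nil .nil) .nil)) .nil))) (.node 2 (.node 0 (.node 0 (.node 1 .nil .nil) (.node 1 (.node 0 (.node 2 .nil .nil) (.node 1 (.node 1 .nil .nil) (.node 2 (.node 0 .nil .nil) .nil))) (.node 2 (.node 0 .nil (.node 1 .nil .nil)) .nil))) (.node 1 (.node 0 (.node 0 .nil (.node 1 .nil .nil)) (.node 1 (.node 0 (.node 0 .nil .nil) (.node 1 .nil .nil)) (.node 2 (.node 0 .nil .nil) .nil))) (.node 2 (.node 0 (.node 0 .nil (.node 2 .nil .nil)) (.node 2 (.node 1 .nil (.node 2 .nil .nil)) .nil)) .nil))) .nil))) .nil)))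

set_option maxRecDepth 20000 in
/-- Orbit forest. -/
def treeSexOct2 : OrbTree := (.node 0 (.node 1 (.node 0 (.node 0 (.node 0 (.node 0 .nil .nil) (.node 1 (.node 1 (.node 1 .nil (.node 2 (.node 0 .nil .nil) .nil)) (.node 2 (.node 2 .nil .nil) .nil)) (.node 2 (.node 0 (.node 1 .nil .nil) (.node 2 (.node 2 .nil .nil) .nil)) .nil))) (.node 1 (.node 0 (.node 0 .nil .nil) (.node 1 (.node 1 .nil .nil) .nil)) (.node 2 (.node 1 (.node 1 (.node 2 .nil .nil) .nil) (.node 2 (.node 0 (.node 1 .nil .nil) (.node 2 .nil .nil)) .nil)) .nil))) (.node 1 (.node 1 (.node 1 (.node 2 .nil .nil) (.node 2 (.node 0 .nil (.node 1 (.node 0 .nil .nil) .nil)) .nil)) (.node 2 (.node 0 (.node 0 (.node 1 .nil .nil) (.node 1 .nil .nil)) (.node 1 (.node 0 .nil .nil) (.node 2 (.node 1 .nil .nil) .nil))) .nil)) (.node 2 (.node 0 (.node 0 (.node 0 (.node 2 .nil .nil) (.node 1 (.node 1 .nil (.node 2 .nil .nil)) (.node 2 .nil .nil))) (.node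 1 (.node 0 .nil (.node 2 (.node 1 .nil (.node 2 .nil .nil)) .nil)) (.node 2 (.node 0 (.node 2 .nil .nil) (.node 2 .nil .nil)) .nil))) (.node 1 (.node 0 (.node 2 .nil .nil) (.node 1 (.node 0 .nil (.node 1 (.node 2 .nil .nil) (.node 2 .nil .nil))) (.node 2 (.node 0 (.node 1 .nil .nil) (.node 2 (.node 0 .nil .nil) .nil)) .nil))) (.node 2 (.node 2 (.node 1 .nil .nil) .nil) .nil))) .nil))) (.node 2 (.node 0 (.node 0 (.node 0 (.node 2 .nil .nil) (.node 1 (.node 0 .nil .nil) (.node 2 (.node 0 .nil .nil) .nil))) (.node 1 (.node 0 .nil (.node 1 (.node 0 .nil (.node 2 (.node 2 .nil .nil) .nil)) .nil)) (.node 2 (.node 0 (.node 0 .nil (.node 1 .nil (.node 2 (.node 0 .nil .nil) .nil))) (.node 1 (.node 0 .nil (.node 2 (.node 0 .nil .nil) .nil)) (.node 2 (.node 1 (.node 1 .nil .nil) (.node 2 .nil .nil)) .nil))) .nil))) (.node 1 (.node 0 (.node 0 (.node 1 (.node 0 .nil (.node 1 .nil (.node 2 .nil .nil))) (.node 2 (.node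 2 .nil .nil) .nil)) (.node 2 .nil .nil)) (.node 1 (.node 0 (.node 1 (.node 0 .nil (.node 1 .nil .nil)) .nil) (.node 1 .nil .nil)) .nil)) (.node 2 (.node 0 (.node 0 (.node 0 .nil .nil) (.node 2 (.node 0 (.node 2 .nil .nil) .nil) .nil)) (.node 1 (.node 0 .nil (.node 1 (.node 1 .nil .nil) (.node 2 (.node 1 .nil (.node 2 .nil .nil)) .nil))) .nil)) .nil))) .nil)) (.node 1 (.node 0 (.node 0 (.node 0 (.node 1 (.node 0 .nil .nil) (.node 2 (.node 1 .nil .nil) .nil)) (.node 1 (.node 0 .nil (.node 1 (.node 2 .nil .nil) (.node 2 (.node 0 .nil .nil) .nil))) (.node 2 (.node 0 (.node 1 .nil .nil) (.node 1 (.node 0 .nil .nil) (.node 2 (.node 0 (.node 0 .nil (.node 2 .nil .nil)) (.node 2 .nil .nil)) .nil))) .nil))) (.node 1 (.node 0 (.node 0 (.node 0 .nil (.node 2 (.node 0 .nil .nil) .nil)) (.node 1 (.node 0 .nil .nil) .nil)) (.node 2 (.node 0 (.node 0 .nil (.node 1 (.node 0 .nil (.node 2 .nil .nil)) (.node 2 .nil .nil)))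 (.node 1 (.node 0 .nil .nil) (.node 2 (.node 2 (.node 1 .nil (.node 2 .nil .nil)) .nil) .nil))) .nil)) (.node 2 (.node 0 (.node 0 .nil (.node 1 (.node 2 (.node 1 .nil .nil) .nil) (.node 2 (.node 1 .nil .nil) .nil))) (.node 1 (.node 1 (.node 2 .nil .nil) (.node 2 .nil .nil)) (.node 2 (.node 1 (.node 0 .nil .nil) (.node 2 .nil .nil)) .nil))) .nil))) (.node 1 (.node 0 (.node 0 (.node 0 .nil (.node 2 .nil .nil)) (.node 1 (.node 0 (.node 0 .nil .nil) (.node 1 (.node 2 .nil .nil) (.node 2 .nil .nil))) (.node 2 (.node 0 (.node 1 .nil .nil) (.node 1 (.node 0 (.node 0 .nil .nil) (.node 1 .nil (.node 2 .nil .nil))) (.node 2 .nil .nil))) .nil))) (.node 1 (.node 1 (.node 1 .nil (.node 2 .nil .nil)) (.node 2 (.node 0 (.node 2 .nil .nil) (.node 1 (.node 0 .nil (.node 1 .nil .nil)) (.node 2 (.node 0 .nil .nil) .nil))) .nil)) (.node 2 (.node 0 (.node 1 (.node 2 .nil .nil) (.node 2 (.node 0 .nil (.node 2 .nil .nil)) .nil))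 .nil) .nil))) (.node 2 (.node 0 (.node 1 (.node 0 (.node 2 (.node 0 .nil .nil) .nil) .nil) .nil) (.node 1 (.node 0 (.node 0 (.node 0 .nil (.node 1 (.node 1 .nil .nil) (.node 2 .nil .nil))) (.node 2 (.node 0 .nil (.node 2 .nil .nil)) .nil)) (.node 1 (.node 0 (.node 0 .nil (.node 2 .nil .nil)) (.node 2 .nil .nil)) (.node 2 (.node 0 (.node 2 .nil .nil) (.node 1 (.node 0 .nil (.node 2 .nil .nil)) (.node 2 (.node 1 (.node 1 .nil .nil) .nil) .nil))) .nil))) (.node 2 (.node 0 (.node 0 (.node 2 .nil .nil) (.node 1 (.node 1 .nil .nil) (.node 2 (.node 0 .nil (.node 1 .nil .nil)) .nil))) (.node 1 (.node 0 .nil (.node 1 (.node 1 .nil .nil) (.node 2 (.node 1 .nil .nil) .nil))) (.node 2 (.node 2 (.node 0 (.node 1 .nil .nil) (.node 1 .nil (.node 2 .nil .nil))) .nil) .nil))) .nil))) .nil))) (.node 2 (.node 0 (.node 0 (.node 0 (.node 0 .nil .nil) (.node 1 (.node 0 (.node 2 .nil .nil) (.node 1 (.node 0 .nil .nil) (.node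 2 .nil .nil))) (.node 2 .nil .nil))) (.node 1 (.node 0 (.node 0 .nil (.node 1 (.node 1 .nil (.node 2 .nil .nil)) .nil)) (.node 1 (.node 0 (.node 2 (.node 1 .nil .nil) .nil) (.node 2 (.node 1 .nil (.node 2 .nil .nil)) .nil)) (.node 2 (.node 0 (.node 2 (.node 1 .nil .nil) .nil) (.node 1 .nil .nil)) .nil))) (.node 2 (.node 0 (.node 1 (.node 0 .nil (.node 2 .nil .nil)) .nil) (.node 1 (.node 0 .nil (.node 2 .nil .nil)) (.node 2 (.node 2 .nil .nil) .nil))) .nil))) (.node 1 (.node 0 (.node 0 (.node 0 (.node 2 .nil .nil) (.node 1 (.node 1 .nil (.node 2 .nil .nil)) (.node 2 (.node 0 .nil (.node 2 .nil .nil)) .nil))) (.node 1 (.node 0 .nil (.node 1 .nil .nil)) (.node 2 (.node 0 .nil .nil) .nil))) (.node 1 (.node 0 (.node 1 (.node 2 .nil .nil) (.node 2 (.node 0 .nil .nil) .nil)) (.node 1 (.node 1 (.node 2 .nil .nil) (.node 2 (.node 1 .nil .nil) .nil)) (.node 2 (.node 1 (.node 1 .nil .nil) .nil) .nil))) (.node 2 (.node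 0 (.node 2 .nil .nil) (.node 1 (.node 2 (.node 1 .nil .nil) .nil) (.node 2 (.node 0 .nil (.node 1 .nil .nil)) .nil))) .nil))) (.node 2 (.node 0 (.node 1 (.node 0 (.node 1 .nil .nil) (.node 1 .nil (.node 2 (.node 2 .nil .nil) .nil))) .nil) (.node 2 (.node 0 (.node 2 .nil .nil) (.node 1 .nil .nil)) .nil)) .nil))) .nil)))

/-- Orbits. -/
def partsSexOct : List Part := [(treeSexOct0, [9347075], 32, 15), (treeSexOct1, [13062145], 16, 360), (treeSexOct2, [7221256], 14, 384)]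

set_option maxRecDepth 20000 in
/-- Orbit forest. -/
def treeSexTri0 : OrbTree := (.node 0 (.node 0 (.node 0 .nil .nil) (.node 1 (.node 2 (.node 0 .nil (.node 1 .nil .nil)) .nil) (.node 2 (.node 1 (.node 1 .nil .nil) (.node 2 .nil .nil)) .nil))) (.node 1 (.node 1 (.node 0 .nil .nil) .nil) .nil))

set_option maxRecDepth 20000 in
/-- Orbit forest. -/
def treeSexTri1 : OrbTree := (.node 0 (.node 0 (.node 0 (.node 1 (.node 1 .nil .nil) (.node 2 (.node 0 .nil (.node 1 (.node 0 .nil (.node 2 .nil .nil)) (.node 2 .nil .nil))) .nil)) (.node 1 (.node 0 (.node 0 .nil (.node 1 (.node 0 .nil (.node 2 .nil .nil)) (.node 2 (.node 0 .nil .nil) .nil))) (.node 1 (.node 0 (.node 1 .nil .nil) (.node 1 .nil (.node 2 .nil .nil))) (.node 2 (.node 0 .nil .nil) .nil))) (.node 2 (.node 0 (.node 1 .nil .nil) (.node 1 (.node 1 (.node 2 .nil .nil) (.node 2 (.node 1 .nil .nil) .nil)) (.node 2 (.node 1 (.node 2 .nil .nil) .nil) .nil)))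 .nil))) (.node 1 (.node 0 (.node 0 (.node 0 .nil (.node 2 .nil .nil)) (.node 1 (.node 1 .nil .nil) (.node 2 (.node 0 .nil (.node 1 .nil .nil)) .nil))) (.node 1 (.node 0 (.node 1 (.node 1 .nil .nil) (.node 2 .nil .nil)) (.node 1 (.node 1 .nil .nil) (.node 2 (.node 0 (.node 2 .nil .nil) (.node 2 (.node 2 .nil .nil) .nil)) .nil))) (.node 2 (.node 0 (.node 1 (.node 2 .nil .nil) (.node 2 .nil .nil)) (.node 1 (.node 0 .nil .nil) (.node 2 (.node 1 .nil .nil) .nil))) .nil))) (.node 2 (.node 0 (.node 2 (.node 0 .nil (.node 2 (.node 1 .nil .nil) .nil)) .nil) (.node 1 (.node 0 (.node 2 (.node 0 .nil .nil) .nil) (.node 1 (.node 2 .nil .nil) (.node 2 (.node 1 .nil .nil) .nil))) (.node 2 (.node 0 (.node 1 .nil .nil) (.node 1 (.node 0 .nil (.node 1 .nil .nil)) .nil)) .nil))) .nil))) (.node 1 (.node 0 (.node 0 (.node 0 (.node 0 .nil .nil) .nil) (.node 2 (.node 0 (.node 0 .nil (.node 1 .nil (.node 2 .nil .nil))) (.node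 1 (.node 1 (.node 2 .nil .nil) (.node 2 .nil .nil)) .nil)) .nil)) (.node 1 (.node 1 (.node 1 .nil .nil) .nil) (.node 2 (.node 0 (.node 0 (.node 1 .nil .nil) (.node 2 (.node 1 .nil .nil) .nil)) (.node 1 (.node 0 (.node 0 .nil (.node 1 .nil .nil)) (.node 1 (.node 0 (.node 2 .nil .nil) .nil) (.node 2 (.node 0 .nil .nil) .nil))) (.node 2 (.node 0 .nil (.node 1 (.node 1 (.node 1 .nil .nil) (.node 2 .nil .nil)) (.node 2 (.node 1 (.node 2 .nil .nil) .nil) .nil))) .nil))) .nil))) (.node 2 (.node 0 (.node 0 (.node 0 .nil (.node 1 (.node 2 .nil .nil) (.node 2 .nil .nil))) (.node 1 (.node 0 (.node 0 .nil (.node 1 .nil (.node 2 .nil .nil))) (.node 2 (.node 0 .nil (.node 1 .nil .nil)) .nil)) (.node 2 (.node 0 .nil (.node 1 (.node 1 .nil .nil) (.node 2 .nil .nil))) .nil))) (.node 1 (.node 1 (.node 0 (.node 0 .nil (.node 2 .nil .nil)) (.node 1 .nil (.node 2 (.node 0 .nil (.node 1 .nil .nil)) .nil))) (.node 2 (.node 1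 .nil .nil) .nil)) (.node 2 (.node 0 (.node 1 .nil .nil) (.node 1 (.node 0 (.node 0 .nil (.node 1 .nil (.node 2 .nil .nil))) (.node 1 (.node 0 .nil .nil) (.node 2 (.node 1 .nil .nil) .nil))) (.node 2 (.node 0 (.node 2 .nil .nil) (.node 1 (.node 0 .nil .nil) (.node 2 (.node 1 .nil .nil) .nil))) .nil))) .nil))) .nil)))

set_option maxRecDepth 20000 in
/-- Orbit forest. -/
def treeSexTri2 : OrbTree := (.node 0 (.node 0 (.node 0 (.node 0 (.node 0 (.node 1 (.node 2 (.node 0 .nil .nil) .nil) .nil) (.node 1 (.node 0 (.node 0 .nil (.node 1 .nil .nil)) (.node 1 (.node 1 .nil .nil) (.node 2 .nil .nil))) (.node 2 (.node 1 (.node 0 .nil .nil) (.node 2 (.node 1 .nil (.node 2 .nil .nil)) .nil)) .nil))) (.node 1 (.node 0 (.node 0 (.node 2 .nil .nil) (.node 1 (.node 0 .nil .nil) (.node 2 (.node 0 .nil (.node 2 .nil .nil)) .nil))) (.node 1 (.node 0 .nil (.node 2 (.node 0 .nil .nil) .nil)) (.node 2 (.node 0 (.node 2 .nil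 .nil) (.node 1 .nil .nil)) .nil))) (.node 2 (.node 0 (.node 0 .nil .nil) (.node 1 (.node 0 (.node 0 .nil (.node 1 .nil .nil)) (.node 2 .nil .nil)) (.node 2 (.node 0 .nil .nil) .nil))) .nil))) (.node 1 (.node 0 (.node 0 (.node 2 .nil .nil) (.node 1 (.node 0 (.node 2 .nil .nil) (.node 1 (.node 0 .nil (.node 2 .nil .nil)) (.node 2 .nil .nil))) (.node 2 (.node 0 (.node 2 .nil .nil) (.node 2 .nil .nil)) .nil))) (.node 1 (.node 0 (.node 0 (.node 1 .nil .nil) (.node 1 .nil .nil)) (.node 1 (.node 2 (.node 0 .nil (.node 2 .nil .nil)) .nil) (.node 2 (.node 0 (.node 1 .nil .nil) (.node 1 (.node 0 .nil .nil) .nil)) .nil))) (.node 2 (.node 0 (.node 2 .nil .nil) (.node 1 (.node 1 (.node 2 .nil .nil) (.node 2 (.node 0 .nil (.node 1 (.node 0 .nil .nil) .nil)) .nil)) (.node 2 (.node 0 (.node 2 .nil .nil) (.node 1 (.node 0 .nil (.node 1 .nil .nil)) (.node 2 .nil .nil))) .nil))) .nil))) (.node 2 (.node 0 (.node 0 (.node 0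 (.node 1 .nil .nil) (.node 1 .nil .nil)) (.node 1 (.node 0 (.node 1 .nil (.node 2 .nil .nil)) .nil) .nil)) (.node 1 (.node 0 (.node 0 (.node 2 .nil .nil) .nil) (.node 1 (.node 1 .nil (.node 2 (.node 0 .nil (.node 2 .nil .nil)) .nil)) (.node 2 (.node 1 (.node 1 .nil .nil) (.node 2 (.node 1 .nil .nil) .nil)) .nil))) (.node 2 (.node 1 (.node 0 (.node 0 .nil (.node 2 .nil .nil)) (.node 1 (.node 0 .nil (.node 2 .nil .nil)) (.node 2 (.node 0 .nil .nil) .nil))) (.node 2 (.node 0 .nil (.node 1 .nil .nil)) .nil)) .nil))) .nil))) (.node 1 (.node 0 (.node 0 (.node 0 (.node 0 .nil .nil) (.node 1 (.node 0 (.node 0 .nil .nil) (.node 1 (.node 2 .nil .nil) (.node 2 .nil .nil))) (.node 2 .nil .nil))) (.node 1 (.node 0 (.node 0 .nil (.node 1 (.node 0 .nil .nil) .nil)) (.node 1 (.node 0 .nil (.node 1 (.node 2 .nil .nil) (.node 2 (.node 1 .nil (.node 2 .nil .nil)) .nil))) (.node 2 (.node 1 .nil (.node 2 (.node 2 .nil .nil)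 .nil)) .nil))) (.node 2 (.node 0 (.node 2 .nil .nil) (.node 1 (.node 0 .nil (.node 1 .nil .nil)) (.node 2 (.node 0 .nil (.node 1 (.node 0 .nil (.node 2 .nil .nil)) (.node 2 .nil .nil))) .nil))) .nil))) (.node 1 (.node 0 (.node 0 (.node 0 (.node 1 .nil (.node 2 .nil .nil)) (.node 1 (.node 1 .nil .nil) (.node 2 (.node 0 .nil .nil) .nil))) (.node 1 (.node 0 .nil (.node 1 (.node 1 .nil .nil) .nil)) (.node 2 (.node 0 (.node 2 .nil .nil) (.node 1 .nil (.node 2 (.node 0 .nil (.node 2 .nil .nil)) .nil))) .nil))) (.node 1 (.node 2 (.node 0 (.node 1 .nil (.node 2 .nil .nil)) (.node 1 (.node 1 .nil .nil) .nil)) .nil) (.node 2 (.node 0 (.node 0 .nil (.node 1 .nil (.node 2 (.node 0 .nil (.node 2 .nil .nil)) .nil))) (.node 1 (.node 0 .nil (.node 1 (.node 1 .nil .nil) (.node 2 (.node 2 .nil .nil) .nil))) (.node 2 (.node 0 (.node 0 .nil (.node 2 .nil .nil)) (.node 1 .nil (.node 2 (.node 0 .nil .nil) .nil))) .nil))) .nil)))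 (.node 2 (.node 0 (.node 0 .nil (.node 1 (.node 0 (.node 0 .nil (.node 1 .nil .nil)) (.node 2 .nil .nil)) (.node 2 (.node 0 .nil (.node 1 .nil (.node 2 .nil .nil))) .nil))) (.node 1 (.node 0 (.node 0 (.node 2 .nil .nil) (.node 2 .nil .nil)) (.node 1 (.node 0 .nil .nil) .nil)) (.node 2 (.node 0 .nil (.node 1 (.node 0 .nil (.node 1 (.node 1 .nil .nil) (.node 2 (.node 1 .nil .nil) .nil))) (.node 2 (.node 0 (.node 0 .nil .nil) (.node 2 (.node 2 .nil .nil) .nil)) .nil))) .nil))) .nil))) (.node 2 (.node 0 (.node 0 (.node 1 (.node 2 (.node 0 .nil (.node 1 .nil .nil)) .nil) (.node 2 (.node 0 (.node 1 .nil .nil) (.node 1 .nil (.node 2 (.node 0 .nil (.node 1 .nil .nil)) .nil))) .nil)) (.node 1 (.node 0 (.node 0 (.node 1 .nil .nil) .nil) (.node 1 (.node 0 .nil (.node 1 .nil (.node 2 .nil .nil))) (.node 2 (.node 1 .nil .nil) .nil))) (.node 2 (.node 0 (.node 1 .nil (.node 2 (.node 0 .nil (.node 1 .nil .nil)) .nil))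 (.node 1 (.node 0 (.node 0 .nil (.node 2 .nil .nil)) (.node 1 (.node 1 .nil .nil) .nil)) (.node 2 (.node 1 .nil .nil) .nil))) .nil))) (.node 1 (.node 0 (.node 1 (.node 1 .nil .nil) .nil) (.node 1 (.node 0 (.node 0 .nil (.node 1 .nil .nil)) (.node 2 (.node 0 (.node 0 .nil .nil) (.node 1 .nil .nil)) .nil)) (.node 2 (.node 0 (.node 1 .nil .nil) (.node 2 (.node 0 (.node 1 .nil .nil) (.node 2 (.node 1 .nil .nil) .nil)) .nil)) .nil))) (.node 2 (.node 0 (.node 0 (.node 0 .nil (.node 1 .nil .nil)) (.node 1 (.node 0 .nil .nil) .nil)) (.node 1 (.node 0 (.node 1 .nil (.node 2 (.node 2 .nil .nil) .nil)) (.node 1 (.node 0 (.node 1 .nil .nil) (.node 1 .nil (.node 2 .nil .nil))) (.node 2 (.node 0 (.node 1 .nil .nil) (.node 1 (.node 2 .nil .nil) (.node 2 .nil .nil))) .nil))) (.node 2 (.node 0 (.node 0 (.node 2 .nil .nil) (.node 1 (.node 0 .nil .nil) (.node 2 .nil .nil))) (.node 1 (.node 0 (.node 0 .nil .nil) (.node 1 (.node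 1 .nil .nil) .nil)) .nil)) .nil))) .nil))) .nil))) (.node 1 (.node 0 (.node 0 (.node 0 (.node 0 .nil (.node 1 (.node 0 .nil (.node 1 (.node 1 .nil .nil) .nil)) (.node 2 (.node 1 .nil (.node 2 (.node 1 .nil .nil) .nil)) .nil))) (.node 1 (.node 0 (.node 0 .nil (.node 1 (.node 0 .nil (.node 2 .nil .nil)) (.node 2 .nil .nil))) (.node 1 (.node 0 .nil (.node 1 (.node 2 .nil .nil) (.node 2 .nil .nil))) (.node 2 (.node 0 .nil (.node 1 .nil .nil)) .nil))) (.node 2 (.node 0 (.node 0 (.node 0 .nil .nil) (.node 2 .nil .nil)) (.node 1 (.node 0 .nil (.node 1 .nil (.node 2 (.node 0 .nil .nil) .nil))) (.node 2 (.node 1 .nil (.node 2 .nil .nil)) .nil))) .nil))) (.node 1 (.node 1 (.node 0 (.node 0 .nil (.node 1 .nil (.node 2 .nil .nil))) (.node 1 (.node 1 .nil (.node 2 (.node 0 .nil .nil) .nil)) (.node 2 (.node 0 .nil (.node 1 .nil .nil)) .nil))) (.node 2 (.node 1 (.node 2 .nil .nil) (.node 2 (.node 0 (.node 0 .nil .nil)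 (.node 2 (.node 1 .nil .nil) .nil)) .nil)) .nil)) (.node 2 (.node 0 (.node 0 .nil (.node 1 (.node 2 .nil .nil) (.node 2 (.node 2 .nil .nil) .nil))) (.node 1 (.node 0 .nil (.node 1 (.node 2 .nil .nil) (.node 2 (.node 1 (.node 2 .nil .nil) (.node 2 (.node 2 .nil .nil) .nil)) .nil))) (.node 2 (.node 0 (.node 1 (.node 1 .nil .nil) (.node 2 .nil .nil)) (.node 1 (.node 1 .nil (.node 2 .nil .nil)) (.node 2 (.node 1 .nil (.node 2 (.node 2 .nil .nil) .nil)) .nil))) .nil))) .nil))) (.node 1 (.node 0 (.node 0 (.node 0 .nil (.node 1 .nil .nil)) (.node 1 (.node 0 .nil (.node 1 (.node 0 .nil (.node 1 .nil (.node 2 .nil .nil))) (.node 2 (.node 2 .nil .nil) .nil))) (.node 2 (.node 0 (.node 1 .nil (.node 2 (.node 1 .nil .nil) .nil)) (.node 2 (.node 1 .nil .nil) .nil)) .nil))) (.node 1 (.node 1 (.node 1 (.node 2 .nil .nil) (.node 2 (.node 1 .nil (.node 2 .nil .nil)) .nil)) (.node 2 (.node 0 (.node 1 (.node 1 .nil .nil) (.node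 2 .nil .nil)) .nil) .nil)) (.node 2 (.node 0 (.node 0 (.node 2 .nil .nil) (.node 2 .nil .nil)) (.node 1 (.node 0 (.node 0 .nil (.node 1 (.node 0 .nil .nil) (.node 2 .nil .nil))) (.node 1 (.node 2 .nil .nil) (.node 2 (.node 2 .nil .nil) .nil))) .nil)) .nil))) (.node 2 (.node 0 (.node 0 (.node 1 (.node 2 .nil .nil) (.node 2 .nil .nil)) (.node 1 (.node 0 .nil (.node 1 (.node 0 .nil (.node 1 .nil .nil)) (.node 2 (.node 1 .nil .nil) .nil))) (.node 2 (.node 0 (.node 1 .nil .nil) (.node 2 (.node 1 .nil (.node 2 .nil .nil)) .nil)) .nil))) (.node 1 (.node 0 (.node 0 .nil (.node 1 (.node 1 .nil (.node 2 .nil .nil)) (.node 2 (.node 2 .nil .nil) .nil))) (.node 1 (.node 0 (.node 0 .nil (.node 2 .nil .nil)) (.node 1 (.node 2 .nil .nil) .nil)) (.node 2 (.node 0 (.node 0 .nil .nil) (.node 1 .nil .nil)) .nil))) (.node 2 (.node 0 (.node 0 (.node 0 (.node 2 .nil .nil) (.node 1 .nil .nil)) (.node 1 (.node 1 .nil (.node 2 .nil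 .nil)) (.node 2 (.node 0 .nil .nil) .nil))) (.node 2 (.node 0 (.node 0 .nil (.node 1 .nil .nil)) (.node 1 (.node 1 .nil (.node 2 (.node 1 .nil .nil) .nil)) (.node 2 (.node 0 (.node 2 .nil .nil) (.node 1 (.node 0 .nil (.node 1 .nil .nil)) .nil)) .nil))) .nil)) .nil))) .nil))) (.node 2 (.node 0 (.node 0 (.node 0 (.node 2 (.node 1 .nil .nil) .nil) (.node 1 (.node 0 (.node 1 .nil .nil) (.node 1 (.node 1 (.node 2 .nil .nil) .nil) (.node 2 .nil .nil))) (.node 2 (.node 0 (.node 1 .nil .nil) (.node 2 (.node 0 .nil (.node 2 .nil .nil)) .nil)) .nil))) (.node 1 (.node 0 (.node 0 (.node 0 (.node 1 .nil .nil) .nil) (.node 1 .nil (.node 2 (.node 0 .nil (.node 2 .nil .nil)) .nil))) (.node 1 (.node 0 (.node 1 (.node 2 .nil .nil) .nil) (.node 1 .nil (.node 2 (.node 1 .nil (.node 2 .nil .nil)) .nil))) (.node 2 (.node 0 (.node 0 .nil .nil) (.node 2 (.node 1 .nil .nil) .nil)) .nil))) (.node 2 (.node 0 (.node 0 .nil (.node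 2 (.node 1 .nil .nil) .nil)) (.node 1 (.node 0 (.node 2 .nil .nil) (.node 1 (.node 1 (.node 2 .nil .nil) (.node 2 .nil .nil)) (.node 2 (.node 0 .nil (.node 1 .nil .nil)) .nil))) (.node 2 (.node 0 (.node 1 (.node 2 .nil .nil) (.node 2 (.node 1 .nil .nil) .nil)) (.node 2 (.node 0 .nil .nil) .nil)) .nil))) .nil))) (.node 1 (.node 0 (.node 0 (.node 0 (.node 2 .nil .nil) (.node 1 (.node 0 .nil (.node 1 .nil (.node 2 (.node 2 .nil .nil) .nil))) .nil)) (.node 1 (.node 0 (.node 0 (.node 0 .nil .nil) (.node 1 (.node 0 .nil .nil) .nil)) (.node 1 (.node 1 .nil (.node 2 (.node 0 .nil .nil) .nil)) (.node 2 (.node 0 .nil .nil) .nil))) (.node 2 (.node 0 (.node 2 (.node 0 .nil .nil) .nil) (.node 1 .nil .nil)) .nil))) (.node 1 (.node 0 (.node 0 .nil (.node 1 (.node 0 .nil .nil) (.node 2 (.node 0 .nil .nil) .nil))) (.node 1 (.node 1 (.node 1 .nil (.node 2 .nil .nil)) (.node 2 (.node 1 .nil (.node 2 .nil .nil)) .nil)) (.node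 2 (.node 0 (.node 0 .nil (.node 1 (.node 2 .nil .nil) (.node 2 .nil .nil))) (.node 1 (.node 0 .nil .nil) (.node 2 (.node 1 .nil (.node 2 .nil .nil)) .nil))) .nil))) (.node 2 (.node 2 (.node 0 (.node 0 .nil .nil) (.node 1 .nil (.node 2 (.node 2 .nil .nil) .nil))) .nil) .nil))) (.node 2 (.node 0 (.node 0 (.node 0 (.node 1 (.node 0 .nil .nil) .nil) (.node 1 .nil (.node 2 .nil .nil))) (.node 1 (.node 0 (.node 1 .nil .nil) (.node 1 .nil (.node 2 (.node 1 (.node 0 .nil .nil) (.node 2 .nil .nil)) .nil))) (.node 2 (.node 0 (.node 1 .nil .nil) (.node 1 (.node 0 .nil (.node 2 .nil .nil)) .nil)) .nil))) (.node 1 (.node 0 (.node 0 (.node 0 .nil (.node 1 .nil (.node 2 .nil .nil))) (.node 1 .nil (.node 2 .nil .nil))) (.node 1 (.node 1 .nil .nil) (.node 2 (.node 0 .nil (.node 1 .nil (.node 2 (.node 0 .nil .nil) .nil))) .nil))) (.node 2 (.node 0 (.node 0 (.node 1 .nil .nil) (.node 1 .nil (.node 2 (.node 1 .nil (.node 2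 .nil .nil)) .nil))) (.node 1 (.node 0 .nil (.node 2 .nil .nil)) (.node 2 (.node 0 (.node 2 .nil .nil) (.node 1 (.node 1 .nil .nil) .nil)) .nil))) .nil))) .nil))) .nil)))

set_option maxRecDepth 20000 in
/-- Orbit forest. -/
def treeSexTri3 : OrbTree := (.node 0 (.node 0 (.node 0 (.node 0 (.node 0 (.node 1 (.node 0 .nil (.node 1 (.node 1 .nil (.node 2 .nil .nil)) (.node 2 (.node 0 .nil .nil) .nil))) (.node 2 (.node 0 .nil (.node 1 (.node 0 (.node 0 .nil (.node 2 .nil .nil)) (.node 2 (.node 1 .nil .nil) .nil)) .nil)) .nil)) (.node 1 (.node 0 (.node 0 (.node 0 (.node 0 .nil (.node 2 .nil .nil)) .nil) (.node 1 (.node 0 .nil (.node 2 .nil .nil)) .nil)) (.node 1 (.node 0 (.node 1 (.node 2 .nil .nil) (.node 2 (.node 1 .nil (.node 2 .nil .nil)) .nil)) (.node 1 (.node 1 .nil .nil) (.node 2 (.node 2 (.node 1 .nil .nil) .nil) .nil))) (.node 2 (.node 0 (.node 0 (.node 0 .nil .nil) (.node 2 (.node 0 .nil (.node 1 .nil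 .nil)) .nil)) (.node 1 .nil (.node 2 (.node 0 .nil .nil) .nil))) .nil))) (.node 2 (.node 0 (.node 0 .nil (.node 1 (.node 0 (.node 0 .nil .nil) (.node 1 .nil (.node 2 .nil .nil))) (.node 2 (.node 0 .nil (.node 1 .nil .nil)) .nil))) (.node 1 (.node 2 (.node 1 .nil (.node 2 (.node 2 .nil .nil) .nil)) .nil) (.node 2 (.node 1 (.node 2 .nil .nil) (.node 2 (.node 1 .nil (.node 2 .nil .nil)) .nil)) .nil))) .nil))) (.node 1 (.node 0 (.node 0 (.node 0 .nil (.node 1 (.node 2 (.node 1 .nil .nil) .nil) (.node 2 (.node 0 .nil .nil) .nil))) (.node 1 (.node 1 (.node 0 .nil .nil) .nil) (.node 2 (.node 0 (.node 0 (.node 2 .nil .nil) (.node 1 (.node 0 .nil .nil) .nil)) .nil) .nil))) (.node 1 (.node 0 (.node 0 (.node 1 .nil (.node 2 .nil .nil)) (.node 1 .nil .nil)) (.node 1 (.node 1 (.node 1 .nil .nil) .nil) (.node 2 (.node 0 (.node 0 .nil (.node 1 (.node 1 .nil .nil) .nil)) (.node 1 (.node 0 (.node 1 .nil .nil) (.node 2 .nil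 .nil)) (.node 2 (.node 0 .nil (.node 1 .nil (.node 2 .nil .nil))) .nil))) .nil))) (.node 2 (.node 0 (.node 1 .nil .nil) (.node 1 (.node 0 (.node 1 .nil .nil) (.node 1 (.node 0 .nil .nil) (.node 2 .nil .nil))) (.node 2 (.node 0 .nil (.node 1 (.node 0 (.node 0 .nil .nil) (.node 1 (.node 0 .nil .nil) (.node 2 .nil .nil))) (.node 2 (.node 0 (.node 0 .nil .nil) .nil) .nil))) .nil))) .nil))) (.node 2 (.node 0 (.node 0 (.node 1 .nil (.node 2 (.node 0 .nil (.node 1 (.node 0 .nil (.node 1 .nil .nil)) (.node 2 .nil .nil))) .nil)) (.node 1 (.node 0 (.node 0 (.node 0 .nil (.node 1 .nil .nil)) (.node 1 .nil (.node 2 .nil .nil))) (.node 1 (.node 1 .nil .nil) (.node 2 .nil .nil))) (.node 2 (.node 0 (.node 2 .nil .nil) (.node 1 (.node 0 .nil (.node 1 (.node 0 .nil .nil) (.node 2 (.node 2 .nil .nil) .nil))) (.node 2 (.node 2 .nil .nil) .nil))) .nil))) (.node 1 (.node 0 (.node 1 (.node 1 .nil .nil) (.node 2 (.node 0 (.node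 2 .nil .nil) (.node 1 (.node 1 .nil .nil) .nil)) .nil)) (.node 1 (.node 1 (.node 1 .nil .nil) (.node 2 (.node 1 .nil .nil) .nil)) (.node 2 (.node 0 (.node 0 (.node 1 .nil .nil) (.node 1 .nil .nil)) (.node 1 (.node 0 .nil (.node 1 (.node 0 .nil (.node 1 .nil .nil)) .nil)) .nil)) .nil))) (.node 2 (.node 0 (.node 2 (.node 0 .nil (.node 1 .nil (.node 2 (.node 0 .nil .nil) .nil))) .nil) (.node 1 (.node 0 (.node 1 .nil (.node 2 (.node 0 .nil .nil) .nil)) (.node 1 (.node 2 .nil .nil) (.node 2 .nil .nil))) (.node 2 (.node 0 (.node 1 (.node 0 .nil (.node 1 .nil .nil)) .nil) (.node 1 (.node 0 (.node 1 .nil .nil) (.node 1 .nil (.node 2 .nil .nil))) (.node 2 (.node 0 (.node 0 .nil .nil) (.node 1 .nil (.node 2 (.node 2 .nil .nil) .nil))) .nil))) .nil))) .nil))) .nil))) (.node 1 (.node 0 (.node 0 (.node 0 (.node 0 (.node 1 .nil (.node 2 .nil .nil)) (.node 2 (.node 2 .nil .nil) .nil)) (.node 1 (.node 2 (.node 2 .nil .nil)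 .nil) (.node 2 (.node 0 (.node 0 (.node 1 .nil .nil) (.node 1 .nil .nil)) (.node 1 (.node 0 .nil (.node 2 (.node 0 .nil .nil) .nil)) (.node 2 (.node 0 (.node 1 .nil .nil) (.node 1 .nil (.node 2 .nil .nil))) .nil))) .nil))) (.node 1 (.node 0 (.node 0 .nil (.node 1 (.node 0 .nil .nil) (.node 2 (.node 0 .nil .nil) .nil))) (.node 1 (.node 0 .nil (.node 1 (.node 2 .nil .nil) (.node 2 (.node 0 (.node 1 .nil .nil) (.node 1 (.node 0 .nil .nil) (.node 2 .nil .nil))) .nil))) (.node 2 (.node 0 (.node 0 (.node 0 .nil .nil) (.node 1 (.node 1 .nil .nil) (.node 2 .nil .nil))) (.node 1 (.node 2 .nil .nil) (.node 2 (.node 1 .nil .nil) .nil))) .nil))) (.node 2 (.node 0 (.node 0 (.node 1 .nil (.node 2 .nil .nil)) (.node 1 (.node 0 .nil .nil) (.node 2 (.node 1 .nil .nil) .nil))) (.node 1 (.node 0 (.node 0 .nil (.node 1 .nil (.node 2 (.node 0 .nil (.node 2 .nil .nil)) .nil))) (.node 1 .nil (.node 2 .nil .nil))) (.node 2 (.node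 0 (.node 2 (.node 0 .nil .nil) .nil) (.node 1 (.node 0 .nil (.node 1 .nil (.node 2 (.node 1 .nil .nil) .nil))) (.node 2 (.node 0 .nil (.node 1 .nil (.node 2 .nil .nil))) .nil))) .nil))) .nil))) (.node 1 (.node 0 (.node 1 (.node 0 (.node 0 .nil (.node 1 .nil .nil)) (.node 1 (.node 2 (.node 1 .nil .nil) .nil) (.node 2 (.node 0 .nil (.node 2 (.node 0 .nil .nil) .nil)) .nil))) (.node 2 (.node 0 (.node 0 (.node 2 .nil .nil) (.node 1 .nil .nil)) (.node 1 (.node 0 .nil (.node 1 (.node 0 .nil .nil) .nil)) (.node 2 (.node 0 (.node 1 .nil .nil) .nil) .nil))) .nil)) (.node 1 (.node 1 (.node 1 (.node 2 .nil .nil) (.node 2 (.node 2 .nil .nil) .nil)) (.node 2 (.node 0 (.node 1 (.node 1 .nil (.node 2 .nil .nil)) (.node 2 .nil .nil)) (.node 1 (.node 1 .nil (.node 2 .nil .nil)) (.node 2 (.node 1 .nil .nil) .nil))) .nil)) (.node 2 (.node 0 (.node 0 (.node 0 (.node 2 .nil .nil) (.node 1 .nil (.node 2 .nil .nil))) (.node 1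 (.node 1 .nil (.node 2 .nil .nil)) (.node 2 (.node 1 .nil (.node 2 .nil .nil)) .nil))) (.node 1 (.node 0 (.node 1 (.node 0 .nil .nil) (.node 2 (.node 0 .nil .nil) .nil)) (.node 2 .nil .nil)) (.node 2 (.node 0 (.node 2 .nil .nil) (.node 1 (.node 0 .nil (.node 2 .nil .nil)) (.node 2 (.node 1 .nil (.node 2 .nil .nil)) .nil))) .nil))) .nil))) (.node 2 (.node 0 (.node 0 (.node 0 (.node 0 .nil (.node 1 .nil .nil)) .nil) (.node 1 (.node 0 (.node 0 .nil (.node 1 .nil .nil)) (.node 1 .nil (.node 2 (.node 2 .nil .nil) .nil))) (.node 2 (.node 1 (.node 1 (.node 2 .nil .nil) .nil) (.node 2 (.node 0 .nil .nil) .nil)) .nil))) (.node 1 (.node 0 (.node 1 (.node 2 .nil .nil) (.node 2 (.node 2 .nil .nil) .nil)) (.node 1 (.node 0 (.node 0 .nil (.node 1 .nil .nil)) (.node 2 (.node 0 (.node 1 .nil .nil) (.node 2 .nil .nil)) .nil)) (.node 2 (.node 1 .nil (.node 2 (.node 0 .nil .nil) .nil)) .nil))) (.node 2 (.node 0 (.node 0 (.node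 2 .nil .nil) (.node 1 (.node 0 .nil (.node 1 .nil .nil)) (.node 2 (.node 1 (.node 1 .nil .nil) .nil) .nil))) (.node 1 (.node 0 (.node 1 .nil .nil) (.node 1 (.node 0 (.node 2 .nil .nil) .nil) (.node 2 (.node 0 .nil (.node 1 .nil (.node 2 .nil .nil))) .nil))) .nil)) .nil))) .nil))) (.node 2 (.node 0 (.node 0 (.node 0 (.node 0 .nil (.node 1 (.node 0 .nil (.node 1 .nil .nil)) (.node 2 (.node 0 .nil .nil) .nil))) (.node 1 (.node 0 .nil (.node 2 .nil .nil)) .nil)) (.node 1 (.node 0 (.node 0 .nil (.node 1 .nil (.node 2 (.node 0 .nil (.node 1 (.node 2 .nil .nil) (.node 2 .nil .nil))) .nil))) (.node 2 (.node 0 .nil (.node 1 (.node 1 .nil .nil) (.node 2 (.node 1 .nil (.node 2 .nil .nil)) .nil))) .nil)) (.node 2 (.node 0 (.node 0 (.node 2 .nil .nil) (.node 2 (.node 0 .nil (.node 1 .nil .nil)) .nil)) (.node 1 (.node 0 (.node 1 .nil .nil) (.node 1 (.node 0 .nil .nil) (.node 2 .nil .nil))) (.node 2 (.node 0 (.node 2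 .nil .nil) (.node 1 (.node 0 (.node 2 .nil .nil) (.node 1 .nil .nil)) (.node 2 (.node 1 .nil .nil) .nil))) .nil))) .nil))) (.node 1 (.node 0 (.node 0 (.node 2 (.node 0 .nil (.node 1 .nil .nil)) .nil) (.node 1 (.node 0 (.node 0 .nil (.node 2 .nil .nil)) (.node 1 (.node 1 (.node 1 .nil (.node 2 .nil .nil)) (.node 2 (.node 0 .nil .nil) .nil)) .nil)) (.node 2 (.node 0 .nil (.node 2 (.node 2 .nil .nil) .nil)) .nil))) (.node 1 (.node 0 (.node 1 (.node 0 .nil (.node 1 .nil (.node 2 (.node 2 .nil .nil) .nil))) (.node 2 .nil .nil)) (.node 2 (.node 0 (.node 0 .nil .nil) (.node 1 .nil (.node 2 (.node 0 .nil .nil) .nil))) .nil)) (.node 2 (.node 1 (.node 0 (.node 2 .nil .nil) (.node 2 (.node 2 .nil .nil) .nil)) (.node 2 (.node 0 (.node 2 .nil .nil) (.node 1 (.node 2 .nil .nil) (.node 2 (.node 0 .nil .nil) .nil))) .nil)) .nil))) (.node 2 (.node 1 (.node 0 (.node 0 (.node 1 (.node 1 .nil .nil) .nil) .nil) (.node 2 (.node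 0 (.node 1 .nil (.node 2 .nil .nil)) (.node 1 .nil .nil)) .nil)) (.node 2 (.node 1 (.node 2 (.node 1 .nil .nil) .nil) (.node 2 (.node 2 (.node 2 .nil .nil) .nil) .nil)) .nil)) .nil))) .nil))) (.node 1 (.node 0 (.node 0 (.node 0 (.node 0 (.node 0 (.node 2 .nil .nil) (.node 1 (.node 0 .nil .nil) (.node 2 (.node 1 .nil (.node 2 .nil .nil)) .nil))) (.node 1 (.node 0 (.node 0 .nil (.node 2 .nil .nil)) (.node 1 (.node 0 .nil (.node 1 (.node 2 .nil .nil) .nil)) (.node 2 (.node 2 (.node 2 .nil .nil) .nil) .nil))) (.node 2 (.node 1 (.node 2 .nil .nil) (.node 2 (.node 0 .nil (.node 2 .nil .nil)) .nil)) .nil))) (.node 1 (.node 0 (.node 0 (.node 0 .nil (.node 2 (.node 1 .nil .nil) .nil)) (.node 1 (.node 0 .nil (.node 2 .nil .nil)) (.node 2 (.node 0 (.node 2 .nil .nil) (.node 1 .nil .nil)) .nil))) (.node 1 (.node 0 (.node 0 .nil (.node 1 .nil .nil)) (.node 1 (.node 2 .nil .nil) (.node 2 (.node 0 .nil (.node 1 (.node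 0 .nil .nil) (.node 2 .nil .nil))) .nil))) (.node 2 (.node 0 .nil (.node 1 .nil .nil)) .nil))) (.node 2 (.node 0 (.node 0 (.node 1 .nil .nil) (.node 1 (.node 1 (.node 0 .nil .nil) (.node 2 .nil .nil)) (.node 2 (.node 0 .nil .nil) .nil))) (.node 1 (.node 0 (.node 0 .nil (.node 2 .nil .nil)) (.node 1 .nil .nil)) (.node 2 (.node 0 (.node 2 .nil .nil) (.node 1 (.node 0 .nil (.node 1 .nil .nil)) (.node 2 (.node 1 .nil .nil) .nil))) .nil))) .nil))) (.node 1 (.node 0 (.node 0 (.node 0 .nil (.node 1 .nil .nil)) (.node 1 (.node 0 (.node 1 .nil .nil) .nil) (.node 2 (.node 0 (.node 0 .nil (.node 1 .nil .nil)) (.node 2 (.node 1 .nil (.node 2 .nil .nil)) .nil)) .nil))) (.node 1 (.node 0 (.node 0 (.node 0 .nil .nil) (.node 1 .nil .nil)) (.node 1 (.node 1 (.node 2 .nil .nil) (.node 2 (.node 0 .nil .nil) .nil)) (.node 2 (.node 0 (.node 0 .nil (.node 2 .nil .nil)) (.node 2 (.node 2 (.node 0 .nil .nil) .nil) .nil)) .nil)))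 (.node 2 (.node 1 (.node 1 (.node 2 .nil .nil) (.node 2 (.node 0 .nil (.node 1 (.node 0 .nil (.node 1 .nil .nil)) (.node 2 .nil .nil))) .nil)) (.node 2 (.node 0 .nil (.node 2 (.node 1 .nil .nil) .nil)) .nil)) .nil))) (.node 2 (.node 0 (.node 0 (.node 0 .nil (.node 1 (.node 0 .nil (.node 2 .nil .nil)) (.node 2 .nil .nil))) (.node 1 (.node 0 (.node 1 .nil .nil) (.node 2 (.node 1 .nil (.node 2 (.node 2 .nil .nil) .nil)) .nil)) (.node 2 (.node 0 (.node 1 .nil (.node 2 .nil .nil)) (.node 1 (.node 0 .nil (.node 2 .nil .nil)) (.node 2 (.node 2 (.node 1 .nil .nil) .nil) .nil))) .nil))) (.node 1 (.node 1 (.node 0 (.node 0 (.node 1 .nil .nil) (.node 2 .nil .nil)) (.node 2 .nil .nil)) (.node 2 (.node 0 (.node 0 (.node 1 .nil .nil) (.node 1 .nil .nil)) (.node 1 (.node 0 .nil (.node 2 .nil .nil)) (.node 2 (.node 1 .nil .nil) .nil))) .nil)) (.node 2 (.node 0 (.node 0 (.node 0 .nil (.node 1 (.node 0 .nil .nil) (.node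 2 .nil .nil))) .nil) (.node 1 (.node 0 (.node 0 .nil (.node 1 .nil .nil)) (.node 1 .nil (.node 2 (.node 1 .nil .nil) .nil))) (.node 2 (.node 0 (.node 0 .nil (.node 1 .nil .nil)) (.node 1 .nil .nil)) .nil))) .nil))) .nil))) (.node 1 (.node 0 (.node 0 (.node 0 (.node 0 .nil (.node 1 (.node 0 .nil (.node 1 (.node 0 .nil .nil) (.node 2 .nil .nil))) (.node 2 .nil .nil))) (.node 1 (.node 2 (.node 2 (.node 0 .nil .nil) .nil) .nil) (.node 2 (.node 0 (.node 2 .nil .nil) .nil) .nil))) (.node 1 (.node 1 (.node 0 (.node 2 .nil .nil) (.node 1 .nil .nil)) (.node 2 (.node 0 .nil (.node 1 (.node 1 .nil .nil) (.node 2 (.node 1 .nil (.node 2 .nil .nil)) .nil))) .nil)) (.node 2 (.node 0 (.node 0 .nil (.node 1 (.node 0 (.node 1 .nil (.node 2 .nil .nil)) .nil) (.node 2 (.node 2 .nil .nil) .nil))) (.node 1 (.node 0 .nil (.node 2 (.node 1 (.node 2 .nil .nil) (.node 2 .nil .nil)) .nil)) (.node 2 (.node 2 (.node 0 .nil .nil) .nil)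 .nil))) .nil))) (.node 1 (.node 1 (.node 1 (.node 2 (.node 1 (.node 1 .nil .nil) .nil) .nil) (.node 2 (.node 0 (.node 0 .nil .nil) (.node 1 (.node 0 .nil .nil) (.node 2 (.node 0 (.node 0 .nil .nil) (.node 2 .nil .nil)) .nil))) .nil)) (.node 2 (.node 0 (.node 1 (.node 2 .nil .nil) (.node 2 .nil .nil)) (.node 1 (.node 1 .nil .nil) (.node 2 (.node 0 (.node 0 .nil (.node 2 .nil .nil)) (.node 1 (.node 0 .nil (.node 2 .nil .nil)) (.node 2 (.node 0 .nil (.node 1 .nil (.node 2 .nil .nil))) .nil))) .nil))) .nil)) (.node 2 (.node 0 (.node 0 (.node 0 .nil (.node 2 .nil .nil)) (.node 2 (.node 0 (.node 1 .nil .nil) (.node 1 .nil (.node 2 (.node 1 (.node 2 .nil .nil) (.node 2 .nil .nil)) .nil))) .nil)) (.node 1 (.node 0 (.node 0 (.node 1 .nil .nil) (.node 1 (.node 0 (.node 0 .nil .nil) (.node 1 (.node 2 .nil .nil) .nil)) (.node 2 (.node 0 .nil (.node 2 .nil .nil)) .nil))) (.node 1 (.node 0 (.node 0 .nil .nil) (.node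 2 (.node 0 .nil .nil) .nil)) .nil)) (.node 2 (.node 0 (.node 1 (.node 1 .nil (.node 2 .nil .nil)) (.node 2 (.node 1 .nil (.node 2 .nil .nil)) .nil)) (.node 1 (.node 0 (.node 0 (.node 2 .nil .nil) (.node 1 .nil (.node 2 (.node 0 .nil .nil) .nil))) (.node 2 (.node 0 .nil .nil) .nil)) (.node 2 (.node 0 (.node 1 .nil (.node 2 .nil .nil)) (.node 1 (.node 1 .nil (.node 2 .nil .nil)) (.node 2 (.node 0 .nil .nil) .nil))) .nil))) .nil))) .nil))) (.node 2 (.node 0 (.node 0 (.node 0 (.node 0 (.node 1 .nil .nil) .nil) (.node 1 (.node 0 .nil .nil) .nil)) (.node 1 (.node 0 (.node 0 (.node 0 .nil .nil) (.node 1 .nil (.node 2 .nil .nil))) (.node 1 (.node 0 .nil (.node 1 (.node 2 .nil .nil) (.node 2 (.node 2 .nil .nil) .nil))) (.node 2 (.node 0 .nil (.node 1 .nil .nil)) .nil))) (.node 2 (.node 0 (.node 0 .nil (.node 1 (.node 0 .nil .nil) .nil)) (.node 1 (.node 0 .nil (.node 1 .nil (.node 2 (.node 2 .nil .nil) .nil))) (.node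 2 (.node 0 (.node 0 .nil .nil) (.node 1 (.node 0 .nil (.node 1 .nil .nil)) .nil)) .nil))) .nil))) (.node 1 (.node 0 (.node 0 (.node 0 (.node 0 .nil .nil) (.node 1 (.node 1 .nil (.node 2 .nil .nil)) (.node 2 .nil .nil))) (.node 1 (.node 1 .nil .nil) (.node 2 (.node 0 .nil (.node 1 (.node 0 .nil .nil) .nil)) .nil))) (.node 1 (.node 0 (.node 1 (.node 0 (.node 2 .nil .nil) .nil) (.node 2 (.node 2 .nil .nil) .nil)) (.node 1 (.node 1 (.node 1 .nil (.node 2 (.node 1 .nil .nil) .nil)) (.node 2 (.node 0 (.node 2 .nil .nil) (.node 1 .nil (.node 2 .nil .nil))) .nil)) .nil)) (.node 2 (.node 0 (.node 0 .nil (.node 1 (.node 1 .nil .nil) .nil)) (.node 1 (.node 1 (.node 1 .nil (.node 2 .nil .nil)) (.node 2 (.node 0 .nil (.node 2 .nil .nil)) .nil)) (.node 2 (.node 0 (.node 2 .nil .nil) (.node 1 (.node 0 .nil (.node 2 (.node 2 .nil .nil) .nil)) .nil)) .nil))) .nil))) (.node 2 (.node 0 (.node 0 (.node 0 (.node 0 .nil .nil)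 (.node 1 (.node 0 .nil .nil) (.node 2 (.node 2 .nil .nil) .nil))) (.node 1 (.node 2 (.node 0 .nil .nil) .nil) .nil)) (.node 1 (.node 0 (.node 0 .nil (.node 1 (.node 0 .nil .nil) (.node 2 .nil .nil))) (.node 1 (.node 0 (.node 1 .nil (.node 2 (.node 0 .nil .nil) .nil)) (.node 1 (.node 2 .nil .nil) (.node 2 .nil .nil))) (.node 2 (.node 1 (.node 0 .nil (.node 1 .nil .nil)) .nil) .nil))) (.node 2 (.node 0 (.node 0 (.node 0 .nil (.node 1 (.node 0 .nil .nil) .nil)) .nil) (.node 1 (.node 0 (.node 1 .nil (.node 2 .nil .nil)) (.node 1 (.node 0 .nil .nil) (.node 2 (.node 2 (.node 1 .nil (.node 2 .nil .nil)) .nil) .nil))) (.node 2 (.node 0 .nil (.node 2 (.node 1 .nil .nil) .nil)) .nil))) .nil))) .nil))) .nil))) (.node 2 (.node 0 (.node 0 (.node 0 (.node 0 (.node 1 .nil (.node 2 (.node 0 .nil (.node 1 .nil .nil)) .nil)) (.node 1 (.node 0 (.node 0 .nil .nil) .nil) .nil)) (.node 1 (.node 0 (.node 0 (.node 1 .nil .nil)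 .nil) (.node 1 (.node 0 .nil (.node 1 (.node 2 .nil .nil) (.node 2 (.node 0 .nil (.node 2 .nil .nil)) .nil))) (.node 2 (.node 0 .nil (.node 1 (.node 0 .nil (.node 1 .nil (.node 2 .nil .nil))) (.node 2 (.node 0 .nil (.node 2 .nil .nil)) .nil))) .nil))) (.node 2 (.node 0 (.node 1 (.node 2 .nil .nil) (.node 2 (.node 1 .nil .nil) .nil)) (.node 1 (.node 0 (.node 1 .nil .nil) (.node 1 (.node 1 .nil .nil) .nil)) (.node 2 (.node 0 .nil (.node 1 (.node 1 .nil .nil) (.node 2 (.node 1 .nil (.node 2 .nil .nil)) .nil))) .nil))) .nil))) (.node 1 (.node 0 (.node 0 (.node 1 (.node 2 (.node 1 .nil .nil) .nil) (.node 2 .nil .nil)) (.node 1 (.node 1 .nil (.node 2 (.node 0 (.node 2 .nil .nil) .nil) .nil)) (.node 2 (.node 0 (.node 1 .nil .nil) (.node 1 (.node 0 (.node 1 .nil .nil) (.node 1 (.node 2 .nil .nil) .nil)) (.node 2 (.node 0 (.node 0 .nil .nil) .nil) .nil))) .nil))) (.node 1 (.node 0 (.node 0 .nil (.node 1 (.node 1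 .nil .nil) .nil)) (.node 1 (.node 2 (.node 0 .nil .nil) .nil) (.node 2 (.node 1 (.node 0 .nil .nil) (.node 2 .nil .nil)) .nil))) (.node 2 (.node 1 (.node 1 (.node 2 .nil .nil) (.node 2 (.node 1 .nil (.node 2 .nil .nil)) .nil)) (.node 2 (.node 0 .nil (.node 1 (.node 2 .nil .nil) (.node 2 (.node 2 .nil .nil) .nil))) .nil)) .nil))) (.node 2 (.node 0 (.node 0 (.node 0 .nil (.node 2 (.node 0 .nil (.node 1 .nil .nil)) .nil)) (.node 1 (.node 0 (.node 2 .nil .nil) (.node 1 (.node 1 .nil .nil) (.node 2 (.node 0 (.node 1 .nil .nil) (.node 1 .nil .nil)) .nil))) (.node 2 (.node 0 (.node 0 .nil (.node 2 (.node 1 .nil .nil) .nil)) (.node 1 .nil (.node 2 (.node 2 .nil .nil) .nil))) .nil))) (.node 1 (.node 0 (.node 0 (.node 0 .nil .nil) (.node 1 (.node 1 .nil .nil) (.node 2 (.node 1 .nil (.node 2 .nil .nil)) .nil))) (.node 1 (.node 0 (.node 1 .nil (.node 2 .nil .nil)) (.node 1 .nil (.node 2 (.node 2 .nil .nil) .nil)))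 (.node 2 (.node 2 (.node 1 .nil (.node 2 .nil .nil)) .nil) .nil))) (.node 2 (.node 0 (.node 0 .nil (.node 2 (.node 2 .nil .nil) .nil)) (.node 1 (.node 0 (.node 0 .nil .nil) .nil) .nil)) .nil))) .nil))) (.node 1 (.node 0 (.node 0 (.node 0 (.node 1 (.node 2 .nil .nil) (.node 2 .nil .nil)) (.node 1 (.node 0 (.node 0 .nil .nil) (.node 1 (.node 0 .nil (.node 1 .nil (.node 2 (.node 1 .nil .nil) .nil))) (.node 2 (.node 0 .nil (.node 1 .nil .nil)) .nil))) (.node 2 (.node 1 (.node 1 .nil .nil) (.node 2 (.node 0 .nil (.node 2 (.node 0 .nil .nil) .nil)) .nil)) .nil))) (.node 1 (.node 0 .nil (.node 1 (.node 0 (.node 1 .nil .nil) .nil) .nil)) (.node 2 (.node 0 (.node 0 .nil (.node 2 (.node 1 .nil .nil) .nil)) (.node 1 (.node 0 (.node 1 .nil (.node 2 .nil .nil)) (.node 1 .nil (.node 2 (.node 2 .nil .nil) .nil))) .nil)) .nil))) (.node 1 (.node 0 (.node 1 (.node 1 .nil .nil) .nil) (.node 1 (.node 1 (.node 1 (.node 2 .nil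 .nil) (.node 2 (.node 2 .nil .nil) .nil)) .nil) (.node 2 (.node 0 (.node 0 .nil (.node 2 (.node 0 .nil .nil) .nil)) (.node 1 (.node 0 .nil (.node 2 .nil .nil)) (.node 2 (.node 1 (.node 2 .nil .nil) (.node 2 (.node 2 .nil .nil) .nil)) .nil))) .nil))) (.node 2 (.node 0 (.node 0 (.node 0 (.node 2 .nil .nil) (.node 2 .nil .nil)) (.node 1 (.node 0 (.node 1 .nil (.node 2 .nil .nil)) (.node 1 (.node 0 .nil .nil) (.node 2 (.node 0 .nil (.node 2 .nil .nil)) .nil))) (.node 2 (.node 2 (.node 2 .nil .nil) .nil) .nil))) (.node 1 (.node 0 (.node 0 .nil .nil) (.node 1 (.node 0 .nil (.node 2 .nil .nil)) (.node 2 (.node 2 (.node 0 .nil (.node 1 .nil .nil)) .nil) .nil))) (.node 2 (.node 0 (.node 1 (.node 0 .nil (.node 1 .nil (.node 2 .nil .nil))) (.node 2 (.node 2 .nil .nil) .nil)) (.node 1 (.node 0 (.node 1 .nil .nil) .nil) (.node 2 (.node 1 (.node 1 .nil .nil) (.node 2 .nil .nil)) .nil))) .nil))) .nil))) (.node 2 (.node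 0 (.node 0 (.node 0 (.node 0 .nil (.node 2 .nil .nil)) (.node 1 (.node 0 .nil (.node 1 .nil (.node 2 (.node 1 .nil .nil) .nil))) (.node 2 (.node 0 (.node 2 .nil .nil) (.node 1 (.node 0 .nil .nil) (.node 2 .nil .nil))) .nil))) (.node 1 (.node 0 (.node 0 .nil (.node 1 (.node 1 (.node 1 .nil .nil) (.node 2 .nil .nil)) (.node 2 .nil .nil))) .nil) .nil)) (.node 1 (.node 0 (.node 0 (.node 0 .nil (.node 2 (.node 2 .nil .nil) .nil)) (.node 1 (.node 0 .nil (.node 1 (.node 0 .nil (.node 1 .nil (.node 2 .nil .nil))) (.node 2 (.node 0 .nil .nil) .nil))) (.node 2 (.node 0 .nil (.node 1 (.node 0 .nil (.node 2 .nil .nil)) .nil)) .nil))) (.node 1 (.node 0 (.node 0 (.node 2 .nil .nil) (.node 1 (.node 1 .nil .nil) (.node 2 (.node 1 .nil (.node 2 .nil .nil)) .nil))) (.node 1 (.node 1 .nil (.node 2 .nil .nil)) (.node 2 (.node 0 (.node 0 .nil (.node 2 (.node 2 .nil .nil) .nil)) (.node 1 (.node 0 .nil (.node 2 .nil .nil)) (.node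 2 (.node 0 (.node 1 .nil .nil) (.node 1 .nil .nil)) .nil))) .nil))) (.node 2 (.node 0 (.node 1 .nil (.node 2 (.node 2 .nil .nil) .nil)) (.node 2 .nil .nil)) .nil))) (.node 2 (.node 0 (.node 0 (.node 0 (.node 1 .nil .nil) (.node 1 (.node 2 .nil .nil) (.node 2 (.node 1 .nil .nil) .nil))) (.node 1 (.node 0 .nil (.node 1 (.node 2 .nil .nil) .nil)) (.node 2 (.node 2 (.node 1 .nil (.node 2 .nil .nil)) .nil) .nil))) (.node 1 (.node 0 (.node 0 (.node 0 .nil .nil) (.node 1 (.node 0 .nil (.node 1 .nil .nil)) (.node 2 .nil .nil))) (.node 1 (.node 0 (.node 0 .nil .nil) (.node 1 .nil .nil)) .nil)) (.node 2 (.node 0 (.node 1 (.node 0 .nil (.node 1 .nil .nil)) (.node 2 (.node 0 .nil (.node 1 .nil .nil)) .nil)) (.node 1 (.node 0 (.node 0 .nil .nil) (.node 2 .nil .nil)) (.node 2 (.node 1 .nil (.node 2 (.node 2 .nil .nil) .nil)) .nil))) .nil))) .nil))) .nil))) .nil))) (.node 1 (.node 0 (.node 0 (.node 0 (.node 0 (.node 2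 (.node 2 (.node 0 .nil (.node 1 .nil (.node 2 (.node 1 .nil .nil) .nil))) .nil) .nil) (.node 1 (.node 0 (.node 0 (.node 2 .nil .nil) .nil) (.node 2 (.node 0 (.node 1 .nil (.node 2 .nil .nil)) (.node 2 .nil .nil)) .nil)) (.node 2 (.node 1 .nil (.node 2 (.node 0 (.node 1 .nil .nil) (.node 1 (.node 0 .nil (.node 1 .nil (.node 2 .nil .nil))) (.node 2 (.node 1 .nil .nil) .nil))) .nil)) .nil))) (.node 1 (.node 0 (.node 0 .nil (.node 1 (.node 0 .nil (.node 1 .nil .nil)) (.node 2 (.node 1 .nil (.node 2 (.node 0 (.node 1 .nil .nil) (.node 1 .nil (.node 2 .nil .nil))) .nil)) .nil))) (.node 2 (.node 0 (.node 1 (.node 2 .nil .nil) (.node 2 (.node 1 .nil .nil) .nil)) (.node 1 (.node 1 .nil (.node 2 (.node 2 .nil .nil) .nil)) (.node 2 (.node 1 (.node 0 .nil (.node 1 .nil .nil)) (.node 2 (.node 2 .nil .nil) .nil)) .nil))) .nil)) (.node 2 (.node 0 (.node 0 (.node 0 .nil (.node 2 .nil .nil)) (.node 1 (.node 0 (.node 1 .nil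 (.node 2 .nil .nil)) (.node 1 (.node 0 .nil .nil) (.node 2 (.node 1 .nil .nil) .nil))) (.node 2 .nil .nil))) (.node 1 (.node 0 (.node 2 .nil .nil) (.node 1 (.node 0 (.node 1 .nil (.node 2 .nil .nil)) .nil) (.node 2 (.node 0 (.node 1 .nil .nil) (.node 1 .nil (.node 2 .nil .nil))) .nil))) (.node 2 (.node 0 (.node 0 (.node 1 .nil (.node 2 .nil .nil)) (.node 1 .nil (.node 2 .nil .nil))) (.node 1 (.node 0 (.node 1 .nil .nil) (.node 1 (.node 1 .nil .nil) .nil)) (.node 2 (.node 1 (.node 0 .nil (.node 2 .nil .nil)) (.node 2 .nil .nil)) .nil))) .nil))) .nil))) (.node 1 (.node 0 (.node 0 (.node 1 (.node 0 .nil .nil) (.node 2 (.node 0 (.node 2 .nil .nil) (.node 2 (.node 2 .nil .nil) .nil)) .nil)) (.node 1 (.node 2 (.node 0 .nil (.node 1 (.node 2 .nil .nil) (.node 2 (.node 0 .nil (.node 2 .nil .nil)) .nil))) .nil) (.node 2 (.node 0 (.node 2 .nil .nil) (.node 2 (.node 0 .nil (.node 1 (.node 2 .nil .nil) (.node 2 (.node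 1 .nil .nil) .nil))) .nil)) .nil))) (.node 1 (.node 0 (.node 0 (.node 0 .nil (.node 1 .nil (.node 2 (.node 2 .nil .nil) .nil))) (.node 1 (.node 0 (.node 0 .nil (.node 1 .nil .nil)) (.node 1 (.node 0 .nil (.node 2 .nil .nil)) (.node 2 (.node 2 .nil .nil) .nil))) (.node 2 (.node 0 (.node 1 .nil .nil) .nil) .nil))) (.node 1 (.node 1 (.node 1 (.node 2 .nil .nil) .nil) (.node 2 (.node 2 (.node 2 (.node 0 .nil .nil) .nil) .nil) .nil)) (.node 2 (.node 0 (.node 0 (.node 0 .nil (.node 2 .nil .nil)) (.node 2 (.node 2 .nil .nil) .nil)) .nil) .nil))) (.node 2 (.node 0 (.node 0 (.node 0 (.node 2 .nil .nil) (.node 1 .nil (.node 2 (.node 1 .nil .nil) .nil))) (.node 1 (.node 0 (.node 2 .nil .nil) (.node 1 (.node 0 .nil (.node 2 .nil .nil)) (.node 2 (.node 1 .nil .nil) .nil))) (.node 2 (.node 1 (.node 1 .nil .nil) (.node 2 .nil .nil)) .nil))) (.node 1 (.node 1 (.node 0 .nil (.node 1 .nil (.node 2 (.node 0 .nil .nil) .nil)))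 (.node 2 (.node 0 (.node 0 .nil (.node 1 .nil (.node 2 .nil .nil))) (.node 1 (.node 0 .nil (.node 1 .nil .nil)) .nil)) .nil)) (.node 2 (.node 1 (.node 0 (.node 0 .nil .nil) (.node 2 (.node 1 (.node 2 .nil .nil) .nil) .nil)) (.node 2 (.node 0 (.node 0 .nil .nil) .nil) .nil)) .nil))) .nil))) (.node 2 (.node 0 (.node 0 (.node 2 (.node 0 .nil .nil) .nil) (.node 1 (.node 1 (.node 2 .nil .nil) (.node 2 (.node 0 (.node 1 (.node 0 .nil .nil) .nil) (.node 1 (.node 0 .nil .nil) (.node 2 (.node 0 .nil .nil) .nil))) .nil)) (.node 2 (.node 0 (.node 2 (.node 2 .nil .nil) .nil) (.node 1 (.node 1 (.node 1 .nil (.node 2 .nil .nil)) .nil) (.node 2 (.node 0 .nil (.node 1 (.node 2 .nil .nil) (.node 2 .nil .nil))) .nil))) .nil))) (.node 1 (.node 0 (.node 0 (.node 1 .nil (.node 2 (.node 0 .nil .nil) .nil)) (.node 1 (.node 0 (.node 0 .nil .nil) .nil) (.node 2 (.node 2 (.node 0 .nil .nil) .nil) .nil))) (.node 1 (.node 1 (.node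 1 .nil (.node 2 .nil .nil)) (.node 2 (.node 0 (.node 1 .nil .nil) (.node 1 .nil .nil)) .nil)) (.node 2 (.node 1 (.node 0 (.node 1 .nil .nil) .nil) (.node 2 (.node 0 (.node 0 .nil .nil) (.node 1 .nil .nil)) .nil)) .nil))) (.node 2 (.node 0 (.node 0 (.node 0 (.node 0 .nil (.node 1 .nil (.node 2 .nil .nil))) .nil) (.node 1 (.node 0 (.node 2 .nil .nil) (.node 1 (.node 2 .nil .nil) (.node 2 (.node 0 .nil (.node 2 .nil .nil)) .nil))) (.node 2 (.node 0 .nil (.node 2 (.node 1 .nil .nil) .nil)) .nil))) (.node 1 (.node 0 (.node 1 .nil (.node 2 (.node 0 .nil (.node 1 .nil .nil)) .nil)) (.node 1 .nil (.node 2 (.node 0 (.node 2 .nil .nil) (.node 2 (.node 1 .nil (.node 2 .nil .nil)) .nil)) .nil))) (.node 2 (.node 0 (.node 2 (.node 0 .nil .nil) .nil) (.node 1 (.node 0 .nil (.node 2 .nil .nil)) (.node 2 (.node 1 (.node 2 (.node 0 .nil .nil) .nil) (.node 2 (.node 2 .nil .nil) .nil)) .nil))) .nil))) .nil))) .nil))) (.node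 1 (.node 0 (.node 0 (.node 0 (.node 0 (.node 1 (.node 2 .nil .nil) (.node 2 (.node 0 (.node 2 .nil .nil) (.node 1 .nil .nil)) .nil)) (.node 1 (.node 0 (.node 2 .nil .nil) (.node 1 (.node 0 .nil (.node 1 .nil (.node 2 (.node 2 .nil .nil) .nil))) (.node 2 .nil .nil))) (.node 2 (.node 1 .nil (.node 2 (.node 1 .nil .nil) .nil)) .nil))) (.node 1 (.node 0 (.node 0 (.node 0 .nil .nil) (.node 1 .nil .nil)) (.node 1 (.node 0 (.node 2 .nil .nil) (.node 1 (.node 2 .nil .nil) (.node 2 .nil .nil))) (.node 2 (.node 0 .nil (.node 1 (.node 0 .nil .nil) .nil)) .nil))) (.node 2 (.node 0 (.node 0 .nil (.node 2 (.node 0 .nil .nil) .nil)) (.node 1 (.node 0 (.node 0 .nil .nil) .nil) (.node 2 .nil .nil))) .nil))) (.node 1 (.node 0 (.node 0 (.node 1 (.node 2 .nil .nil) (.node 2 .nil .nil)) (.node 1 (.node 0 (.node 2 .nil .nil) (.node 1 (.node 0 .nil .nil) .nil)) (.node 2 (.node 0 .nil .nil) .nil))) (.node 1 (.node 0 .nil (.node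 1 (.node 1 .nil (.node 2 .nil .nil)) (.node 2 (.node 0 .nil (.node 1 (.node 0 .nil .nil) (.node 2 .nil .nil))) .nil))) (.node 2 (.node 1 (.node 2 (.node 0 .nil (.node 1 .nil .nil)) .nil) (.node 2 (.node 0 .nil (.node 1 (.node 1 .nil .nil) (.node 2 .nil .nil))) .nil)) .nil))) .nil)) (.node 1 (.node 1 (.node 1 (.node 1 .nil (.node 2 (.node 1 .nil .nil) .nil)) (.node 2 (.node 0 (.node 0 .nil (.node 1 (.node 2 .nil .nil) (.node 2 (.node 0 .nil (.node 1 .nil .nil)) .nil))) (.node 2 (.node 0 .nil (.node 1 .nil .nil)) .nil)) .nil)) (.node 2 (.node 1 (.node 1 (.node 1 .nil (.node 2 .nil .nil)) (.node 2 (.node 0 (.node 2 .nil .nil) (.node 1 (.node 2 .nil .nil) (.node 2 .nil .nil))) .nil)) (.node 2 (.node 0 (.node 0 .nil (.node 1 .nil .nil)) (.node 1 (.node 1 .nil (.node 2 (.node 2 .nil .nil) .nil)) (.node 2 (.node 1 (.node 1 .nil .nil) .nil) .nil))) .nil)) .nil)) (.node 2 (.node 0 (.node 0 (.node 0 (.node 1 .nil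 (.node 2 (.node 0 .nil (.node 1 .nil (.node 2 (.node 1 .nil .nil) .nil))) .nil)) (.node 1 (.node 0 (.node 0 .nil .nil) (.node 2 .nil .nil)) (.node 2 (.node 1 .nil (.node 2 .nil .nil)) .nil))) (.node 2 (.node 0 (.node 0 (.node 0 .nil .nil) .nil) (.node 1 (.node 0 (.node 1 .nil .nil) .nil) .nil)) .nil)) (.node 1 (.node 0 (.node 0 (.node 2 (.node 2 .nil .nil) .nil) (.node 1 (.node 0 .nil (.node 1 (.node 0 .nil .nil) .nil)) (.node 2 (.node 0 .nil (.node 1 .nil (.node 2 (.node 0 .nil .nil) .nil))) .nil))) (.node 1 (.node 0 (.node 0 (.node 0 .nil .nil) .nil) (.node 2 (.node 0 (.node 1 .nil .nil) .nil) .nil)) (.node 2 (.node 2 (.node 1 (.node 1 .nil .nil) .nil) .nil) .nil))) (.node 2 (.node 0 (.node 1 (.node 1 (.node 1 .nil .nil) (.node 2 (.node 0 .nil (.node 1 (.node 0 .nil .nil) .nil)) .nil)) (.node 2 (.node 0 (.node 2 .nil .nil) (.node 1 (.node 0 .nil .nil) .nil)) .nil)) (.node 1 (.node 0 (.node 0 (.node 1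 .nil (.node 2 .nil .nil)) (.node 1 (.node 0 .nil .nil) (.node 2 .nil .nil))) (.node 1 (.node 0 (.node 0 .nil (.node 1 .nil .nil)) (.node 2 (.node 2 .nil .nil) .nil)) (.node 2 (.node 0 .nil (.node 1 (.node 0 .nil .nil) (.node 2 (.node 1 (.node 2 .nil .nil) (.node 2 .nil .nil)) .nil))) .nil))) (.node 2 (.node 0 (.node 1 .nil (.node 2 .nil .nil)) (.node 1 .nil (.node 2 (.node 1 .nil (.node 2 .nil .nil)) .nil))) .nil))) .nil))) .nil))) (.node 2 (.node 0 (.node 0 (.node 0 (.node 0 (.node 2 (.node 0 (.node 0 .nil .nil) (.node 2 .nil .nil)) .nil) (.node 1 (.node 2 (.node 1 .nil .nil) .nil) (.node 2 (.node 1 .nil (.node 2 (.node 0 .nil .nil) .nil)) .nil))) (.node 1 (.node 0 (.node 2 (.node 2 .nil .nil) .nil) (.node 1 .nil (.node 2 .nil .nil))) (.node 2 (.node 2 (.node 0 .nil (.node 1 (.node 0 .nil (.node 1 .nil .nil)) (.node 2 .nil .nil))) .nil) .nil))) (.node 1 (.node 0 (.node 0 (.node 1 .nil .nil) (.node 1 (.node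 2 .nil .nil) (.node 2 (.node 0 .nil (.node 1 (.node 1 .nil .nil) (.node 2 (.node 0 .nil .nil) .nil))) .nil))) (.node 1 (.node 0 (.node 0 (.node 0 .nil (.node 1 .nil .nil)) (.node 1 (.node 2 .nil .nil) (.node 2 .nil .nil))) (.node 1 (.node 1 .nil (.node 2 .nil .nil)) (.node 2 (.node 0 (.node 1 .nil .nil) (.node 1 (.node 2 .nil .nil) (.node 2 .nil .nil))) .nil))) (.node 2 (.node 1 (.node 0 (.node 1 .nil (.node 2 .nil .nil)) (.node 1 (.node 1 .nil .nil) .nil)) (.node 2 (.node 0 (.node 0 (.node 2 .nil .nil) (.node 2 .nil .nil)) .nil) .nil)) .nil))) (.node 2 (.node 0 (.node 1 (.node 1 .nil (.node 2 .nil .nil)) (.node 2 (.node 0 .nil (.node 1 .nil .nil)) .nil)) (.node 1 (.node 0 (.node 0 (.node 0 .nil .nil) (.node 2 (.node 2 .nil .nil) .nil)) (.node 1 (.node 2 (.node 1 .nil (.node 2 .nil .nil)) .nil) (.node 2 (.node 1 .nil (.node 2 .nil .nil)) .nil))) (.node 2 (.node 0 (.node 1 .nil .nil) (.node 2 (.node 0 (.node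 1 .nil .nil) (.node 1 (.node 2 .nil .nil) (.node 2 (.node 1 (.node 0 .nil .nil) .nil) .nil))) .nil)) .nil))) .nil))) (.node 1 (.node 0 (.node 0 (.node 0 (.node 2 (.node 1 .nil .nil) .nil) (.node 1 (.node 0 (.node 1 .nil .nil) .nil) (.node 2 (.node 2 (.node 0 .nil .nil) .nil) .nil))) (.node 1 (.node 0 (.node 0 .nil .nil) (.node 1 (.node 2 .nil .nil) (.node 2 .nil .nil))) (.node 2 (.node 1 (.node 1 .nil (.node 2 .nil .nil)) (.node 2 (.node 1 .nil (.node 2 .nil .nil)) .nil)) .nil))) (.node 1 (.node 0 (.node 1 (.node 1 .nil .nil) (.node 2 (.node 0 (.node 0 .nil (.node 1 .nil (.node 2 (.node 1 .nil .nil) .nil))) .nil) .nil)) (.node 1 (.node 2 (.node 1 (.node 2 .nil .nil) .nil) .nil) (.node 2 (.node 1 (.node 1 (.node 0 .nil (.node 2 .nil .nil)) (.node 2 .nil .nil)) (.node 2 (.node 1 (.node 0 .nil (.node 1 .nil .nil)) .nil) .nil)) .nil))) (.node 2 (.node 0 (.node 1 (.node 2 (.node 2 .nil .nil) .nil) .nil) (.node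 1 (.node 0 (.node 0 (.node 1 .nil .nil) .nil) (.node 1 (.node 0 (.node 0 .nil .nil) (.node 2 .nil .nil)) (.node 2 (.node 0 .nil (.node 1 .nil (.node 2 .nil .nil))) .nil))) (.node 2 (.node 0 .nil (.node 1 (.node 2 (.node 1 .nil .nil) .nil) (.node 2 (.node 0 .nil (.node 2 .nil .nil)) .nil))) .nil))) .nil))) (.node 2 (.node 0 (.node 1 (.node 0 (.node 0 (.node 1 .nil .nil) (.node 1 .nil .nil)) (.node 1 (.node 0 .nil (.node 1 .nil (.node 2 (.node 1 .nil .nil) .nil))) (.node 2 (.node 0 .nil (.node 1 .nil .nil)) .nil))) (.node 2 (.node 0 (.node 0 .nil (.node 1 (.node 0 .nil .nil) .nil)) (.node 1 (.node 0 .nil (.node 1 (.node 0 .nil (.node 2 .nil .nil)) (.node 2 .nil .nil))) (.node 2 (.node 1 .nil .nil) .nil))) .nil)) (.node 1 (.node 0 (.node 0 (.node 2 .nil .nil) (.node 2 (.node 0 (.node 1 .nil (.node 2 .nil .nil)) .nil) .nil)) (.node 1 (.node 0 (.node 0 .nil (.node 1 .nil .nil)) (.node 1 (.node 1 .nil (.node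 2 .nil .nil)) (.node 2 (.node 0 (.node 2 .nil .nil) .nil) .nil))) (.node 2 (.node 0 (.node 0 .nil .nil) (.node 1 (.node 1 (.node 0 .nil (.node 1 .nil .nil)) (.node 2 (.node 2 .nil .nil) .nil)) (.node 2 (.node 0 .nil (.node 1 .nil .nil)) .nil))) .nil))) (.node 2 (.node 0 (.node 0 (.node 0 (.node 0 .nil (.node 2 .nil .nil)) (.node 1 (.node 0 .nil .nil) .nil)) (.node 2 .nil .nil)) (.node 1 (.node 1 .nil (.node 2 (.node 1 (.node 1 .nil .nil) (.node 2 (.node 1 .nil (.node 2 .nil .nil)) .nil)) .nil)) (.node 2 (.node 1 (.node 2 (.node 1 .nil .nil) .nil) (.node 2 (.node 0 .nil .nil) .nil)) .nil))) .nil))) .nil))) .nil))) (.node 2 (.node 0 (.node 0 (.node 0 (.node 0 (.node 1 (.node 2 (.node 2 .nil .nil) .nil) (.node 2 (.node 0 (.node 2 .nil .nil) (.node 1 .nil (.node 2 .nil .nil))) .nil)) (.node 1 (.node 0 (.node 0 (.node 0 .nil .nil) .nil) (.node 1 (.node 0 (.node 1 .nil .nil) (.node 2 (.node 0 .nil .nil) .nil))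 (.node 2 (.node 1 (.node 2 .nil .nil) (.node 2 (.node 0 .nil .nil) .nil)) .nil))) (.node 2 (.node 1 (.node 0 (.node 0 .nil .nil) (.node 1 (.node 0 .nil .nil) (.node 2 .nil .nil))) .nil) .nil))) (.node 1 (.node 0 (.node 0 (.node 0 (.node 0 .nil .nil) (.node 2 .nil .nil)) (.node 2 (.node 0 .nil (.node 1 (.node 0 .nil (.node 1 .nil .nil)) .nil)) .nil)) (.node 1 (.node 0 (.node 1 .nil .nil) (.node 1 (.node 1 (.node 1 .nil (.node 2 .nil .nil)) (.node 2 .nil .nil)) (.node 2 (.node 2 (.node 0 .nil (.node 1 .nil (.node 2 .nil .nil))) .nil) .nil))) (.node 2 (.node 0 (.node 0 (.node 2 .nil .nil) .nil) (.node 1 .nil .nil)) .nil))) (.node 2 (.node 0 (.node 0 (.node 2 (.node 1 .nil (.node 2 .nil .nil)) .nil) (.node 1 .nil (.node 2 (.node 0 .nil (.node 2 (.node 1 .nil (.node 2 .nil .nil)) .nil)) .nil))) (.node 1 (.node 0 (.node 0 .nil (.node 1 (.node 0 .nil (.node 2 .nil .nil)) (.node 2 (.node 2 .nil .nil) .nil))) (.node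 1 .nil .nil)) (.node 2 (.node 0 (.node 0 (.node 1 .nil .nil) (.node 1 .nil (.node 2 (.node 1 .nil .nil) .nil))) (.node 1 (.node 0 (.node 2 .nil .nil) (.node 2 (.node 2 .nil .nil) .nil)) (.node 2 (.node 0 .nil (.node 1 (.node 1 .nil .nil) .nil)) .nil))) .nil))) .nil))) (.node 1 (.node 0 (.node 0 (.node 0 (.node 1 (.node 2 .nil .nil) .nil) (.node 1 (.node 0 .nil (.node 1 (.node 2 .nil .nil) .nil)) (.node 2 (.node 0 .nil (.node 2 .nil .nil)) .nil))) (.node 1 (.node 0 (.node 1 (.node 1 .nil .nil) (.node 2 (.node 0 .nil .nil) .nil)) (.node 1 .nil (.node 2 .nil .nil))) (.node 2 (.node 0 (.node 0 .nil (.node 1 .nil (.node 2 (.node 0 (.node 2 .nil .nil) (.node 1 .nil .nil)) .nil))) .nil) .nil))) (.node 1 (.node 0 (.node 0 (.node 1 .nil .nil) (.node 1 (.node 2 .nil .nil) (.node 2 (.node 1 (.node 1 .nil .nil) (.node 2 .nil .nil)) .nil))) (.node 1 (.node 2 (.node 1 .nil .nil) .nil) (.node 2 (.node 0 (.node 1 .nil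 .nil) (.node 1 (.node 1 (.node 1 .nil .nil) (.node 2 (.node 0 .nil .nil) .nil)) (.node 2 (.node 0 .nil (.node 2 (.node 1 .nil .nil) .nil)) .nil))) .nil))) (.node 2 (.node 0 (.node 0 (.node 0 .nil (.node 1 .nil .nil)) .nil) (.node 1 (.node 1 (.node 0 .nil (.node 1 .nil .nil)) (.node 2 (.node 1 (.node 1 .nil .nil) .nil) .nil)) (.node 2 (.node 0 (.node 1 .nil .nil) (.node 1 (.node 1 (.node 1 .nil (.node 2 .nil .nil)) (.node 2 (.node 0 .nil .nil) .nil)) (.node 2 (.node 1 .nil (.node 2 .nil .nil)) .nil))) .nil))) .nil))) (.node 2 (.node 0 (.node 0 (.node 1 (.node 1 (.node 1 .nil .nil) (.node 2 .nil .nil)) (.node 2 (.node 0 (.node 2 .nil .nil) (.node 1 (.node 0 (.node 2 .nil .nil) .nil) (.node 2 (.node 2 .nil .nil) .nil))) .nil)) (.node 1 (.node 0 (.node 1 (.node 0 .nil .nil) .nil) (.node 2 (.node 1 (.node 0 .nil (.node 1 .nil (.node 2 .nil .nil))) (.node 2 .nil .nil)) .nil)) .nil)) (.node 1 (.node 0 (.node 0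 (.node 2 (.node 2 .nil .nil) .nil) (.node 2 (.node 0 .nil (.node 1 (.node 1 .nil .nil) .nil)) .nil)) (.node 1 (.node 0 (.node 2 .nil .nil) (.node 1 (.node 2 (.node 0 .nil .nil) .nil) (.node 2 (.node 2 .nil .nil) .nil))) .nil)) (.node 2 (.node 0 (.node 1 (.node 0 .nil (.node 2 .nil .nil)) (.node 2 (.node 0 (.node 0 .nil .nil) (.node 1 .nil .nil)) .nil)) (.node 1 (.node 1 (.node 1 .nil .nil) (.node 2 (.node 2 .nil .nil) .nil)) (.node 2 (.node 0 (.node 2 .nil .nil) (.node 1 (.node 0 .nil (.node 1 .nil .nil)) (.node 2 (.node 0 .nil (.node 1 .nil .nil)) .nil))) .nil))) .nil))) .nil))) (.node 1 (.node 0 (.node 0 (.node 0 (.node 0 (.node 1 .nil .nil) (.node 1 (.node 0 .nil (.node 1 (.node 1 .nil .nil) (.node 2 .nil .nil))) .nil)) (.node 1 (.node 0 .nil (.node 1 (.node 1 (.node 2 .nil .nil) .nil) (.node 2 (.node 0 .nil (.node 1 (.node 0 .nil .nil) (.node 2 .nil .nil))) .nil))) (.node 2 (.node 0 (.node 0 (.node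 0 .nil .nil) (.node 1 (.node 0 .nil .nil) .nil)) (.node 1 (.node 1 .nil (.node 2 .nil .nil)) (.node 2 (.node 1 .nil (.node 2 .nil .nil)) .nil))) .nil))) (.node 1 (.node 0 (.node 1 (.node 1 (.node 0 .nil (.node 1 .nil .nil)) .nil) (.node 2 (.node 1 .nil .nil) .nil)) (.node 1 (.node 0 (.node 0 .nil (.node 1 .nil .nil)) (.node 1 .nil (.node 2 (.node 0 (.node 1 .nil .nil) (.node 1 .nil (.node 2 (.node 1 .nil (.node 2 .nil .nil)) .nil))) .nil))) (.node 2 (.node 0 (.node 2 .nil .nil) .nil) .nil))) (.node 2 (.node 0 (.node 0 (.node 0 .nil .nil) (.node 1 (.node 0 .nil (.node 2 .nil .nil)) (.node 2 (.node 0 (.node 2 .nil .nil) (.node 1 .nil .nil)) .nil))) (.node 1 (.node 0 (.node 0 (.node 2 .nil .nil) (.node 1 .nil .nil)) (.node 1 (.node 2 .nil .nil) (.node 2 (.node 0 .nil (.node 1 (.node 0 .nil .nil) (.node 2 .nil .nil))) .nil))) (.node 2 (.node 0 (.node 1 (.node 1 .nil .nil) (.node 2 .nil .nil)) (.node 1 (.node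 0 .nil (.node 1 .nil (.node 2 (.node 0 .nil (.node 2 .nil .nil)) .nil))) (.node 2 (.node 2 .nil .nil) .nil))) .nil))) .nil))) (.node 1 (.node 0 (.node 0 (.node 0 (.node 0 (.node 1 .nil .nil) (.node 1 .nil (.node 2 (.node 1 .nil .nil) .nil))) (.node 1 (.node 2 (.node 0 .nil .nil) .nil) (.node 2 (.node 0 (.node 1 .nil .nil) (.node 1 (.node 2 .nil .nil) (.node 2 (.node 1 .nil .nil) .nil))) .nil))) (.node 1 (.node 0 (.node 0 (.node 1 .nil (.node 2 .nil .nil)) (.node 1 (.node 0 .nil .nil) .nil)) (.node 1 (.node 0 .nil (.node 2 (.node 1 .nil .nil) .nil)) (.node 2 (.node 0 .nil (.node 1 (.node 2 .nil .nil) (.node 2 (.node 2 .nil .nil) .nil))) .nil))) (.node 2 (.node 0 (.node 2 .nil .nil) (.node 1 (.node 1 .nil .nil) (.node 2 (.node 0 .nil (.node 1 (.node 1 .nil .nil) (.node 2 .nil .nil))) .nil))) .nil))) (.node 1 (.node 2 (.node 1 (.node 1 (.node 1 .nil .nil) (.node 2 .nil .nil)) (.node 2 (.node 0 (.node 2 .nil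 .nil) (.node 1 (.node 1 .nil (.node 2 .nil .nil)) .nil)) .nil)) .nil) (.node 2 (.node 0 (.node 0 (.node 2 .nil .nil) (.node 1 (.node 0 (.node 0 .nil (.node 1 .nil .nil)) (.node 1 .nil (.node 2 (.node 2 .nil .nil) .nil))) (.node 2 (.node 0 (.node 2 .nil .nil) (.node 1 (.node 0 .nil (.node 2 .nil .nil)) .nil)) .nil))) (.node 1 (.node 0 (.node 0 .nil (.node 1 .nil .nil)) (.node 2 (.node 0 (.node 2 .nil .nil) (.node 2 (.node 0 .nil (.node 1 .nil .nil)) .nil)) .nil)) .nil)) .nil))) (.node 2 (.node 0 (.node 1 (.node 0 (.node 1 (.node 1 .nil .nil) .nil) (.node 1 (.node 0 .nil (.node 1 .nil (.node 2 (.node 0 .nil .nil) .nil))) (.node 2 (.node 0 .nil (.node 2 (.node 0 .nil (.node 1 .nil .nil)) .nil)) .nil))) (.node 2 (.node 0 (.node 0 (.node 0 .nil (.node 1 .nil .nil)) (.node 1 .nil (.node 2 .nil .nil))) (.node 1 (.node 2 .nil .nil) (.node 2 (.node 0 (.node 1 .nil .nil) (.node 1 (.node 0 .nil .nil) .nil)) .nil)))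 .nil)) (.node 1 (.node 0 (.node 0 (.node 0 (.node 2 .nil .nil) (.node 2 .nil .nil)) (.node 1 (.node 0 (.node 0 .nil .nil) (.node 2 (.node 1 .nil .nil) .nil)) .nil)) (.node 1 (.node 0 (.node 0 (.node 2 .nil .nil) (.node 2 (.node 2 .nil .nil) .nil)) (.node 1 (.node 1 .nil (.node 2 .nil .nil)) (.node 2 (.node 0 .nil .nil) .nil))) (.node 2 (.node 0 (.node 0 .nil (.node 1 .nil (.node 2 .nil .nil))) (.node 1 (.node 0 .nil .nil) (.node 2 (.node 2 (.node 0 .nil (.node 2 .nil .nil)) .nil) .nil))) .nil))) (.node 2 (.node 0 (.node 0 .nil (.node 1 (.node 0 .nil (.node 1 .nil (.node 2 .nil .nil))) (.node 2 (.node 0 (.node 1 .nil .nil) .nil) .nil))) (.node 1 (.node 1 (.node 1 .nil (.node 2 (.node 2 .nil .nil) .nil)) (.node 2 (.node 0 .nil (.node 1 (.node 0 .nil (.node 1 .nil .nil)) .nil)) .nil)) (.node 2 (.node 0 (.node 0 (.node 2 .nil .nil) (.node 1 .nil (.node 2 .nil .nil))) (.node 1 (.node 0 .nil (.node 2 .nil .nil))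 (.node 2 (.node 0 (.node 1 .nil .nil) (.node 1 .nil .nil)) .nil))) .nil))) .nil))) .nil))) (.node 2 (.node 0 (.node 0 (.node 0 (.node 0 .nil (.node 1 (.node 0 .nil (.node 1 .nil (.node 2 .nil .nil))) (.node 2 (.node 2 .nil .nil) .nil))) (.node 1 (.node 0 (.node 0 .nil (.node 2 (.node 0 .nil .nil) .nil)) (.node 1 (.node 0 (.node 2 .nil .nil) .nil) (.node 2 (.node 2 .nil .nil) .nil))) (.node 2 (.node 0 (.node 0 .nil (.node 1 (.node 0 .nil .nil) (.node 2 (.node 2 .nil .nil) .nil))) (.node 1 .nil (.node 2 (.node 0 .nil (.node 1 .nil .nil)) .nil))) .nil))) (.node 1 (.node 0 (.node 0 (.node 1 (.node 2 .nil .nil) .nil) (.node 1 (.node 1 (.node 2 .nil .nil) (.node 2 .nil .nil)) (.node 2 (.node 0 (.node 0 .nil .nil) (.node 1 .nil .nil)) .nil))) (.node 1 (.node 0 .nil (.node 1 .nil .nil)) (.node 2 (.node 1 (.node 0 .nil (.node 1 (.node 0 .nil .nil) (.node 2 .nil .nil))) .nil) .nil))) (.node 2 (.node 0 (.node 0 (.node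 2 .nil .nil) (.node 1 (.node 0 (.node 2 .nil .nil) (.node 1 (.node 1 .nil .nil) .nil)) (.node 2 (.node 0 .nil (.node 1 (.node 0 .nil .nil) (.node 2 .nil .nil))) .nil))) (.node 1 (.node 0 .nil .nil) .nil)) .nil))) (.node 1 (.node 0 (.node 0 (.node 1 .nil (.node 2 (.node 0 (.node 1 .nil .nil) (.node 2 .nil .nil)) .nil)) (.node 1 (.node 0 (.node 0 .nil .nil) (.node 1 (.node 0 .nil (.node 2 (.node 2 .nil .nil) .nil)) (.node 2 .nil .nil))) (.node 2 (.node 0 .nil (.node 2 (.node 1 .nil (.node 2 .nil .nil)) .nil)) .nil))) (.node 1 (.node 0 (.node 0 (.node 0 .nil (.node 2 .nil .nil)) (.node 1 (.node 1 .nil (.node 2 .nil .nil)) (.node 2 (.node 1 (.node 1 .nil (.node 2 .nil .nil)) .nil) .nil))) (.node 1 (.node 1 (.node 1 .nil (.node 2 (.node 1 .nil .nil) .nil)) (.node 2 (.node 1 .nil .nil) .nil)) (.node 2 (.node 0 (.node 0 .nil (.node 2 (.node 1 .nil .nil) .nil)) (.node 1 .nil .nil)) .nil))) (.node 2 (.node 0 (.node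 0 (.node 2 .nil .nil) (.node 1 (.node 1 .nil .nil) (.node 2 (.node 0 (.node 0 .nil (.node 1 .nil .nil)) (.node 1 .nil .nil)) .nil))) (.node 1 (.node 0 (.node 0 .nil (.node 2 .nil .nil)) (.node 1 (.node 2 .nil .nil) (.node 2 (.node 0 (.node 0 .nil (.node 1 .nil .nil)) .nil) .nil))) (.node 2 (.node 0 (.node 0 .nil (.node 1 .nil (.node 2 .nil .nil))) (.node 1 (.node 0 .nil .nil) (.node 2 (.node 1 (.node 1 .nil .nil) (.node 2 .nil .nil)) .nil))) .nil))) .nil))) (.node 2 (.node 0 (.node 2 (.node 0 (.node 1 .nil .nil) (.node 1 (.node 1 (.node 1 .nil .nil) (.node 2 .nil .nil)) (.node 2 (.node 0 .nil (.node 1 .nil (.node 2 .nil .nil))) .nil))) .nil) (.node 1 (.node 0 (.node 1 .nil .nil) (.node 2 (.node 0 (.node 1 .nil .nil) (.node 1 (.node 0 .nil (.node 2 .nil .nil)) (.node 2 (.node 2 .nil .nil) .nil))) .nil)) (.node 2 (.node 0 (.node 0 (.node 1 .nil (.node 2 .nil .nil)) (.node 2 (.node 1 .nil (.node 2 .nil .nil))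 .nil)) (.node 1 (.node 0 (.node 0 .nil (.node 1 .nil .nil)) (.node 1 (.node 0 .nil .nil) (.node 2 (.node 0 .nil (.node 1 (.node 0 .nil .nil) .nil)) .nil))) (.node 2 (.node 1 .nil (.node 2 (.node 1 .nil (.node 2 .nil .nil)) .nil)) .nil))) .nil))) .nil))) .nil))) .nil)))

/-- Orbits. -/
def partsSexTri : List Part := [(treeSexTri0, [951624, 3168928, 12656663], 96, 15), (treeSexTri1, [5279, 3050016, 13721920], 64, 180), (treeSexTri2, [5279, 1852256, 14919680], 48, 720), (treeSexTri3, [5279, 1009728, 15762208], 44, 2880)]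

/-- Root structure. -/
def rootTri : List ℕ := [5279, 1009728, 15762208]

/-- Generators of its stabilizer. -/
def gensTri : List ℕ := [498748817842526645694777702492069352, 478283423059800312941344016210482351, 892617973034196675300948849423944706]

set_option maxRecDepth 20000 in
/-- Orbit forest. -/
def treeTriOct0 : OrbTree := (.node 0 .nil (.node 1 .nil .nil))

set_option maxRecDepth 20000 in
/-- Orbit forest. -/
def treeTriOct1 : OrbTree := (.node 0 (.node 0 (.node 1 (.node 0 .nil (.node 2 (.node 1 .nil .nil) .nil)) .nil) (.node 1 (.node 0 (.node 0 .nil (.node 1 (.node 0 .nil .nil) (.node 2 (.node 1 .nil .nil) .nil))) (.node 1 (.node 0 (.node 0 .nil (.node 1 (.node 0 .nil (.node 1 .nil .nil)) (.node 2 .nil .nil))) (.node 2 (.node 1 .nil .nil) .nil)) (.node 2 (.node 1 (.node 0 (.node 1 (.node 0 .nil .nil) .nil) (.node 1 (.node 0 .nil .nil) .nil)) .nil) .nil))) .nil)) (.node 1 (.node 0 (.node 0 (.node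 0 (.node 1 (.node 0 .nil (.node 1 .nil .nil)) (.node 2 (.node 2 .nil .nil) .nil)) (.node 2 (.node 0 (.node 0 .nil .nil) (.node 2 .nil .nil)) .nil)) (.node 1 (.node 0 (.node 2 .nil .nil) (.node 1 (.node 2 (.node 0 .nil .nil) .nil) (.node 2 (.node 1 .nil .nil) .nil))) (.node 2 (.node 1 (.node 0 (.node 2 .nil .nil) (.node 2 .nil .nil)) (.node 2 .nil .nil)) .nil))) (.node 1 (.node 0 (.node 0 (.node 1 .nil .nil) (.node 1 (.node 1 .nil .nil) .nil)) (.node 2 (.node 0 .nil (.node 1 (.node 0 (.node 2 .nil .nil) .nil) .nil)) .nil)) (.node 2 (.node 0 (.node 0 (.node 1 (.node 2 .nil .nil) .nil) (.node 1 (.node 0 .nil (.node 1 .nil .nil)) (.node 2 .nil .nil))) (.node 2 (.node 0 (.node 0 .nil (.node 1 .nil .nil)) (.node 2 (.node 1 .nil (.node 2 .nil .nil)) .nil)) .nil)) .nil))) .nil))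

set_option maxRecDepth 20000 in
/-- Orbit forest. -/
def treeTriOct2 : OrbTree := (.node 0 (.node 0 (.node 0 (.node 1 (.node 0 (.node 0 (.node 0 .nil (.node 1 .nil (.node 2 .nil .nil))) (.node 1 (.node 0 .nil .nil) (.node 2 (.node 1 (.node 1 .nil .nil) (.node 2 (.node 1 .nil .nil) .nil)) .nil))) (.node 2 (.node 0 (.node 1 .nil .nil) (.node 2 .nil .nil)) .nil)) .nil) (.node 1 (.node 0 (.node 0 (.node 0 (.node 0 (.node 2 .nil .nil) (.node 1 .nil (.node 2 (.node 0 .nil .nil) .nil))) (.node 1 (.node 0 .nil (.node 2 (.node 1 .nil .nil) .nil)) (.node 2 .nil .nil))) (.node 1 (.node 1 .nil .nil) (.node 2 (.node 1 (.node 0 (.node 0 .nil .nil) (.node 1 (.node 0 .nil .nil) (.node 2 .nil .nil))) (.node 2 (.node 0 (.node 1 .nil .nil) (.node 2 (.node 1 .nil .nil) .nil)) .nil)) .nil))) (.node 1 (.node 0 (.node 0 (.node 0 .nil (.node 1 (.node 1 .nil .nil) (.node 2 .nil .nil))) (.node 2 (.node 2 (.node 1 .nil .nil) .nil)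 .nil)) (.node 2 (.node 0 .nil (.node 1 (.node 0 .nil (.node 1 (.node 2 .nil .nil) (.node 2 .nil .nil))) (.node 2 (.node 0 .nil (.node 1 .nil .nil)) .nil))) .nil)) (.node 2 (.node 0 (.node 1 (.node 0 (.node 0 .nil (.node 1 .nil .nil)) (.node 1 .nil (.node 2 (.node 2 .nil .nil) .nil))) .nil) (.node 1 (.node 0 (.node 0 (.node 2 .nil .nil) (.node 1 (.node 1 .nil .nil) .nil)) (.node 1 (.node 0 .nil (.node 2 .nil .nil)) (.node 2 (.node 0 (.node 0 .nil .nil) (.node 2 (.node 1 .nil .nil) .nil)) .nil))) (.node 2 .nil .nil))) .nil))) .nil)) (.node 1 (.node 0 (.node 0 (.node 0 (.node 0 (.node 1 (.node 0 .nil (.node 2 .nil .nil)) .nil) (.node 1 (.node 1 (.node 0 .nil (.node 2 .nil .nil)) .nil) (.node 2 .nil .nil))) (.node 1 (.node 0 (.node 1 (.node 1 .nil .nil) .nil) (.node 1 .nil (.node 2 (.node 1 (.node 1 .nil .nil) .nil) .nil))) (.node 2 .nil .nil))) (.node 1 (.node 1 (.node 0 (.node 0 .nil (.node 1 .nil .nil))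 (.node 2 (.node 2 .nil .nil) .nil)) .nil) (.node 2 (.node 1 (.node 1 (.node 2 (.node 1 .nil .nil) .nil) .nil) (.node 2 (.node 1 (.node 0 (.node 0 .nil .nil) (.node 2 (.node 2 (.node 1 .nil .nil) .nil) .nil)) .nil) .nil)) .nil))) (.node 1 (.node 0 (.node 0 (.node 0 (.node 1 .nil .nil) (.node 1 (.node 1 .nil (.node 2 .nil .nil)) .nil)) (.node 1 (.node 0 (.node 1 .nil (.node 2 .nil .nil)) (.node 1 .nil (.node 2 (.node 0 .nil (.node 2 .nil .nil)) .nil))) (.node 2 (.node 1 (.node 1 .nil (.node 2 .nil .nil)) (.node 2 (.node 1 (.node 0 .nil (.node 2 .nil .nil)) .nil) .nil)) .nil))) (.node 2 (.node 0 (.node 1 (.node 0 (.node 1 .nil .nil) (.node 2 (.node 1 .nil .nil) .nil)) (.node 2 .nil .nil)) (.node 1 (.node 0 (.node 1 .nil .nil) (.node 1 (.node 0 .nil (.node 2 .nil .nil)) (.node 2 (.node 2 .nil .nil) .nil))) (.node 2 (.node 0 .nil (.node 1 (.node 0 (.node 2 .nil .nil) (.node 1 .nil (.node 2 .nil .nil))) .nil))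 .nil))) .nil)) (.node 2 (.node 0 (.node 0 (.node 0 (.node 1 .nil .nil) (.node 1 (.node 1 .nil (.node 2 .nil .nil)) (.node 2 (.node 1 (.node 0 .nil .nil) .nil) .nil))) (.node 1 (.node 0 (.node 2 .nil .nil) (.node 1 .nil (.node 2 .nil .nil))) (.node 2 (.node 1 (.node 1 .nil (.node 2 (.node 0 .nil .nil) .nil)) .nil) .nil))) (.node 1 (.node 0 (.node 1 (.node 0 .nil (.node 1 .nil .nil)) (.node 2 (.node 1 (.node 2 .nil .nil) .nil) .nil)) (.node 1 (.node 0 .nil (.node 2 (.node 2 (.node 1 .nil .nil) .nil) .nil)) (.node 2 (.node 0 (.node 1 .nil .nil) (.node 1 .nil .nil)) .nil))) (.node 2 (.node 1 (.node 0 (.node 2 (.node 1 .nil .nil) .nil) (.node 1 (.node 0 (.node 1 .nil .nil) (.node 2 .nil .nil)) (.node 2 (.node 0 .nil (.node 1 .nil .nil)) .nil))) (.node 2 .nil .nil)) .nil))) .nil))) (.node 2 (.node 0 (.node 0 (.node 1 (.node 2 (.node 0 .nil .nil) .nil) .nil) (.node 1 (.node 0 (.node 0 (.node 0 .nil (.node 2 .nil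 .nil)) (.node 2 .nil .nil)) (.node 1 (.node 0 .nil (.node 2 (.node 1 .nil .nil) .nil)) (.node 2 (.node 0 .nil (.node 1 (.node 1 (.node 0 .nil .nil) .nil) (.node 2 (.node 1 .nil .nil) .nil))) .nil))) .nil)) (.node 1 (.node 0 (.node 0 (.node 0 .nil (.node 2 (.node 1 .nil .nil) .nil)) (.node 1 (.node 0 .nil (.node 1 .nil .nil)) (.node 2 (.node 1 (.node 0 .nil (.node 1 .nil .nil)) .nil) .nil))) (.node 1 (.node 0 (.node 0 (.node 0 (.node 1 .nil .nil) (.node 1 (.node 1 .nil .nil) .nil)) (.node 1 .nil (.node 2 .nil .nil))) (.node 2 (.node 0 .nil (.node 1 (.node 2 (.node 2 .nil .nil) .nil) .nil)) .nil)) (.node 2 (.node 0 (.node 0 .nil (.node 2 (.node 1 (.node 1 .nil .nil) .nil) .nil)) (.node 1 (.node 0 .nil (.node 1 .nil .nil)) (.node 2 (.node 0 .nil (.node 1 (.node 1 .nil .nil) (.node 2 (.node 1 .nil .nil) .nil))) .nil))) .nil))) (.node 2 (.node 1 (.node 0 (.node 0 (.node 0 .nil .nil) (.node 1 (.node 0 .nil .nil)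 (.node 2 (.node 2 .nil .nil) .nil))) (.node 2 (.node 0 (.node 1 .nil .nil) (.node 2 .nil .nil)) .nil)) .nil) .nil))) .nil))) (.node 1 (.node 0 (.node 0 (.node 0 (.node 0 (.node 1 (.node 0 .nil (.node 1 .nil (.node 2 .nil .nil))) .nil) (.node 1 (.node 1 (.node 0 .nil (.node 2 (.node 1 .nil (.node 2 .nil .nil)) .nil)) (.node 2 (.node 0 .nil .nil) .nil)) (.node 2 (.node 1 (.node 2 .nil .nil) .nil) .nil))) (.node 1 (.node 1 (.node 0 .nil (.node 2 (.node 1 .nil .nil) .nil)) .nil) (.node 2 (.node 0 (.node 1 (.node 2 .nil .nil) .nil) (.node 1 (.node 1 (.node 2 .nil .nil) .nil) (.node 2 (.node 1 (.node 0 .nil (.node 1 .nil (.node 2 .nil .nil))) .nil) .nil))) .nil))) (.node 2 (.node 1 (.node 0 (.node 0 .nil (.node 1 .nil (.node 2 (.node 0 .nil .nil) .nil))) (.node 1 (.node 0 (.node 0 .nil (.node 2 .nil .nil)) (.node 2 (.node 1 .nil .nil) .nil)) (.node 2 (.node 1 (.node 2 .nil .nil) (.node 2 (.node 0 (.node 0 .nil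 (.node 1 .nil (.node 2 .nil .nil))) .nil) .nil)) .nil))) (.node 2 (.node 0 (.node 0 .nil (.node 1 .nil .nil)) (.node 1 (.node 0 .nil (.node 1 .nil .nil)) .nil)) .nil)) .nil)) (.node 1 (.node 0 (.node 0 (.node 0 (.node 1 (.node 0 .nil (.node 1 .nil (.node 2 .nil .nil))) .nil) (.node 1 (.node 1 .nil (.node 2 (.node 0 .nil (.node 2 .nil .nil)) .nil)) (.node 2 (.node 0 .nil .nil) .nil))) (.node 1 (.node 0 (.node 0 (.node 1 .nil .nil) (.node 2 (.node 2 (.node 2 .nil .nil) .nil) .nil)) (.node 1 (.node 0 .nil (.node 2 (.node 1 .nil .nil) .nil)) (.node 2 (.node 0 (.node 0 .nil (.node 2 .nil .nil)) (.node 1 (.node 0 .nil (.node 2 (.node 0 .nil .nil) .nil)) (.node 2 (.node 0 .nil (.node 1 .nil (.node 2 .nil .nil))) .nil))) .nil))) (.node 2 (.node 0 (.node 1 .nil .nil) (.node 1 (.node 1 .nil .nil) (.node 2 (.node 1 (.node 0 .nil (.node 2 (.node 0 .nil .nil) .nil)) .nil) .nil))) .nil))) (.node 2 (.node 0 (.node 0 (.node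 0 .nil (.node 2 (.node 1 .nil .nil) .nil)) (.node 1 (.node 0 (.node 0 .nil (.node 1 .nil (.node 2 .nil .nil))) (.node 2 (.node 1 .nil .nil) .nil)) (.node 2 (.node 0 .nil (.node 2 (.node 1 (.node 2 .nil .nil) .nil) .nil)) .nil))) (.node 1 (.node 0 (.node 0 .nil (.node 2 .nil .nil)) (.node 2 (.node 2 (.node 0 .nil .nil) .nil) .nil)) (.node 2 (.node 1 (.node 1 (.node 2 .nil .nil) .nil) .nil) .nil))) .nil)) (.node 2 (.node 0 (.node 0 (.node 1 (.node 0 (.node 0 .nil (.node 2 .nil .nil)) (.node 1 .nil (.node 2 (.node 1 .nil .nil) .nil))) (.node 2 (.node 1 (.node 0 (.node 0 .nil .nil) (.node 1 .nil (.node 2 (.node 0 .nil .nil) .nil))) .nil) .nil)) (.node 1 (.node 0 (.node 2 (.node 1 .nil .nil) .nil) (.node 2 (.node 0 .nil (.node 2 .nil .nil)) .nil)) (.node 2 (.node 0 (.node 1 (.node 0 .nil .nil) .nil) (.node 1 (.node 0 (.node 0 .nil .nil) (.node 1 (.node 2 .nil .nil) (.node 2 (.node 0 .nil (.node 2 .nil .nil))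 .nil))) (.node 2 (.node 1 .nil .nil) .nil))) .nil))) (.node 1 (.node 0 (.node 0 (.node 1 (.node 1 .nil .nil) .nil) (.node 1 (.node 0 .nil (.node 2 (.node 0 .nil (.node 1 .nil .nil)) .nil)) (.node 2 (.node 1 (.node 1 .nil (.node 2 .nil .nil)) .nil) .nil))) (.node 1 (.node 0 (.node 1 (.node 1 .nil .nil) (.node 2 .nil .nil)) (.node 2 (.node 2 .nil .nil) .nil)) (.node 2 (.node 0 (.node 0 .nil (.node 2 (.node 1 (.node 0 .nil .nil) (.node 2 (.node 1 .nil .nil) .nil)) .nil)) (.node 2 (.node 0 .nil (.node 1 .nil .nil)) .nil)) .nil))) (.node 2 (.node 0 (.node 1 (.node 0 (.node 1 (.node 1 .nil .nil) .nil) (.node 1 .nil (.node 2 .nil .nil))) .nil) (.node 1 (.node 1 (.node 0 .nil (.node 2 (.node 1 (.node 1 .nil .nil) .nil) .nil)) .nil) (.node 2 (.node 1 (.node 0 (.node 0 .nil (.node 2 .nil .nil)) (.node 1 .nil (.node 2 (.node 0 .nil (.node 1 .nil .nil)) .nil))) .nil) .nil))) .nil))) .nil))) (.node 2 (.node 0 (.node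 1 (.node 0 (.node 0 (.node 0 .nil (.node 1 .nil (.node 2 .nil .nil))) (.node 1 .nil (.node 2 (.node 1 (.node 1 .nil .nil) (.node 2 .nil .nil)) .nil))) (.node 1 (.node 0 (.node 1 .nil .nil) (.node 2 .nil .nil)) (.node 2 (.node 0 (.node 0 (.node 0 .nil (.node 2 .nil .nil)) (.node 2 (.node 0 .nil .nil) .nil)) (.node 1 (.node 0 (.node 1 .nil .nil) (.node 1 .nil .nil)) (.node 2 (.node 2 .nil .nil) .nil))) .nil))) .nil) (.node 1 (.node 0 (.node 0 (.node 0 (.node 0 (.node 1 .nil .nil) (.node 1 (.node 1 .nil (.node 2 .nil .nil)) (.node 2 .nil .nil))) (.node 1 (.node 0 .nil (.node 1 (.node 2 .nil .nil) (.node 2 (.node 1 (.node 2 .nil .nil) .nil) .nil))) (.node 2 .nil .nil))) (.node 1 (.node 0 (.node 2 .nil .nil) (.node 1 (.node 0 (.node 0 .nil (.node 2 .nil .nil)) (.node 2 (.node 0 .nil .nil) .nil)) (.node 2 (.node 0 .nil (.node 1 .nil .nil)) .nil))) (.node 2 (.node 1 (.node 2 (.node 0 .nil .nil) .nil) (.node 2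 (.node 1 .nil .nil) .nil)) .nil))) (.node 1 (.node 0 (.node 0 (.node 0 (.node 1 .nil (.node 2 .nil .nil)) (.node 1 .nil .nil)) (.node 1 (.node 0 .nil (.node 2 (.node 1 .nil .nil) .nil)) (.node 2 .nil .nil))) (.node 2 (.node 1 (.node 0 (.node 2 .nil .nil) .nil) (.node 2 (.node 1 (.node 2 .nil .nil) .nil) .nil)) .nil)) (.node 2 (.node 0 (.node 0 (.node 0 .nil (.node 2 .nil .nil)) (.node 1 (.node 0 (.node 2 .nil .nil) (.node 2 .nil .nil)) (.node 2 (.node 1 (.node 1 .nil (.node 2 .nil .nil)) .nil) .nil))) (.node 1 (.node 1 .nil .nil) (.node 2 (.node 0 (.node 1 .nil .nil) (.node 1 .nil (.node 2 .nil .nil))) .nil))) .nil))) (.node 2 (.node 1 (.node 0 (.node 0 (.node 1 (.node 1 .nil .nil) .nil) (.node 1 .nil (.node 2 (.node 1 .nil .nil) .nil))) (.node 1 (.node 0 (.node 0 (.node 0 (.node 1 .nil .nil) .nil) .nil) (.node 2 .nil .nil)) (.node 2 (.node 1 (.node 1 (.node 2 .nil .nil) (.node 2 (.node 1 .nil .nil) .nil))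 (.node 2 .nil .nil)) .nil))) .nil) .nil))) .nil)))

/-- Orbits. -/
def partsTriOct : List Part := [(treeTriOct0, [15762208], 64, 3), (treeTriOct1, [14716939], 32, 84), (treeTriOct2, [13062145], 24, 672)]

set_option maxRecDepth 20000 in
/-- Orbit forest. -/
def treeTriSex0 : OrbTree := (.node 1 (.node 0 .nil (.node 1 .nil .nil)) (.node 2 (.node 0 .nil (.node 2 .nil .nil)) .nil))

set_option maxRecDepth 20000 in
/-- Orbit forest. -/
def treeTriSex1 : OrbTree := (.node 0 (.node 0 (.node 0 (.node 1 (.node 0 .nil .nil) .nil) (.node 1 (.node 0 (.node 0 (.node 1 .nil .nil) (.node 1 .nil (.node 2 .nil .nil))) (.node 1 (.node 2 .nil .nil) .nil)) (.node 2 (.node 0 (.node 0 .nil (.node 1 (.node 1 .nil .nil) (.node 2 .nil .nil))) (.node 1 (.node 2 (.node 0 .nil .nil) .nil) (.node 2 (.node 1 .nil .nil) .nil))) .nil))) (.node 1 (.node 0 (.node 0 .nil .nil) (.node 1 .nil (.node 2 (.node 0 (.node 1 (.node 1 .nil .nil)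 .nil) (.node 1 (.node 0 .nil (.node 2 .nil .nil)) .nil)) .nil))) (.node 2 (.node 1 (.node 0 .nil (.node 1 (.node 0 .nil .nil) .nil)) .nil) .nil))) (.node 1 (.node 0 (.node 0 (.node 0 .nil (.node 1 (.node 1 .nil .nil) (.node 2 (.node 0 .nil (.node 1 .nil .nil)) .nil))) .nil) (.node 1 (.node 0 .nil (.node 2 .nil .nil)) (.node 2 (.node 0 (.node 1 (.node 2 .nil .nil) .nil) (.node 1 (.node 0 (.node 0 .nil .nil) (.node 1 .nil .nil)) .nil)) .nil))) (.node 2 (.node 0 (.node 0 (.node 1 (.node 1 .nil .nil) (.node 2 .nil .nil)) (.node 1 (.node 0 .nil (.node 2 .nil .nil)) (.node 2 (.node 0 .nil (.node 2 .nil .nil)) .nil))) (.node 1 (.node 0 (.node 0 .nil (.node 2 (.node 1 .nil .nil) .nil)) (.node 1 (.node 2 .nil .nil) (.node 2 (.node 1 (.node 1 .nil .nil) .nil) .nil))) (.node 2 .nil .nil))) .nil)))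

set_option maxRecDepth 20000 in
/-- Orbit forest. -/
def treeTriSex2 : OrbTree := (.node 0 (.node 0 (.node 0 (.node 0 (.node 0 (.node 0 (.node 2 (.node 0 .nil (.node 1 .nil .nil)) .nil) (.node 1 .nil (.node 2 (.node 0 .nil (.node 2 .nil .nil)) .nil))) (.node 1 (.node 0 .nil (.node 1 .nil (.node 2 .nil .nil))) (.node 2 (.node 0 .nil (.node 1 (.node 2 .nil .nil) .nil)) .nil))) (.node 1 (.node 0 (.node 0 (.node 1 (.node 2 .nil .nil) .nil) (.node 1 .nil .nil)) (.node 1 (.node 0 .nil (.node 2 .nil .nil)) (.node 2 (.node 1 (.node 0 .nil (.node 1 .nil .nil)) .nil) .nil))) (.node 2 (.node 0 (.node 1 (.node 0 .nil .nil) .nil) (.node 1 .nil (.node 2 (.node 0 (.node 0 .nil .nil) (.node 1 .nil .nil)) .nil))) .nil))) (.node 1 (.node 0 (.node 0 .nil (.node 2 (.node 0 .nil (.node 1 .nil (.node 2 (.node 1 .nil .nil) .nil))) .nil)) (.node 1 (.node 0 (.node 0 .nil .nil) (.node 2 (.node 1 .nil .nil) .nil)) (.node 2 (.node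 0 (.node 1 .nil .nil) (.node 1 (.node 0 .nil (.node 2 .nil .nil)) (.node 2 (.node 0 .nil .nil) .nil))) .nil))) (.node 2 (.node 0 (.node 0 (.node 0 .nil .nil) (.node 1 (.node 0 .nil (.node 1 (.node 2 .nil .nil) .nil)) (.node 2 (.node 0 .nil (.node 1 .nil (.node 2 .nil .nil))) .nil))) (.node 1 (.node 0 (.node 0 .nil (.node 2 .nil .nil)) (.node 1 (.node 0 .nil .nil) (.node 2 (.node 0 .nil (.node 1 .nil .nil)) .nil))) (.node 2 (.node 0 (.node 1 (.node 0 .nil .nil) .nil) (.node 1 (.node 0 .nil (.node 1 .nil (.node 2 (.node 2 .nil .nil) .nil))) .nil)) .nil))) .nil))) (.node 1 (.node 0 (.node 0 (.node 1 (.node 0 .nil (.node 2 .nil .nil)) .nil) (.node 1 (.node 0 (.node 0 .nil (.node 1 .nil .nil)) (.node 1 .nil (.node 2 (.node 1 .nil .nil) .nil))) (.node 2 (.node 0 (.node 2 .nil .nil) (.node 1 (.node 2 .nil .nil) (.node 2 (.node 1 .nil .nil) .nil))) .nil))) (.node 1 (.node 0 (.node 0 (.node 1 .nil .nil) (.node 1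 .nil (.node 2 .nil .nil))) (.node 2 (.node 0 (.node 2 (.node 1 .nil .nil) .nil) (.node 1 (.node 0 .nil (.node 2 .nil .nil)) (.node 2 (.node 0 .nil .nil) .nil))) .nil)) .nil)) (.node 2 (.node 0 (.node 0 (.node 0 (.node 1 .nil .nil) (.node 1 (.node 1 (.node 0 .nil (.node 2 .nil .nil)) .nil) (.node 2 .nil .nil))) (.node 1 (.node 1 .nil .nil) (.node 2 (.node 0 .nil (.node 2 (.node 1 .nil .nil) .nil)) .nil))) (.node 1 (.node 0 (.node 0 (.node 1 .nil (.node 2 (.node 0 .nil .nil) .nil)) (.node 1 .nil (.node 2 (.node 2 .nil .nil) .nil))) (.node 1 (.node 0 .nil (.node 2 (.node 0 .nil (.node 2 .nil .nil)) .nil)) (.node 2 .nil .nil))) (.node 2 (.node 0 (.node 0 .nil .nil) (.node 1 (.node 0 (.node 0 (.node 0 .nil (.node 2 .nil .nil)) (.node 2 .nil .nil)) (.node 1 .nil (.node 2 .nil .nil))) (.node 2 (.node 0 .nil (.node 1 (.node 0 .nil (.node 1 .nil (.node 2 .nil .nil))) .nil)) .nil))) .nil))) .nil))) (.node 1 (.node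 0 (.node 0 (.node 0 (.node 0 .nil (.node 1 (.node 2 .nil .nil) (.node 2 (.node 0 .nil (.node 2 .nil .nil)) .nil))) .nil) (.node 1 (.node 0 (.node 0 (.node 1 .nil .nil) (.node 1 .nil (.node 2 (.node 2 .nil .nil) .nil))) (.node 1 (.node 2 (.node 0 .nil .nil) .nil) (.node 2 (.node 0 .nil (.node 1 (.node 0 .nil (.node 1 (.node 0 .nil .nil) .nil)) (.node 2 (.node 1 .nil .nil) .nil))) .nil))) (.node 2 (.node 0 (.node 1 .nil (.node 2 .nil .nil)) (.node 1 (.node 0 (.node 0 (.node 0 .nil .nil) (.node 2 .nil .nil)) (.node 1 (.node 0 .nil .nil) .nil)) (.node 2 (.node 2 .nil .nil) .nil))) .nil))) (.node 1 (.node 0 (.node 0 .nil (.node 2 (.node 1 (.node 0 .nil (.node 1 .nil (.node 2 .nil .nil))) .nil) .nil)) (.node 2 (.node 0 (.node 1 (.node 0 .nil .nil) .nil) (.node 1 (.node 1 .nil .nil) (.node 2 (.node 1 .nil .nil) .nil))) .nil)) (.node 2 (.node 0 (.node 0 .nil (.node 1 (.node 0 (.node 0 .nil (.node 1 .nil (.node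 2 .nil .nil))) (.node 1 .nil .nil)) (.node 2 .nil .nil))) (.node 1 (.node 0 (.node 0 (.node 0 .nil (.node 2 .nil .nil)) (.node 1 .nil (.node 2 .nil .nil))) (.node 2 (.node 0 (.node 0 .nil (.node 2 .nil .nil)) (.node 1 .nil (.node 2 (.node 1 (.node 0 .nil .nil) .nil) .nil))) .nil)) (.node 2 (.node 0 .nil (.node 1 (.node 1 (.node 2 .nil .nil) .nil) (.node 2 (.node 1 .nil .nil) .nil))) .nil))) .nil))) (.node 2 (.node 0 (.node 0 (.node 0 (.node 1 .nil .nil) (.node 1 (.node 2 .nil .nil) .nil)) (.node 1 (.node 0 (.node 0 .nil (.node 2 .nil .nil)) (.node 1 (.node 0 .nil .nil) .nil)) (.node 2 (.node 0 .nil (.node 1 (.node 0 (.node 1 .nil .nil) (.node 1 .nil (.node 2 (.node 0 .nil (.node 2 .nil .nil)) .nil))) (.node 2 .nil .nil))) .nil))) (.node 1 (.node 0 (.node 0 (.node 0 .nil (.node 2 (.node 0 .nil .nil) .nil)) (.node 2 (.node 0 .nil (.node 1 (.node 0 .nil (.node 1 .nil .nil)) (.node 2 (.node 0 .nil .nil) .nil)))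 .nil)) (.node 1 (.node 0 (.node 1 (.node 0 .nil .nil) .nil) (.node 2 (.node 1 .nil .nil) .nil)) (.node 2 (.node 0 (.node 0 .nil (.node 1 .nil (.node 2 (.node 1 .nil .nil) .nil))) (.node 1 (.node 0 (.node 0 .nil .nil) (.node 2 (.node 0 .nil (.node 2 .nil .nil)) .nil)) (.node 2 (.node 0 .nil (.node 1 .nil .nil)) .nil))) .nil))) (.node 2 (.node 1 (.node 0 (.node 0 (.node 0 .nil .nil) .nil) (.node 1 (.node 0 .nil (.node 2 (.node 0 .nil .nil) .nil)) (.node 2 (.node 0 .nil (.node 2 .nil .nil)) .nil))) .nil) .nil))) .nil)))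

set_option maxRecDepth 20000 in
/-- Orbit forest. -/
def treeTriSex3 : OrbTree := (.node 0 (.node 0 (.node 0 (.node 1 (.node 0 (.node 0 (.node 0 (.node 1 .nil .nil) (.node 2 (.node 1 (.node 1 .nil .nil) (.node 2 .nil .nil)) .nil)) (.node 1 (.node 0 .nil (.node 1 .nil (.node 2 .nil .nil))) (.node 2 (.node 1 .nil .nil) .nil))) (.node 1 (.node 0 (.node 1 (.node 0 (.node 0 .nil .nil) .nil) (.node 2 (.node 1 .nil (.node 2 .nil .nil)) .nil)) (.node 2 (.node 0 .nil (.node 1 .nil .nil)) .nil)) (.node 2 (.node 0 (.node 0 (.node 1 .nil (.node 2 .nil .nil)) (.node 1 (.node 2 .nil .nil) (.node 2 (.node 1 (.node 2 .nil .nil) .nil) .nil))) (.node 1 (.node 0 (.node 0 .nil .nil) (.node 1 (.node 0 .nil .nil) (.node 2 (.node 2 .nil .nil) .nil))) .nil)) .nil))) .nil) (.node 1 (.node 0 (.node 0 (.node 0 (.node 0 (.node 0 .nil .nil) (.node 1 (.node 0 .nil (.node 1 .nil (.node 2 .nil .nil))) (.node 2 (.node 0 (.node 0 .nil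 .nil) (.node 2 (.node 0 .nil .nil) .nil)) .nil))) (.node 1 (.node 0 (.node 0 .nil (.node 2 .nil .nil)) (.node 1 .nil (.node 2 (.node 0 .nil .nil) .nil))) (.node 2 (.node 0 (.node 0 .nil (.node 1 .nil .nil)) (.node 1 (.node 2 (.node 1 .nil .nil) .nil) (.node 2 .nil .nil))) .nil))) (.node 1 (.node 0 (.node 1 .nil .nil) (.node 1 (.node 0 (.node 1 .nil (.node 2 (.node 1 .nil .nil) .nil)) .nil) (.node 2 (.node 1 (.node 0 .nil (.node 2 .nil .nil)) .nil) .nil))) (.node 2 (.node 1 (.node 0 (.node 0 .nil .nil) (.node 1 (.node 2 .nil .nil) (.node 2 (.node 0 .nil (.node 1 (.node 2 .nil .nil) .nil)) .nil))) (.node 2 (.node 1 (.node 1 .nil (.node 2 .nil .nil)) (.node 2 (.node 0 .nil (.node 1 (.node 1 .nil .nil) (.node 2 (.node 1 .nil .nil) .nil))) .nil)) .nil)) .nil))) (.node 1 (.node 0 (.node 0 (.node 1 .nil (.node 2 .nil .nil)) (.node 1 (.node 0 (.node 2 .nil .nil) .nil) (.node 2 (.node 0 .nil (.node 2 .nil .nil))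 .nil))) (.node 2 (.node 0 (.node 0 .nil (.node 1 .nil (.node 2 .nil .nil))) (.node 1 (.node 1 .nil .nil) (.node 2 (.node 0 .nil (.node 1 .nil (.node 2 .nil .nil))) .nil))) .nil)) (.node 2 (.node 0 (.node 0 (.node 2 (.node 1 (.node 2 .nil .nil) .nil) .nil) (.node 1 (.node 0 (.node 0 .nil (.node 2 (.node 1 .nil .nil) .nil)) (.node 1 (.node 0 .nil .nil) (.node 2 (.node 1 .nil .nil) .nil))) (.node 2 (.node 0 (.node 1 .nil .nil) (.node 1 (.node 2 .nil .nil) .nil)) .nil))) (.node 1 (.node 1 (.node 0 .nil (.node 2 (.node 0 (.node 2 .nil .nil) .nil) .nil)) (.node 2 .nil .nil)) (.node 2 (.node 0 (.node 0 .nil (.node 1 (.node 1 .nil .nil) (.node 2 (.node 1 .nil .nil) .nil))) (.node 2 (.node 0 .nil (.node 1 .nil (.node 2 .nil .nil))) .nil)) .nil))) .nil))) (.node 2 (.node 1 (.node 0 (.node 0 (.node 1 (.node 1 .nil .nil) .nil) (.node 1 .nil (.node 2 (.node 2 (.node 0 .nil (.node 2 (.node 2 .nil .nil) .nil)) .nil) .nil)))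 (.node 1 .nil (.node 2 (.node 0 (.node 0 .nil (.node 1 (.node 1 .nil (.node 2 .nil .nil)) (.node 2 (.node 0 .nil .nil) .nil))) (.node 1 (.node 1 .nil .nil) .nil)) .nil))) .nil) .nil))) (.node 1 (.node 0 (.node 0 (.node 0 (.node 0 (.node 0 (.node 0 .nil (.node 1 (.node 0 .nil .nil) .nil)) (.node 1 (.node 0 .nil (.node 1 .nil .nil)) (.node 2 .nil .nil))) (.node 1 (.node 0 (.node 0 .nil (.node 1 .nil (.node 2 .nil .nil))) .nil) (.node 2 (.node 0 .nil (.node 1 (.node 0 .nil (.node 1 .nil .nil)) (.node 2 .nil .nil))) .nil))) (.node 2 (.node 0 (.node 0 (.node 1 .nil .nil) (.node 1 .nil (.node 2 .nil .nil))) (.node 1 (.node 1 .nil .nil) (.node 2 (.node 0 .nil (.node 2 (.node 1 .nil .nil) .nil)) .nil))) .nil)) (.node 1 (.node 0 (.node 1 (.node 1 (.node 0 .nil (.node 2 .nil .nil)) .nil) (.node 2 .nil .nil)) (.node 1 .nil (.node 2 (.node 0 .nil (.node 1 (.node 0 (.node 0 (.node 1 .nil .nil) (.node 1 .nil (.node 2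 .nil .nil))) (.node 2 (.node 0 .nil .nil) .nil)) (.node 2 (.node 1 (.node 1 .nil .nil) .nil) .nil))) .nil))) (.node 2 (.node 1 (.node 0 (.node 0 .nil .nil) (.node 1 (.node 0 .nil .nil) (.node 2 (.node 0 .nil (.node 1 .nil (.node 2 (.node 1 .nil .nil) .nil))) .nil))) (.node 2 (.node 0 (.node 2 .nil .nil) (.node 1 (.node 0 .nil (.node 1 .nil (.node 2 (.node 0 .nil (.node 1 .nil (.node 2 .nil .nil))) .nil))) .nil)) .nil)) .nil))) (.node 1 (.node 0 (.node 0 (.node 0 (.node 1 (.node 0 .nil (.node 2 .nil .nil)) .nil) (.node 1 (.node 1 .nil (.node 2 (.node 0 (.node 1 .nil .nil) .nil) .nil)) (.node 2 (.node 1 .nil .nil) .nil))) (.node 1 (.node 0 .nil (.node 1 (.node 2 (.node 1 .nil .nil) .nil) (.node 2 (.node 0 .nil (.node 1 .nil (.node 2 (.node 1 .nil .nil) .nil))) .nil))) (.node 2 (.node 0 .nil (.node 1 (.node 0 .nil (.node 1 .nil .nil)) (.node 2 (.node 1 (.node 1 .nil (.node 2 .nil .nil)) .nil) .nil))) .nil)))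 (.node 2 (.node 0 (.node 0 (.node 1 .nil .nil) (.node 1 (.node 0 (.node 0 .nil (.node 1 .nil (.node 2 .nil .nil))) (.node 2 .nil .nil)) (.node 2 (.node 1 (.node 0 .nil (.node 1 .nil (.node 2 (.node 2 .nil .nil) .nil))) .nil) .nil))) (.node 1 .nil (.node 2 (.node 0 .nil (.node 1 (.node 0 (.node 0 (.node 1 .nil .nil) (.node 2 .nil .nil)) (.node 1 .nil .nil)) (.node 2 (.node 1 (.node 0 .nil (.node 1 .nil (.node 2 .nil .nil))) .nil) .nil))) .nil))) .nil)) (.node 2 (.node 0 (.node 0 (.node 0 (.node 1 (.node 0 .nil (.node 1 (.node 2 .nil .nil) (.node 2 .nil .nil))) .nil) (.node 1 (.node 1 .nil .nil) (.node 2 (.node 1 (.node 2 (.node 1 .nil .nil) .nil) .nil) .nil))) (.node 1 (.node 0 (.node 0 .nil (.node 2 (.node 0 .nil .nil) .nil)) (.node 1 .nil (.node 2 (.node 0 (.node 0 (.node 1 .nil .nil) (.node 2 .nil .nil)) (.node 2 .nil .nil)) .nil))) (.node 2 (.node 1 (.node 0 (.node 0 .nil .nil) (.node 1 (.node 0 .nil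 (.node 2 .nil .nil)) (.node 2 .nil .nil))) (.node 2 (.node 1 .nil .nil) .nil)) .nil))) (.node 1 (.node 0 (.node 1 (.node 1 .nil .nil) .nil) (.node 1 (.node 0 (.node 0 .nil .nil) (.node 2 (.node 0 .nil (.node 1 (.node 0 .nil (.node 1 .nil .nil)) (.node 2 .nil .nil))) .nil)) (.node 2 (.node 1 (.node 1 .nil .nil) .nil) .nil))) (.node 2 (.node 0 (.node 0 (.node 1 .nil .nil) (.node 1 (.node 0 (.node 0 .nil (.node 1 .nil (.node 2 .nil .nil))) (.node 1 (.node 0 .nil .nil) (.node 2 .nil .nil))) (.node 2 (.node 1 (.node 2 .nil .nil) .nil) .nil))) (.node 2 (.node 0 .nil (.node 1 (.node 0 (.node 0 .nil (.node 1 (.node 1 .nil .nil) .nil)) (.node 1 .nil .nil)) (.node 2 .nil .nil))) .nil)) .nil))) .nil))) .nil)) (.node 1 (.node 0 (.node 0 (.node 1 (.node 0 (.node 0 (.node 0 (.node 1 .nil (.node 2 .nil .nil)) (.node 1 .nil .nil)) (.node 1 .nil (.node 2 (.node 1 (.node 0 (.node 0 .nil .nil) (.node 1 .nil (.node 2 .nil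 .nil))) (.node 2 (.node 1 .nil .nil) .nil)) .nil))) (.node 1 (.node 0 (.node 2 .nil .nil) .nil) (.node 2 (.node 0 (.node 0 (.node 0 .nil (.node 2 .nil .nil)) (.node 1 .nil (.node 2 .nil .nil))) (.node 1 (.node 0 (.node 0 .nil (.node 2 .nil .nil)) (.node 1 (.node 0 (.node 1 .nil .nil) .nil) .nil)) (.node 2 (.node 0 .nil (.node 1 (.node 1 .nil .nil) (.node 2 .nil .nil))) .nil))) .nil))) (.node 2 (.node 0 (.node 1 (.node 0 (.node 2 .nil .nil) (.node 1 .nil (.node 2 (.node 1 .nil .nil) .nil))) (.node 2 (.node 1 .nil .nil) .nil)) (.node 1 (.node 0 (.node 0 .nil (.node 1 .nil (.node 2 .nil .nil))) (.node 2 (.node 0 (.node 1 .nil .nil) (.node 2 .nil .nil)) .nil)) (.node 2 (.node 1 (.node 1 .nil .nil) (.node 2 (.node 1 (.node 0 .nil (.node 2 .nil .nil)) .nil) .nil)) .nil))) .nil)) (.node 1 (.node 0 (.node 0 (.node 0 .nil (.node 1 (.node 0 .nil (.node 2 .nil .nil)) (.node 2 (.node 1 .nil .nil) .nil))) (.node 1 (.node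 0 (.node 1 (.node 1 .nil .nil) (.node 2 .nil .nil)) (.node 1 (.node 2 (.node 0 (.node 1 .nil .nil) .nil) .nil) .nil)) (.node 2 (.node 0 (.node 1 (.node 2 .nil .nil) .nil) (.node 1 (.node 0 .nil (.node 1 .nil .nil)) .nil)) .nil))) (.node 1 (.node 2 (.node 0 (.node 0 (.node 1 .nil (.node 2 .nil .nil)) (.node 1 .nil (.node 2 .nil .nil))) (.node 1 .nil (.node 2 (.node 0 (.node 0 .nil .nil) (.node 2 .nil .nil)) .nil))) .nil) (.node 2 (.node 0 (.node 0 (.node 1 .nil .nil) (.node 2 (.node 1 .nil .nil) .nil)) (.node 1 (.node 0 (.node 0 .nil .nil) (.node 2 (.node 0 (.node 1 .nil .nil) (.node 1 (.node 1 .nil .nil) (.node 2 .nil .nil))) .nil)) (.node 2 (.node 0 .nil (.node 1 .nil .nil)) .nil))) .nil))) (.node 2 (.node 1 (.node 0 (.node 2 (.node 1 .nil .nil) .nil) (.node 1 (.node 0 (.node 0 (.node 1 .nil .nil) (.node 1 (.node 1 .nil (.node 2 .nil .nil)) .nil)) (.node 2 (.node 0 .nil (.node 1 (.node 0 (.node 2 .nil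 .nil) (.node 2 (.node 0 .nil .nil) .nil)) .nil)) .nil)) (.node 2 (.node 1 .nil .nil) .nil))) (.node 2 (.node 0 (.node 0 (.node 1 .nil .nil) (.node 1 (.node 0 (.node 0 .nil (.node 2 (.node 2 .nil .nil) .nil)) (.node 1 .nil .nil)) (.node 2 .nil .nil))) (.node 1 (.node 1 .nil .nil) (.node 2 (.node 0 (.node 1 .nil .nil) (.node 2 (.node 1 (.node 0 (.node 0 .nil .nil) .nil) .nil) .nil)) .nil))) .nil)) .nil))) (.node 1 (.node 0 (.node 0 (.node 0 (.node 0 (.node 0 (.node 0 .nil .nil) (.node 1 (.node 1 .nil (.node 2 .nil .nil)) .nil)) (.node 1 (.node 1 (.node 0 .nil .nil) .nil) (.node 2 (.node 1 (.node 1 .nil .nil) .nil) .nil))) (.node 1 (.node 0 (.node 1 (.node 0 .nil (.node 2 (.node 0 .nil .nil) .nil)) (.node 2 .nil .nil)) (.node 1 (.node 2 .nil .nil) (.node 2 (.node 0 (.node 0 .nil .nil) (.node 1 .nil (.node 2 (.node 2 (.node 1 .nil .nil) .nil) .nil))) .nil))) (.node 2 (.node 0 (.node 1 (.node 1 .nil .nil) .nil)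 (.node 1 (.node 1 .nil (.node 2 (.node 0 (.node 0 .nil .nil) (.node 2 .nil .nil)) .nil)) (.node 2 (.node 0 (.node 1 .nil (.node 2 .nil .nil)) (.node 1 .nil (.node 2 (.node 0 .nil (.node 2 .nil .nil)) .nil))) .nil))) .nil))) (.node 1 (.node 0 (.node 0 (.node 0 .nil (.node 2 (.node 0 .nil .nil) .nil)) (.node 1 (.node 1 (.node 0 .nil (.node 2 .nil .nil)) .nil) (.node 2 (.node 0 (.node 0 .nil (.node 2 .nil .nil)) (.node 2 (.node 0 .nil .nil) .nil)) .nil))) (.node 1 (.node 0 (.node 0 .nil (.node 2 (.node 0 .nil .nil) .nil)) (.node 2 (.node 0 .nil (.node 1 (.node 0 .nil (.node 2 .nil .nil)) (.node 2 (.node 1 .nil .nil) .nil))) .nil)) (.node 2 (.node 1 (.node 0 (.node 1 .nil .nil) (.node 1 .nil (.node 2 .nil .nil))) (.node 2 (.node 0 (.node 2 .nil .nil) (.node 2 (.node 0 .nil .nil) .nil)) .nil)) .nil))) (.node 2 (.node 0 (.node 0 (.node 1 (.node 0 .nil (.node 1 .nil .nil)) .nil) (.node 1 .nil (.node 2 (.node 0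 (.node 1 .nil .nil) (.node 1 .nil (.node 2 .nil .nil))) .nil))) (.node 1 (.node 0 (.node 0 .nil (.node 1 .nil (.node 2 .nil .nil))) (.node 1 (.node 0 .nil (.node 2 .nil .nil)) (.node 2 .nil .nil))) (.node 2 (.node 0 (.node 1 .nil (.node 2 .nil .nil)) (.node 2 (.node 0 .nil (.node 2 .nil .nil)) .nil)) .nil))) .nil))) (.node 2 (.node 0 (.node 0 (.node 0 .nil (.node 1 (.node 0 .nil (.node 1 .nil (.node 2 (.node 1 .nil .nil) .nil))) (.node 2 (.node 1 .nil .nil) .nil))) (.node 1 (.node 0 (.node 0 .nil (.node 1 (.node 1 .nil .nil) (.node 2 .nil .nil))) (.node 1 (.node 0 (.node 1 .nil .nil) (.node 2 .nil .nil)) .nil)) (.node 2 (.node 0 (.node 1 .nil .nil) (.node 1 (.node 1 .nil (.node 2 .nil .nil)) (.node 2 .nil .nil))) .nil))) (.node 1 (.node 0 (.node 0 (.node 2 (.node 1 .nil (.node 2 .nil .nil)) .nil) (.node 1 (.node 0 (.node 0 .nil .nil) (.node 1 (.node 0 .nil .nil) (.node 2 (.node 0 .nil (.node 2 .nil .nil))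 .nil))) (.node 2 (.node 0 (.node 0 .nil (.node 2 .nil .nil)) (.node 1 .nil (.node 2 (.node 2 .nil .nil) .nil))) .nil))) (.node 1 (.node 0 (.node 0 (.node 1 .nil .nil) (.node 2 (.node 1 .nil .nil) .nil)) (.node 2 (.node 0 .nil (.node 1 .nil (.node 2 .nil .nil))) .nil)) (.node 2 (.node 0 (.node 2 (.node 2 .nil .nil) .nil) (.node 2 (.node 0 .nil (.node 1 (.node 2 .nil .nil) .nil)) .nil)) .nil))) (.node 2 (.node 0 (.node 1 (.node 0 (.node 0 .nil (.node 1 .nil .nil)) (.node 1 .nil (.node 2 (.node 1 .nil (.node 2 (.node 1 .nil .nil) .nil)) .nil))) (.node 2 (.node 1 (.node 2 .nil .nil) .nil) .nil)) (.node 1 (.node 0 (.node 1 .nil .nil) (.node 1 (.node 2 .nil .nil) (.node 2 (.node 0 .nil (.node 2 .nil .nil)) .nil))) (.node 2 (.node 0 .nil (.node 1 (.node 0 (.node 1 .nil (.node 2 .nil .nil)) (.node 2 (.node 2 .nil .nil) .nil)) .nil)) .nil))) .nil))) .nil)) (.node 2 (.node 0 (.node 0 (.node 0 (.node 1 (.node 1 (.node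 0 .nil .nil) .nil) .nil) (.node 1 (.node 0 (.node 0 .nil (.node 1 .nil (.node 2 .nil .nil))) (.node 2 (.node 0 .nil .nil) .nil)) (.node 2 .nil .nil))) (.node 1 (.node 0 (.node 0 (.node 2 (.node 0 .nil (.node 1 .nil (.node 2 .nil .nil))) .nil) (.node 1 (.node 0 .nil (.node 1 .nil (.node 2 .nil .nil))) (.node 2 (.node 0 (.node 1 .nil .nil) .nil) .nil))) (.node 1 (.node 0 (.node 0 .nil (.node 1 .nil (.node 2 (.node 1 .nil .nil) .nil))) (.node 2 .nil .nil)) (.node 2 (.node 0 (.node 1 .nil .nil) (.node 1 (.node 1 .nil .nil) (.node 2 .nil .nil))) .nil))) (.node 2 (.node 0 (.node 1 .nil .nil) (.node 1 (.node 0 (.node 2 .nil .nil) (.node 2 (.node 1 .nil (.node 2 .nil .nil)) .nil)) (.node 2 (.node 1 (.node 0 .nil (.node 1 (.node 2 .nil .nil) (.node 2 .nil .nil))) .nil) .nil))) .nil))) (.node 1 (.node 0 (.node 0 (.node 0 (.node 0 (.node 1 .nil .nil) (.node 2 .nil .nil)) (.node 1 (.node 0 (.node 0 .nil .nil) .nil)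 (.node 2 (.node 0 (.node 0 .nil .nil) (.node 2 (.node 2 .nil .nil) .nil)) .nil))) (.node 1 (.node 0 (.node 2 .nil .nil) (.node 1 (.node 0 (.node 0 .nil (.node 2 .nil .nil)) .nil) (.node 2 (.node 0 .nil (.node 1 (.node 0 .nil .nil) .nil)) .nil))) (.node 2 (.node 0 (.node 0 (.node 1 .nil .nil) .nil) (.node 1 (.node 0 .nil (.node 1 .nil .nil)) (.node 2 (.node 1 (.node 0 .nil (.node 2 .nil .nil)) (.node 2 (.node 1 .nil .nil) .nil)) .nil))) .nil))) (.node 1 (.node 0 (.node 1 (.node 1 .nil .nil) (.node 2 .nil .nil)) (.node 2 (.node 0 (.node 1 .nil .nil) (.node 1 (.node 1 (.node 0 .nil .nil) (.node 2 .nil .nil)) .nil)) .nil)) (.node 2 (.node 0 (.node 0 (.node 1 .nil .nil) (.node 1 (.node 1 (.node 0 .nil .nil) (.node 2 (.node 0 .nil (.node 2 .nil .nil)) .nil)) .nil)) (.node 2 (.node 0 .nil (.node 1 (.node 0 (.node 0 .nil .nil) .nil) (.node 2 (.node 0 .nil (.node 1 .nil (.node 2 .nil .nil))) .nil))) .nil)) .nil)))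 (.node 2 (.node 1 (.node 0 (.node 1 .nil (.node 2 (.node 0 .nil (.node 1 (.node 0 .nil (.node 2 .nil .nil)) (.node 2 .nil .nil))) .nil)) (.node 1 (.node 0 (.node 1 .nil .nil) (.node 2 .nil .nil)) (.node 2 (.node 0 (.node 0 .nil (.node 2 .nil .nil)) (.node 1 (.node 0 (.node 0 .nil (.node 2 .nil .nil)) (.node 1 .nil .nil)) (.node 2 (.node 0 .nil (.node 1 .nil (.node 2 (.node 0 .nil .nil) .nil))) .nil))) .nil))) (.node 2 (.node 0 (.node 1 .nil .nil) (.node 1 (.node 0 (.node 1 .nil .nil) (.node 1 .nil (.node 2 (.node 1 .nil .nil) .nil))) (.node 2 (.node 1 (.node 0 .nil (.node 1 .nil (.node 2 (.node 2 .nil .nil) .nil))) .nil) .nil))) .nil)) .nil))) .nil))) (.node 2 (.node 0 (.node 0 (.node 0 (.node 1 (.node 0 .nil (.node 1 .nil (.node 2 (.node 1 .nil .nil) .nil))) .nil) (.node 1 (.node 0 (.node 0 (.node 1 (.node 0 .nil .nil) .nil) (.node 1 (.node 0 .nil (.node 1 (.node 0 (.node 2 .nil .nil) (.node 2 .nil .nil))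 .nil)) (.node 2 (.node 2 .nil .nil) .nil))) (.node 1 (.node 0 (.node 0 .nil (.node 2 (.node 1 .nil .nil) .nil)) (.node 2 .nil .nil)) (.node 2 (.node 0 (.node 0 .nil (.node 2 .nil .nil)) (.node 1 .nil (.node 2 (.node 0 .nil (.node 1 .nil (.node 2 (.node 1 .nil .nil) .nil))) .nil))) .nil))) (.node 2 (.node 1 (.node 0 (.node 0 .nil (.node 2 (.node 2 .nil .nil) .nil)) (.node 1 (.node 0 (.node 0 (.node 1 .nil .nil) (.node 1 .nil (.node 2 .nil .nil))) .nil) (.node 2 (.node 1 .nil .nil) .nil))) .nil) .nil))) (.node 1 (.node 0 (.node 0 (.node 1 (.node 1 (.node 2 .nil .nil) .nil) .nil) (.node 1 (.node 0 .nil (.node 2 (.node 0 .nil (.node 1 .nil (.node 2 .nil .nil))) .nil)) (.node 2 (.node 1 (.node 0 (.node 0 .nil .nil) (.node 2 (.node 0 .nil (.node 2 .nil .nil)) .nil)) (.node 2 (.node 0 .nil (.node 2 .nil .nil)) .nil)) .nil))) (.node 1 (.node 0 (.node 0 (.node 1 (.node 0 (.node 2 .nil .nil) .nil) .nil) (.node 1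 (.node 0 .nil (.node 2 (.node 1 .nil .nil) .nil)) .nil)) (.node 2 (.node 1 (.node 0 .nil (.node 2 .nil .nil)) .nil) .nil)) (.node 2 (.node 0 (.node 0 (.node 1 (.node 0 .nil .nil) (.node 2 .nil .nil)) (.node 1 (.node 0 (.node 0 .nil .nil) (.node 1 .nil (.node 2 .nil .nil))) (.node 2 (.node 0 (.node 1 .nil .nil) (.node 1 (.node 2 (.node 2 .nil .nil) .nil) .nil)) .nil))) (.node 1 (.node 1 (.node 0 .nil (.node 2 .nil .nil)) (.node 2 (.node 2 .nil .nil) .nil)) (.node 2 (.node 0 (.node 1 (.node 0 .nil (.node 1 .nil (.node 2 .nil .nil))) .nil) (.node 1 .nil (.node 2 (.node 0 .nil .nil) .nil))) .nil))) .nil))) (.node 2 (.node 0 (.node 1 (.node 0 (.node 1 (.node 1 .nil (.node 2 .nil .nil)) .nil) (.node 1 .nil (.node 2 .nil .nil))) .nil) (.node 1 (.node 0 (.node 0 (.node 0 .nil (.node 2 .nil .nil)) (.node 1 (.node 1 .nil .nil) .nil)) (.node 1 (.node 0 (.node 0 .nil (.node 1 .nil (.node 2 .nil .nil))) (.node 2 (.node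 0 .nil (.node 1 (.node 0 .nil (.node 1 .nil .nil)) .nil)) .nil)) (.node 2 (.node 0 (.node 0 .nil .nil) (.node 1 .nil (.node 2 (.node 2 (.node 1 .nil .nil) .nil) .nil))) .nil))) (.node 2 (.node 1 (.node 0 (.node 2 (.node 2 .nil .nil) .nil) (.node 2 (.node 0 .nil (.node 1 .nil .nil)) .nil)) .nil) .nil))) .nil))) (.node 1 (.node 0 (.node 0 (.node 0 (.node 0 (.node 0 (.node 1 .nil (.node 2 .nil .nil)) (.node 2 .nil .nil)) (.node 1 (.node 1 .nil .nil) (.node 2 (.node 0 .nil (.node 1 .nil (.node 2 .nil .nil))) .nil))) (.node 1 (.node 0 (.node 0 .nil (.node 2 .nil .nil)) (.node 1 (.node 0 .nil .nil) (.node 2 (.node 0 .nil (.node 1 .nil (.node 2 (.node 2 .nil .nil) .nil))) .nil))) (.node 2 (.node 0 (.node 0 .nil .nil) (.node 1 (.node 1 .nil .nil) (.node 2 (.node 2 .nil .nil) .nil))) .nil))) (.node 1 (.node 0 (.node 0 (.node 0 .nil (.node 1 .nil .nil)) (.node 1 (.node 0 .nil (.node 2 .nil .nil)) (.node 2 .nil .nil)))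 (.node 1 .nil (.node 2 (.node 0 (.node 1 .nil .nil) (.node 1 (.node 0 (.node 0 .nil (.node 2 .nil .nil)) .nil) (.node 2 (.node 0 .nil .nil) .nil))) .nil))) (.node 2 (.node 1 (.node 0 (.node 0 .nil (.node 1 .nil (.node 2 .nil .nil))) (.node 1 (.node 2 (.node 1 .nil .nil) .nil) (.node 2 (.node 1 .nil (.node 2 .nil .nil)) .nil))) (.node 2 (.node 0 (.node 2 (.node 1 .nil .nil) .nil) (.node 1 .nil (.node 2 (.node 1 (.node 1 .nil .nil) .nil) .nil))) .nil)) .nil))) (.node 1 (.node 0 (.node 0 (.node 0 (.node 0 .nil (.node 2 .nil .nil)) (.node 1 (.node 0 .nil (.node 2 .nil .nil)) (.node 2 (.node 0 .nil (.node 1 (.node 2 .nil .nil) .nil)) .nil))) (.node 1 (.node 0 (.node 2 .nil .nil) (.node 1 .nil .nil)) .nil)) (.node 2 (.node 0 (.node 0 (.node 0 (.node 1 .nil .nil) .nil) (.node 1 .nil (.node 2 .nil .nil))) (.node 1 (.node 0 (.node 0 .nil .nil) .nil) (.node 2 (.node 0 (.node 0 .nil .nil) (.node 1 .nil (.node 2 (.node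 2 .nil .nil) .nil))) .nil))) .nil)) (.node 2 (.node 0 (.node 0 (.node 1 .nil .nil) (.node 1 (.node 0 .nil (.node 1 (.node 0 .nil (.node 2 .nil .nil)) (.node 2 (.node 1 .nil .nil) .nil))) (.node 2 (.node 1 (.node 2 .nil .nil) (.node 2 .nil .nil)) .nil))) (.node 1 (.node 1 (.node 0 (.node 1 (.node 1 .nil .nil) .nil) (.node 2 (.node 1 (.node 2 .nil .nil) .nil) .nil)) (.node 2 (.node 0 .nil (.node 1 .nil (.node 2 (.node 1 .nil .nil) .nil))) .nil)) (.node 2 (.node 0 (.node 0 .nil (.node 1 (.node 2 .nil .nil) (.node 2 (.node 1 .nil .nil) .nil))) (.node 1 (.node 1 .nil .nil) (.node 2 (.node 0 .nil (.node 2 .nil .nil)) .nil))) .nil))) .nil))) (.node 2 (.node 0 (.node 1 (.node 0 (.node 0 (.node 0 (.node 1 .nil .nil) (.node 2 .nil .nil)) (.node 2 (.node 1 (.node 1 .nil .nil) (.node 2 .nil .nil)) .nil)) (.node 1 (.node 0 (.node 1 (.node 1 .nil .nil) .nil) (.node 2 (.node 1 .nil .nil) .nil)) (.node 2 (.node 0 (.node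 0 .nil (.node 1 .nil (.node 2 (.node 2 .nil .nil) .nil))) (.node 2 (.node 1 .nil .nil) .nil)) .nil))) .nil) (.node 1 (.node 0 (.node 0 (.node 0 (.node 0 (.node 1 .nil .nil) .nil) (.node 2 (.node 0 .nil (.node 2 (.node 1 .nil .nil) .nil)) .nil)) (.node 1 (.node 0 .nil (.node 1 .nil .nil)) (.node 2 (.node 2 (.node 0 .nil .nil) .nil) .nil))) (.node 1 (.node 0 (.node 0 (.node 0 .nil (.node 1 (.node 2 .nil .nil) (.node 2 .nil .nil))) .nil) (.node 2 (.node 1 (.node 0 .nil (.node 1 (.node 2 .nil .nil) (.node 2 .nil .nil))) .nil) .nil)) (.node 2 .nil .nil))) (.node 2 (.node 1 (.node 0 (.node 0 .nil (.node 1 (.node 1 .nil .nil) (.node 2 (.node 1 .nil .nil) .nil))) (.node 1 (.node 0 (.node 0 .nil (.node 2 (.node 2 .nil .nil) .nil)) (.node 2 (.node 1 .nil .nil) .nil)) (.node 2 (.node 0 (.node 1 .nil .nil) (.node 1 (.node 0 .nil (.node 1 .nil (.node 2 .nil .nil))) (.node 2 (.node 0 .nil .nil) .nil))) .nil))) .nil)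 .nil))) .nil))) .nil)))

/-- Orbits. -/
def partsTriSex : List Part := [(treeTriSex0, [29, 5250, 346112, 663616, 5275680, 10486528], 96, 7), (treeTriSex1, [15, 5264, 622848, 3416064, 4196928, 8536096], 64, 84), (treeTriSex2, [293, 51712, 200720, 262344, 6292482, 9969664], 48, 336), (treeTriSex3, [39, 45120, 786960, 1116288, 6292736, 8536072], 44, 1344)]

/-- Root structure. -/
def rootDod : List ℕ := [340831, 16436384]

/-- Generators of its stabilizer. -/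
def gensDod : List ℕ := [395157207493241613883316430314001102, 879595148503196575153613213167296589, 317444717501153744833158990516472108]

set_option maxRecDepth 20000 in
/-- Orbit forest. -/
def treeDodSex0 : OrbTree := (.node 0 (.node 0 (.node 0 (.node 0 (.node 0 (.node 0 (.node 1 .nil (.node 2 .nil .nil)) .nil) (.node 1 (.node 0 .nil (.node 1 .nil (.node 2 .nil .nil))) .nil)) (.node 1 (.node 0 (.node 0 (.node 0 .nil (.node 1 .nil .nil)) (.node 1 (.node 1 .nil (.node 2 .nil .nil)) (.node 2 (.node 2 .nil .nil) .nil))) (.node 1 .nil (.node 2 (.node 0 .nil (.node 1 (.node 1 (.node 0 .nil .nil) .nil) .nil)) .nil))) (.node 2 (.node 0 (.node 0 .nil .nil) (.node 1 (.node 0 (.node 2 .nil .nil) .nil) (.node 2 (.node 0 .nil .nil) .nil))) .nil))) (.node 1 (.node 0 (.node 0 (.node 0 .nil (.node 2 .nil .nil)) (.node 1 (.node 0 .nil (.node 1 (.node 2 .nil .nil) (.node 2 (.node 2 .nil .nil) .nil))) (.node 2 (.node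 1 (.node 1 .nil .nil) (.node 2 .nil .nil)) .nil))) (.node 1 (.node 1 (.node 0 (.node 0 .nil (.node 1 .nil .nil)) (.node 1 .nil .nil)) (.node 2 (.node 1 .nil (.node 2 .nil .nil)) .nil)) (.node 2 (.node 0 (.node 1 .nil (.node 2 .nil .nil)) (.node 1 .nil (.node 2 (.node 2 .nil .nil) .nil))) .nil))) (.node 2 (.node 0 (.node 0 (.node 0 .nil .nil) (.node 1 (.node 1 .nil .nil) (.node 2 (.node 0 .nil (.node 1 (.node 1 .nil .nil) (.node 2 (.node 1 .nil .nil) .nil))) .nil))) (.node 1 (.node 0 (.node 0 .nil (.node 1 (.node 2 .nil .nil) (.node 2 .nil .nil))) (.node 1 (.node 0 .nil .nil) (.node 2 (.node 0 .nil .nil) .nil))) (.node 2 (.node 0 (.node 0 .nil .nil) (.node 1 (.node 1 .nil (.node 2 (.node 0 .nil .nil) .nil)) .nil)) .nil))) .nil))) (.node 1 (.node 0 (.node 0 (.node 0 (.node 0 .nil (.node 2 .nil .nil)) (.node 2 .nil .nil)) (.node 1 (.node 0 (.node 1 .nil (.node 2 (.node 1 .nil .nil) .nil)) (.node 1 (.node 0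 .nil .nil) (.node 2 (.node 2 (.node 0 .nil .nil) .nil) .nil))) (.node 2 (.node 0 (.node 0 .nil .nil) (.node 1 (.node 2 .nil .nil) .nil)) .nil))) (.node 1 (.node 0 (.node 0 (.node 0 .nil (.node 1 .nil (.node 2 (.node 0 .nil .nil) .nil))) (.node 1 .nil (.node 2 (.node 0 .nil (.node 1 .nil .nil)) .nil))) (.node 1 (.node 0 (.node 0 .nil .nil) (.node 1 .nil (.node 2 (.node 0 (.node 0 .nil .nil) .nil) .nil))) (.node 2 (.node 1 .nil (.node 2 (.node 0 .nil .nil) .nil)) .nil))) (.node 2 (.node 0 (.node 0 (.node 1 .nil .nil) (.node 1 (.node 2 (.node 2 .nil .nil) .nil) (.node 2 (.node 1 (.node 2 .nil .nil) .nil) .nil))) (.node 1 (.node 0 .nil (.node 1 .nil (.node 2 (.node 2 .nil .nil) .nil))) (.node 2 (.node 0 (.node 1 .nil .nil) (.node 2 (.node 0 .nil (.node 2 .nil .nil)) .nil)) .nil))) .nil))) (.node 2 (.node 0 (.node 0 (.node 0 (.node 1 .nil (.node 2 .nil .nil)) (.node 1 (.node 0 .nil (.node 1 .nil .nil)) (.node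 2 (.node 0 .nil (.node 1 .nil (.node 2 .nil .nil))) .nil))) (.node 1 (.node 0 .nil (.node 1 (.node 0 (.node 1 .nil .nil) .nil) .nil)) (.node 2 (.node 0 .nil (.node 1 .nil (.node 2 .nil .nil))) .nil))) (.node 1 (.node 0 (.node 0 (.node 2 .nil .nil) (.node 1 .nil (.node 2 .nil .nil))) (.node 1 (.node 0 (.node 0 .nil (.node 1 .nil .nil)) (.node 1 .nil (.node 2 (.node 1 .nil (.node 2 .nil .nil)) .nil))) (.node 2 (.node 2 (.node 0 .nil (.node 2 .nil .nil)) .nil) .nil))) (.node 2 (.node 0 (.node 0 (.node 2 .nil .nil) (.node 1 (.node 0 (.node 1 .nil .nil) .nil) (.node 2 (.node 0 .nil .nil) .nil))) (.node 1 (.node 0 (.node 2 .nil .nil) (.node 2 (.node 2 .nil .nil) .nil)) (.node 2 (.node 0 .nil (.node 1 (.node 0 .nil .nil) (.node 2 (.node 1 .nil .nil) .nil))) .nil))) .nil))) .nil))) (.node 1 (.node 0 (.node 0 (.node 0 (.node 0 .nil (.node 1 (.node 0 .nil (.node 1 .nil (.node 2 .nil .nil))) (.node 2 (.node 0 .nil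 .nil) .nil))) (.node 1 (.node 0 (.node 0 .nil (.node 1 .nil .nil)) (.node 1 (.node 0 .nil .nil) .nil)) (.node 2 (.node 0 (.node 2 .nil .nil) (.node 1 (.node 1 .nil .nil) (.node 2 (.node 0 (.node 1 .nil .nil) .nil) .nil))) .nil))) (.node 1 (.node 0 (.node 1 (.node 1 .nil .nil) (.node 2 (.node 0 .nil .nil) .nil)) (.node 1 (.node 1 (.node 2 .nil .nil) (.node 2 (.node 1 .nil .nil) .nil)) (.node 2 (.node 0 .nil (.node 1 .nil (.node 2 .nil .nil))) .nil))) (.node 2 (.node 0 (.node 0 (.node 2 .nil .nil) (.node 1 (.node 0 .nil .nil) .nil)) (.node 2 (.node 0 .nil (.node 1 (.node 2 .nil .nil) (.node 2 (.node 1 .nil (.node 2 .nil .nil)) .nil))) .nil)) .nil))) (.node 1 (.node 0 (.node 0 (.node 2 (.node 2 .nil .nil) .nil) (.node 1 .nil .nil)) (.node 1 (.node 1 (.node 1 .nil (.node 2 (.node 1 .nil (.node 2 .nil .nil)) .nil)) (.node 2 (.node 1 .nil (.node 2 .nil .nil)) .nil)) (.node 2 (.node 1 (.node 1 (.node 0 .nil (.node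 1 .nil (.node 2 .nil .nil))) (.node 2 (.node 0 .nil .nil) .nil)) (.node 2 (.node 0 .nil (.node 1 .nil (.node 2 (.node 0 .nil .nil) .nil))) .nil)) .nil))) .nil)) (.node 2 (.node 0 (.node 0 (.node 0 (.node 0 (.node 0 (.node 0 .nil .nil) (.node 2 .nil .nil)) (.node 2 .nil .nil)) (.node 2 (.node 1 .nil (.node 2 (.node 1 .nil (.node 2 .nil .nil)) .nil)) .nil)) (.node 1 (.node 0 (.node 2 (.node 1 .nil .nil) .nil) (.node 1 (.node 0 (.node 1 .nil (.node 2 .nil .nil)) (.node 1 (.node 0 .nil .nil) (.node 2 (.node 0 .nil .nil) .nil))) (.node 2 (.node 0 (.node 1 .nil .nil) (.node 2 (.node 1 .nil (.node 2 .nil .nil)) .nil)) .nil))) (.node 2 (.node 0 (.node 0 .nil (.node 1 .nil (.node 2 (.node 2 .nil .nil) .nil))) (.node 1 (.node 0 (.node 0 .nil .nil) (.node 1 (.node 0 .nil .nil) (.node 2 .nil .nil))) .nil)) .nil))) (.node 1 (.node 0 (.node 1 (.node 0 (.node 0 .nil (.node 2 .nil .nil)) .nil) (.node 2 (.node 1 .nil (.node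 2 (.node 2 .nil .nil) .nil)) .nil)) (.node 1 (.node 0 (.node 0 .nil (.node 2 .nil .nil)) (.node 1 (.node 0 (.node 0 .nil .nil) (.node 1 (.node 2 .nil .nil) (.node 2 .nil .nil))) .nil)) (.node 2 (.node 0 (.node 0 .nil (.node 1 .nil .nil)) (.node 1 (.node 1 (.node 1 .nil .nil) .nil) (.node 2 (.node 1 .nil (.node 2 .nil .nil)) .nil))) .nil))) (.node 2 (.node 0 (.node 0 (.node 0 .nil (.node 1 (.node 0 .nil .nil) .nil)) (.node 1 .nil (.node 2 (.node 0 .nil (.node 1 (.node 0 .nil .nil) (.node 2 .nil .nil))) .nil))) (.node 1 (.node 0 .nil (.node 1 (.node 1 (.node 0 .nil .nil) .nil) (.node 2 (.node 0 .nil .nil) .nil))) .nil)) .nil))) .nil)))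

set_option maxRecDepth 20000 in
/-- Orbit forest. -/
def treeDodSex1 : OrbTree := (.node 0 (.node 0 (.node 0 (.node 0 (.node 0 (.node 0 .nil (.node 1 .nil (.node 2 (.node 1 .nil (.node 2 .nil .nil)) .nil))) (.node 1 (.node 0 (.node 0 .nil .nil) (.node 2 .nil .nil)) (.node 2 (.node 1 (.node 1 .nil .nil) (.node 2 (.node 2 .nil .nil) .nil)) .nil))) (.node 1 (.node 1 (.node 0 .nil (.node 1 .nil (.node 2 .nil .nil))) (.node 2 (.node 0 .nil (.node 2 (.node 1 .nil .nil) .nil)) .nil)) (.node 2 (.node 0 (.node 0 .nil (.node 1 .nil .nil)) (.node 1 (.node 2 (.node 0 .nil (.node 2 .nil .nil)) .nil) (.node 2 (.node 1 (.node 2 .nil .nil) .nil) .nil))) .nil))) (.node 1 (.node 1 (.node 0 (.node 0 (.node 2 .nil .nil) (.node 1 .nil (.node 2 .nil .nil))) (.node 1 .nil (.node 2 (.node 2 .nil .nil) .nil))) (.node 2 (.node 0 (.node 0 (.node 1 .nil (.node 2 .nil .nil)) (.node 1 (.node 0 .nil .nil) (.node 2 (.node 1 .nil .nil)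 .nil))) (.node 1 (.node 0 (.node 2 .nil .nil) (.node 2 .nil .nil)) (.node 2 (.node 0 (.node 1 .nil (.node 2 .nil .nil)) (.node 2 .nil .nil)) .nil))) .nil)) (.node 2 (.node 0 (.node 0 (.node 0 .nil .nil) (.node 1 (.node 0 (.node 2 .nil .nil) (.node 2 .nil .nil)) (.node 2 (.node 0 (.node 2 .nil .nil) .nil) .nil))) (.node 1 (.node 0 (.node 0 .nil .nil) (.node 1 (.node 1 .nil (.node 2 (.node 1 .nil .nil) .nil)) (.node 2 (.node 0 .nil (.node 1 .nil (.node 2 .nil .nil))) .nil))) (.node 2 (.node 0 (.node 0 .nil (.node 1 .nil (.node 2 (.node 0 .nil (.node 2 .nil .nil)) .nil))) (.node 1 (.node 0 .nil .nil) (.node 2 .nil .nil))) .nil))) .nil))) (.node 1 (.node 0 (.node 0 (.node 0 (.node 1 .nil .nil) (.node 1 (.node 2 (.node 1 .nil .nil) .nil) (.node 2 (.node 0 .nil (.node 2 .nil .nil)) .nil))) (.node 1 (.node 0 (.node 2 .nil .nil) .nil) (.node 2 (.node 0 .nil (.node 1 (.node 0 .nil (.node 1 .nil (.node 2 .nil .nil)))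 (.node 2 (.node 0 (.node 0 .nil .nil) (.node 1 .nil .nil)) .nil))) .nil))) (.node 1 (.node 0 (.node 2 (.node 0 .nil .nil) .nil) (.node 1 (.node 0 (.node 0 (.node 0 .nil (.node 2 .nil .nil)) (.node 1 (.node 0 .nil (.node 2 .nil .nil)) (.node 2 (.node 1 .nil (.node 2 .nil .nil)) .nil))) (.node 1 (.node 1 (.node 0 .nil .nil) .nil) (.node 2 (.node 1 .nil (.node 2 .nil .nil)) .nil))) (.node 2 (.node 0 (.node 1 .nil .nil) (.node 1 (.node 0 .nil (.node 1 (.node 2 .nil .nil) .nil)) (.node 2 (.node 0 (.node 1 .nil .nil) (.node 1 .nil (.node 2 .nil .nil))) .nil))) .nil))) (.node 2 (.node 0 (.node 0 (.node 0 .nil .nil) (.node 1 (.node 0 .nil .nil) (.node 2 (.node 0 (.node 1 .nil .nil) .nil) .nil))) (.node 1 (.node 1 (.node 0 (.node 1 .nil .nil) .nil) (.node 2 .nil .nil)) (.node 2 (.node 0 (.node 0 .nil .nil) (.node 2 (.node 0 .nil (.node 1 .nil (.node 2 (.node 1 .nil .nil) .nil))) .nil)) .nil))) .nil))) (.node 2 (.node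 0 (.node 0 (.node 0 (.node 0 .nil (.node 2 .nil .nil)) .nil) (.node 1 (.node 0 .nil (.node 2 (.node 0 (.node 2 .nil .nil) (.node 1 .nil (.node 2 .nil .nil))) .nil)) (.node 2 (.node 0 (.node 0 .nil (.node 2 .nil .nil)) (.node 1 (.node 2 (.node 1 .nil .nil) .nil) (.node 2 (.node 0 .nil .nil) .nil))) .nil))) (.node 1 (.node 0 (.node 0 (.node 0 (.node 1 .nil .nil) (.node 1 .nil .nil)) (.node 2 .nil .nil)) (.node 1 (.node 0 (.node 2 (.node 0 .nil .nil) .nil) (.node 1 .nil (.node 2 (.node 0 .nil (.node 2 (.node 2 .nil .nil) .nil)) .nil))) (.node 2 (.node 0 (.node 1 .nil .nil) (.node 1 .nil (.node 2 (.node 0 .nil (.node 1 .nil (.node 2 (.node 2 .nil .nil) .nil))) .nil))) .nil))) (.node 2 (.node 0 (.node 0 .nil (.node 1 (.node 1 .nil .nil) (.node 2 (.node 2 (.node 1 .nil .nil) .nil) .nil))) (.node 2 (.node 1 (.node 2 .nil .nil) (.node 2 (.node 1 .nil .nil) .nil)) .nil)) .nil))) .nil))) (.node 1 (.node 0 (.node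 0 (.node 0 (.node 0 .nil (.node 1 (.node 0 (.node 1 .nil .nil) (.node 1 .nil (.node 2 .nil .nil))) .nil)) (.node 2 (.node 0 (.node 2 .nil .nil) (.node 1 (.node 0 (.node 0 .nil .nil) (.node 2 .nil .nil)) (.node 2 .nil .nil))) .nil)) (.node 1 (.node 0 (.node 0 (.node 1 .nil (.node 2 .nil .nil)) (.node 1 (.node 2 (.node 0 .nil .nil) .nil) (.node 2 (.node 0 .nil (.node 1 .nil .nil)) .nil))) (.node 1 (.node 0 (.node 1 .nil .nil) (.node 1 .nil (.node 2 .nil .nil))) (.node 2 (.node 0 (.node 1 .nil .nil) (.node 1 (.node 2 .nil .nil) (.node 2 (.node 0 .nil (.node 2 .nil .nil)) .nil))) .nil))) (.node 2 (.node 0 (.node 1 (.node 1 .nil (.node 2 .nil .nil)) (.node 2 (.node 0 .nil (.node 1 (.node 0 .nil .nil) .nil)) .nil)) (.node 1 (.node 2 (.node 1 .nil .nil) .nil) (.node 2 (.node 0 (.node 1 (.node 0 .nil .nil) (.node 2 .nil .nil)) (.node 1 (.node 0 (.node 2 .nil .nil) .nil) (.node 2 .nil .nil))) .nil))) .nil))) (.node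 1 (.node 0 (.node 0 (.node 2 (.node 1 .nil .nil) .nil) (.node 1 (.node 0 (.node 1 (.node 1 .nil .nil) (.node 2 .nil .nil)) (.node 2 (.node 0 .nil (.node 2 (.node 2 .nil .nil) .nil)) .nil)) (.node 2 (.node 0 (.node 0 .nil (.node 2 .nil .nil)) (.node 1 (.node 0 .nil .nil) (.node 2 (.node 1 .nil .nil) .nil))) .nil))) (.node 1 (.node 1 (.node 0 (.node 1 .nil .nil) (.node 2 (.node 2 .nil .nil) .nil)) (.node 2 (.node 0 (.node 1 .nil (.node 2 .nil .nil)) (.node 1 (.node 1 .nil .nil) .nil)) .nil)) (.node 2 (.node 0 (.node 0 .nil (.node 1 (.node 2 .nil .nil) (.node 2 (.node 2 .nil .nil) .nil))) (.node 1 (.node 0 .nil (.node 2 (.node 0 .nil .nil) .nil)) (.node 2 (.node 2 .nil .nil) .nil))) .nil))) (.node 2 (.node 0 (.node 0 (.node 0 (.node 1 .nil .nil) (.node 1 (.node 0 .nil (.node 1 .nil .nil)) (.node 2 (.node 0 .nil (.node 1 (.node 2 .nil .nil) .nil)) .nil))) (.node 1 (.node 1 .nil .nil) (.node 2 (.node 0 (.node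 0 .nil (.node 1 .nil .nil)) (.node 1 (.node 0 .nil (.node 1 .nil (.node 2 .nil .nil))) (.node 2 (.node 0 .nil (.node 2 .nil .nil)) .nil))) .nil))) (.node 1 (.node 0 (.node 0 (.node 0 .nil .nil) (.node 2 .nil .nil)) (.node 1 (.node 0 .nil (.node 1 (.node 1 .nil (.node 2 .nil .nil)) (.node 2 (.node 0 .nil .nil) .nil))) (.node 2 (.node 1 (.node 1 .nil .nil) (.node 2 (.node 2 .nil .nil) .nil)) .nil))) (.node 2 (.node 0 (.node 0 (.node 1 .nil (.node 2 .nil .nil)) (.node 1 (.node 0 .nil (.node 2 .nil .nil)) (.node 2 .nil .nil))) (.node 1 (.node 0 .nil .nil) .nil)) .nil))) .nil))) (.node 2 (.node 0 (.node 0 (.node 1 (.node 1 .nil .nil) (.node 2 (.node 0 (.node 0 .nil .nil) (.node 1 .nil (.node 2 (.node 1 .nil .nil) .nil))) .nil)) (.node 1 (.node 1 .nil (.node 2 (.node 1 (.node 2 .nil .nil) (.node 2 (.node 1 .nil .nil) .nil)) .nil)) (.node 2 (.node 2 (.node 0 .nil .nil) .nil) .nil))) (.node 1 (.node 0 (.node 0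 (.node 2 (.node 1 .nil .nil) .nil) (.node 1 .nil (.node 2 (.node 1 (.node 0 .nil .nil) (.node 2 .nil .nil)) .nil))) (.node 1 (.node 0 (.node 1 .nil (.node 2 (.node 1 .nil .nil) .nil)) (.node 1 (.node 0 (.node 0 .nil .nil) (.node 1 .nil .nil)) (.node 2 (.node 0 (.node 1 .nil (.node 2 .nil .nil)) (.node 1 (.node 1 .nil .nil) .nil)) .nil))) (.node 2 (.node 0 (.node 1 (.node 0 .nil .nil) .nil) (.node 2 .nil .nil)) .nil))) (.node 2 (.node 0 (.node 0 (.node 0 (.node 0 .nil .nil) (.node 1 .nil (.node 2 .nil .nil))) (.node 1 (.node 0 (.node 0 (.node 2 .nil .nil) .nil) (.node 1 (.node 2 .nil .nil) (.node 2 (.node 2 .nil .nil) .nil))) .nil)) (.node 1 (.node 1 (.node 0 .nil .nil) (.node 2 (.node 0 (.node 2 .nil .nil) (.node 1 (.node 1 .nil .nil) (.node 2 (.node 0 .nil (.node 1 .nil .nil)) .nil))) .nil)) (.node 2 (.node 0 (.node 0 .nil (.node 2 (.node 0 .nil (.node 1 .nil .nil)) .nil)) (.node 1 (.node 0 (.node 1 .nil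 (.node 2 .nil .nil)) (.node 2 .nil .nil)) (.node 2 (.node 0 (.node 1 .nil .nil) (.node 1 (.node 0 .nil .nil) .nil)) .nil))) .nil))) .nil))) .nil)))

set_option maxRecDepth 20000 in
/-- Orbit forest. -/
def treeDodSex2 : OrbTree := (.node 0 (.node 0 (.node 0 (.node 0 (.node 0 (.node 0 (.node 1 .nil (.node 2 .nil .nil)) (.node 1 (.node 1 .nil .nil) (.node 2 (.node 0 .nil (.node 1 (.node 0 .nil .nil) .nil)) .nil))) (.node 1 (.node 0 .nil (.node 1 (.node 0 .nil .nil) .nil)) (.node 2 (.node 0 (.node 0 .nil (.node 1 .nil (.node 2 .nil .nil))) (.node 1 (.node 0 (.node 2 .nil .nil) (.node 1 (.node 0 .nil .nil) .nil)) .nil)) .nil))) (.node 1 (.node 0 (.node 1 (.node 0 .nil (.node 1 .nil .nil)) (.node 2 (.node 0 .nil (.node 1 .nil .nil)) .nil)) (.node 1 (.node 0 (.node 2 .nil .nil) (.node 1 (.node 1 .nil .nil) (.node 2 .nil .nil))) (.node 2 (.node 2 (.node 1 .nil (.node 2 .nil .nil)) .nil) .nil))) (.node 2 (.node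 0 (.node 2 (.node 2 .nil .nil) .nil) (.node 1 (.node 1 (.node 0 .nil (.node 2 .nil .nil)) (.node 2 (.node 0 .nil (.node 2 .nil .nil)) .nil)) (.node 2 (.node 0 (.node 1 .nil .nil) (.node 1 (.node 0 .nil .nil) .nil)) .nil))) .nil))) (.node 1 (.node 0 (.node 0 (.node 0 (.node 0 (.node 0 .nil .nil) .nil) (.node 1 (.node 1 (.node 1 .nil .nil) (.node 2 .nil .nil)) (.node 2 .nil .nil))) (.node 1 (.node 0 .nil (.node 1 (.node 1 .nil .nil) (.node 2 .nil .nil))) (.node 2 (.node 1 .nil (.node 2 (.node 0 .nil (.node 2 .nil .nil)) .nil)) .nil))) (.node 1 (.node 0 (.node 0 (.node 1 .nil .nil) (.node 1 (.node 0 .nil .nil) (.node 2 (.node 0 .nil .nil) .nil))) (.node 1 (.node 1 (.node 0 .nil (.node 1 .nil (.node 2 (.node 1 .nil .nil) .nil))) (.node 2 (.node 0 .nil .nil) .nil)) (.node 2 (.node 1 .nil .nil) .nil))) (.node 2 (.node 0 (.node 1 (.node 0 .nil (.node 1 .nil .nil)) (.node 2 .nil .nil)) (.node 1 (.node 0 (.node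 1 (.node 0 .nil .nil) (.node 2 .nil .nil)) (.node 1 (.node 0 (.node 2 .nil .nil) .nil) .nil)) (.node 2 (.node 0 .nil (.node 2 .nil .nil)) .nil))) .nil))) (.node 2 (.node 0 (.node 0 (.node 0 (.node 1 (.node 0 .nil .nil) .nil) (.node 1 .nil (.node 2 (.node 0 .nil .nil) .nil))) (.node 1 (.node 1 (.node 2 .nil .nil) (.node 2 .nil .nil)) (.node 2 (.node 0 (.node 1 (.node 1 .nil .nil) .nil) .nil) .nil))) (.node 1 (.node 0 (.node 0 .nil (.node 1 .nil .nil)) (.node 1 (.node 1 (.node 1 .nil .nil) (.node 2 (.node 0 .nil .nil) .nil)) (.node 2 (.node 0 (.node 0 .nil (.node 1 .nil .nil)) (.node 2 (.node 2 .nil .nil) .nil)) .nil))) (.node 2 (.node 0 (.node 2 (.node 0 .nil .nil) .nil) (.node 1 (.node 0 (.node 1 .nil .nil) .nil) (.node 2 (.node 0 .nil (.node 1 (.node 0 .nil .nil) (.node 2 .nil .nil))) .nil))) .nil))) .nil))) (.node 1 (.node 0 (.node 0 (.node 0 (.node 1 (.node 0 .nil .nil) (.node 2 (.node 0 .nil .nil) .nil))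 (.node 1 (.node 0 (.node 1 .nil .nil) (.node 2 (.node 1 .nil (.node 2 .nil .nil)) .nil)) (.node 2 (.node 2 .nil .nil) .nil))) (.node 1 (.node 0 (.node 0 (.node 0 .nil .nil) (.node 1 .nil (.node 2 (.node 1 .nil .nil) .nil))) (.node 1 (.node 0 .nil (.node 1 .nil .nil)) (.node 2 (.node 0 .nil (.node 1 .nil (.node 2 (.node 1 .nil (.node 2 .nil .nil)) .nil))) .nil))) (.node 2 (.node 0 (.node 0 .nil (.node 1 (.node 1 .nil .nil) .nil)) (.node 1 (.node 0 (.node 2 .nil .nil) (.node 1 .nil (.node 2 (.node 0 (.node 1 .nil .nil) .nil) .nil))) (.node 2 (.node 0 (.node 0 .nil (.node 1 (.node 1 .nil .nil) .nil)) (.node 1 (.node 0 .nil (.node 2 .nil .nil)) (.node 2 (.node 0 (.node 1 .nil .nil) (.node 1 .nil .nil)) .nil))) .nil))) .nil))) (.node 1 (.node 0 (.node 0 (.node 0 (.node 2 .nil .nil) (.node 1 (.node 0 .nil .nil) (.node 2 .nil .nil))) (.node 1 (.node 2 (.node 2 .nil .nil) .nil) (.node 2 (.node 0 (.node 1 .nil .nil)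 (.node 2 .nil .nil)) .nil))) (.node 1 (.node 1 (.node 0 .nil (.node 1 (.node 0 .nil (.node 1 .nil (.node 2 .nil .nil))) (.node 2 (.node 0 .nil (.node 2 .nil .nil)) .nil))) (.node 2 (.node 0 .nil (.node 1 (.node 0 .nil .nil) .nil)) .nil)) (.node 2 (.node 0 (.node 0 (.node 2 .nil .nil) (.node 2 .nil .nil)) (.node 2 (.node 0 (.node 0 .nil (.node 2 .nil .nil)) (.node 2 .nil .nil)) .nil)) .nil))) (.node 2 (.node 1 (.node 0 (.node 0 (.node 1 .nil (.node 2 (.node 1 .nil .nil) .nil)) (.node 1 (.node 2 .nil .nil) (.node 2 (.node 2 .nil .nil) .nil))) (.node 1 (.node 0 .nil .nil) (.node 2 (.node 0 .nil (.node 2 (.node 1 .nil .nil) .nil)) .nil))) (.node 2 (.node 0 .nil (.node 1 (.node 0 (.node 1 .nil .nil) (.node 2 (.node 1 .nil .nil) .nil)) .nil)) .nil)) .nil))) (.node 2 (.node 0 (.node 0 (.node 0 (.node 1 .nil (.node 2 (.node 1 .nil (.node 2 .nil .nil)) .nil)) .nil) (.node 1 (.node 0 (.node 1 (.node 0 .nil .nil)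 (.node 2 (.node 1 .nil .nil) .nil)) (.node 1 (.node 1 (.node 1 .nil .nil) (.node 2 (.node 0 .nil .nil) .nil)) (.node 2 (.node 0 (.node 0 .nil .nil) (.node 1 (.node 0 .nil .nil) (.node 2 .nil .nil))) .nil))) (.node 2 (.node 1 (.node 0 .nil (.node 2 (.node 0 .nil .nil) .nil)) (.node 2 (.node 0 (.node 0 .nil .nil) .nil) .nil)) .nil))) (.node 1 (.node 0 (.node 1 (.node 0 (.node 1 .nil .nil) (.node 1 (.node 0 .nil (.node 2 .nil .nil)) .nil)) (.node 2 (.node 0 (.node 1 (.node 1 .nil .nil) .nil) (.node 1 .nil (.node 2 (.node 1 .nil (.node 2 .nil .nil)) .nil))) .nil)) (.node 1 (.node 0 (.node 2 (.node 1 .nil .nil) .nil) (.node 2 (.node 0 (.node 0 .nil .nil) (.node 1 .nil .nil)) .nil)) (.node 2 (.node 0 (.node 0 .nil (.node 1 (.node 1 .nil .nil) (.node 2 (.node 1 .nil .nil) .nil))) (.node 1 (.node 0 .nil (.node 2 .nil .nil)) (.node 2 (.node 0 .nil (.node 1 (.node 1 .nil .nil) .nil)) .nil))) .nil))) (.node 2 (.node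 0 (.node 0 (.node 0 (.node 1 .nil (.node 2 .nil .nil)) (.node 1 (.node 1 .nil .nil) (.node 2 (.node 1 .nil .nil) .nil))) (.node 1 .nil (.node 2 (.node 0 (.node 0 .nil (.node 1 .nil .nil)) (.node 1 (.node 2 .nil .nil) (.node 2 (.node 1 .nil .nil) .nil))) .nil))) (.node 1 (.node 0 (.node 0 .nil (.node 1 (.node 0 .nil (.node 2 .nil .nil)) .nil)) (.node 2 (.node 0 (.node 0 .nil .nil) (.node 2 .nil .nil)) .nil)) (.node 2 (.node 0 (.node 0 (.node 1 (.node 1 .nil .nil) .nil) (.node 2 (.node 1 .nil .nil) .nil)) (.node 1 (.node 0 .nil (.node 2 (.node 2 .nil .nil) .nil)) (.node 2 (.node 0 (.node 0 .nil .nil) (.node 2 .nil .nil)) .nil))) .nil))) .nil))) .nil))) (.node 1 (.node 0 (.node 0 (.node 0 (.node 0 (.node 2 (.node 0 .nil .nil) .nil) (.node 1 (.node 1 (.node 0 .nil .nil) (.node 2 (.node 1 .nil .nil) .nil)) (.node 2 (.node 0 .nil (.node 2 (.node 2 .nil .nil) .nil)) .nil))) (.node 1 (.node 0 (.node 1 (.node 0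 .nil .nil) .nil) (.node 1 (.node 1 (.node 2 .nil .nil) (.node 2 (.node 2 .nil .nil) .nil)) (.node 2 .nil .nil))) (.node 2 (.node 0 (.node 1 (.node 0 .nil .nil) .nil) (.node 1 (.node 2 (.node 0 .nil .nil) .nil) (.node 2 (.node 0 (.node 1 .nil (.node 2 .nil .nil)) (.node 1 (.node 2 .nil .nil) (.node 2 (.node 1 .nil .nil) .nil))) .nil))) .nil))) (.node 1 (.node 0 (.node 0 (.node 1 .nil (.node 2 .nil .nil)) (.node 1 (.node 0 .nil .nil) (.node 2 (.node 0 (.node 1 .nil .nil) .nil) .nil))) (.node 1 (.node 0 .nil (.node 1 (.node 0 (.node 2 .nil .nil) (.node 1 .nil (.node 2 .nil .nil))) (.node 2 (.node 0 (.node 2 .nil .nil) .nil) .nil))) (.node 2 (.node 0 (.node 0 (.node 2 .nil .nil) .nil) (.node 1 (.node 0 .nil (.node 1 (.node 2 .nil .nil) (.node 2 (.node 0 .nil (.node 2 .nil .nil)) .nil))) (.node 2 (.node 1 (.node 0 .nil .nil) (.node 2 (.node 1 .nil (.node 2 .nil .nil)) .nil)) .nil))) .nil))) (.node 2 (.node 0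 (.node 0 .nil (.node 1 (.node 0 .nil (.node 1 .nil (.node 2 (.node 0 .nil (.node 2 .nil .nil)) .nil))) (.node 2 (.node 1 (.node 0 .nil (.node 2 .nil .nil)) (.node 2 (.node 0 .nil .nil) .nil)) .nil))) (.node 1 (.node 0 (.node 1 .nil (.node 2 .nil .nil)) (.node 1 (.node 0 (.node 1 .nil .nil) (.node 1 (.node 0 .nil .nil) (.node 2 .nil .nil))) .nil)) .nil)) .nil))) (.node 1 (.node 0 (.node 1 (.node 0 (.node 1 .nil (.node 2 (.node 1 .nil .nil) .nil)) (.node 2 (.node 0 .nil (.node 1 .nil (.node 2 .nil .nil))) .nil)) (.node 2 (.node 0 (.node 1 .nil (.node 2 .nil .nil)) (.node 1 (.node 0 (.node 0 (.node 0 .nil .nil) .nil) (.node 1 (.node 0 .nil .nil) (.node 2 (.node 0 .nil .nil) .nil))) .nil)) .nil)) (.node 1 (.node 0 (.node 0 (.node 1 (.node 0 .nil (.node 2 .nil .nil)) (.node 2 .nil .nil)) (.node 1 (.node 0 .nil (.node 1 (.node 1 .nil .nil) (.node 2 .nil .nil))) .nil)) (.node 1 (.node 0 (.node 0 .nil .nil) (.node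 1 (.node 0 (.node 1 .nil .nil) (.node 1 (.node 1 .nil .nil) (.node 2 (.node 1 .nil .nil) .nil))) (.node 2 (.node 0 .nil (.node 1 .nil .nil)) .nil))) (.node 2 (.node 0 (.node 0 .nil (.node 1 .nil .nil)) (.node 1 (.node 0 .nil (.node 2 (.node 0 .nil (.node 2 .nil .nil)) .nil)) (.node 2 (.node 0 .nil (.node 2 .nil .nil)) .nil))) .nil))) (.node 2 (.node 0 (.node 0 (.node 2 .nil .nil) (.node 1 .nil (.node 2 (.node 0 .nil (.node 1 .nil (.node 2 .nil .nil))) .nil))) (.node 1 (.node 0 (.node 0 .nil (.node 1 (.node 2 .nil .nil) (.node 2 (.node 2 .nil .nil) .nil))) (.node 1 (.node 1 (.node 1 .nil .nil) (.node 2 (.node 1 .nil (.node 2 .nil .nil)) .nil)) (.node 2 (.node 0 .nil (.node 1 (.node 0 .nil .nil) (.node 2 .nil .nil))) .nil))) (.node 2 (.node 0 (.node 0 .nil (.node 1 (.node 1 .nil .nil) (.node 2 .nil .nil))) (.node 1 (.node 0 .nil .nil) .nil)) .nil))) .nil))) (.node 2 (.node 0 (.node 0 (.node 0 (.node 1 .nil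 .nil) (.node 1 (.node 0 .nil .nil) .nil)) (.node 1 (.node 0 (.node 0 .nil (.node 2 (.node 2 .nil .nil) .nil)) (.node 1 (.node 0 .nil (.node 2 .nil .nil)) (.node 2 (.node 1 (.node 1 .nil .nil) .nil) .nil))) (.node 2 (.node 0 (.node 0 .nil (.node 1 .nil (.node 2 (.node 0 .nil .nil) .nil))) (.node 1 (.node 0 (.node 0 .nil .nil) (.node 2 .nil .nil)) (.node 2 (.node 2 .nil .nil) .nil))) .nil))) (.node 1 (.node 0 (.node 0 (.node 1 (.node 1 .nil .nil) (.node 2 .nil .nil)) (.node 1 (.node 1 .nil .nil) .nil)) (.node 1 (.node 0 (.node 1 .nil (.node 2 .nil .nil)) (.node 1 (.node 0 (.node 1 .nil .nil) .nil) (.node 2 (.node 0 (.node 1 .nil .nil) (.node 1 (.node 0 .nil .nil) .nil)) .nil))) (.node 2 (.node 0 (.node 0 (.node 1 .nil .nil) (.node 1 .nil .nil)) (.node 1 (.node 1 .nil (.node 2 (.node 2 .nil .nil) .nil)) .nil)) .nil))) (.node 2 (.node 0 (.node 0 (.node 1 (.node 1 .nil .nil) (.node 2 (.node 2 .nil .nil) .nil))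 (.node 1 (.node 0 .nil (.node 1 .nil (.node 2 .nil .nil))) (.node 2 (.node 0 .nil (.node 1 .nil .nil)) .nil))) (.node 1 (.node 2 (.node 0 (.node 1 .nil .nil) (.node 1 (.node 1 .nil .nil) (.node 2 (.node 1 .nil .nil) .nil))) .nil) .nil)) .nil))) .nil))) (.node 2 (.node 0 (.node 0 (.node 0 (.node 1 (.node 1 (.node 2 .nil .nil) .nil) (.node 2 (.node 0 .nil (.node 1 .nil (.node 2 .nil .nil))) .nil)) (.node 1 (.node 0 (.node 1 .nil .nil) (.node 2 (.node 1 .nil .nil) .nil)) .nil)) (.node 1 (.node 0 (.node 0 (.node 0 .nil .nil) (.node 1 (.node 1 (.node 2 .nil .nil) .nil) (.node 2 (.node 1 .nil (.node 2 .nil .nil)) .nil))) (.node 1 (.node 0 (.node 1 .nil (.node 2 .nil .nil)) (.node 2 (.node 0 (.node 0 .nil (.node 2 .nil .nil)) (.node 1 .nil (.node 2 (.node 1 .nil (.node 2 .nil .nil)) .nil))) .nil)) (.node 2 (.node 2 (.node 0 .nil (.node 1 .nil (.node 2 .nil .nil))) .nil) .nil))) (.node 2 (.node 0 (.node 0 (.node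 0 .nil (.node 1 .nil (.node 2 .nil .nil))) (.node 1 (.node 0 (.node 1 .nil .nil) (.node 1 (.node 1 .nil .nil) .nil)) (.node 2 (.node 0 .nil (.node 1 (.node 1 .nil .nil) .nil)) .nil))) (.node 2 (.node 0 (.node 0 .nil (.node 2 .nil .nil)) .nil) .nil)) .nil))) (.node 1 (.node 0 (.node 1 (.node 0 .nil (.node 1 (.node 1 .nil .nil) (.node 2 (.node 0 (.node 2 .nil .nil) (.node 1 .nil (.node 2 .nil .nil))) .nil))) (.node 2 (.node 0 (.node 2 .nil .nil) (.node 2 (.node 1 (.node 1 .nil (.node 2 .nil .nil)) .nil) .nil)) .nil)) (.node 1 (.node 0 (.node 0 (.node 0 .nil (.node 1 (.node 1 .nil .nil) (.node 2 (.node 1 .nil .nil) .nil))) (.node 1 (.node 0 .nil (.node 1 .nil .nil)) (.node 2 (.node 1 (.node 2 .nil .nil) (.node 2 (.node 0 .nil .nil) .nil)) .nil))) (.node 1 (.node 0 (.node 2 .nil .nil) (.node 1 (.node 2 .nil .nil) (.node 2 (.node 1 (.node 2 .nil .nil) .nil) .nil))) (.node 2 (.node 0 (.node 2 (.node 2 .nil .nil)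 .nil) (.node 1 (.node 1 .nil (.node 2 .nil .nil)) .nil)) .nil))) (.node 2 (.node 0 (.node 0 .nil (.node 1 (.node 2 .nil .nil) (.node 2 (.node 0 .nil .nil) .nil))) (.node 1 (.node 0 (.node 0 .nil .nil) (.node 2 (.node 0 .nil (.node 1 .nil .nil)) .nil)) (.node 2 (.node 1 (.node 0 .nil (.node 2 .nil .nil)) (.node 2 (.node 2 (.node 0 .nil .nil) .nil) .nil)) .nil))) .nil))) (.node 2 (.node 0 (.node 0 (.node 0 (.node 0 .nil (.node 2 .nil .nil)) (.node 2 (.node 0 .nil (.node 1 .nil .nil)) .nil)) (.node 1 (.node 0 (.node 0 .nil (.node 1 .nil (.node 2 .nil .nil))) (.node 2 .nil .nil)) (.node 2 (.node 0 (.node 0 .nil (.node 1 .nil .nil)) (.node 1 (.node 1 (.node 2 .nil .nil) (.node 2 .nil .nil)) (.node 2 (.node 2 .nil .nil) .nil))) .nil))) (.node 1 (.node 1 (.node 0 (.node 0 .nil (.node 1 (.node 1 .nil .nil) .nil)) (.node 1 (.node 0 .nil .nil) (.node 2 (.node 0 (.node 0 .nil .nil) (.node 1 (.node 0 .nil .nil) .nil))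 .nil))) (.node 2 (.node 0 (.node 1 (.node 2 .nil .nil) .nil) (.node 1 (.node 0 .nil (.node 1 (.node 0 .nil .nil) (.node 2 .nil .nil))) .nil)) .nil)) (.node 2 (.node 0 (.node 0 (.node 0 .nil (.node 1 .nil .nil)) (.node 1 (.node 0 (.node 1 .nil .nil) .nil) (.node 2 (.node 0 .nil (.node 2 .nil .nil)) .nil))) (.node 1 (.node 0 (.node 2 .nil .nil) (.node 1 (.node 0 .nil (.node 2 .nil .nil)) .nil)) (.node 2 (.node 0 (.node 1 (.node 1 .nil .nil) (.node 2 .nil .nil)) (.node 1 (.node 0 .nil .nil) (.node 2 (.node 1 .nil .nil) .nil))) .nil))) .nil))) .nil))) .nil)))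

/-- Orbits. -/
def partsDodSex : List Part := [(treeDodSex0, [163, 17984, 1116164, 2494464, 4726792, 8421648], 48, 396), (treeDodSex1, [15, 5264, 622848, 3416064, 4196928, 8536096], 64, 495), (treeDodSex2, [39, 45120, 786960, 1116288, 6292736, 8536072], 60, 880)]

/-- Root structure. -/
def rootY : List ℕ := [8388611]

/-- Generators of its stabilizer. -/
def gensY : List ℕ := [70203265783978805119434963127770135, 8134132061634798807973138950179895, 12338228155613674497646001932983009]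

set_option maxRecDepth 20000 in
/-- Orbit forest. -/
def treeYSex0 : OrbTree := (.node 0 (.node 0 .nil (.node 1 (.node 1 (.node 2 .nil .nil) (.node 2 (.node 1 .nil (.node 2 .nil .nil)) .nil)) (.node 2 (.node 0 .nil .nil) .nil))) (.node 1 (.node 0 (.node 0 .nil (.node 1 .nil .nil)) (.node 2 (.node 2 .nil .nil) .nil)) (.node 2 (.node 1 (.node 1 .nil .nil) (.node 2 .nil .nil)) .nil)))

set_option maxRecDepth 20000 in
/-- Orbit forest. -/
def treeYSex1 : OrbTree := (.node 0 (.node 0 (.node 1 (.node 0 (.node 0 (.node 1 (.node 0 (.node 2 .nil .nil) (.node 1 .nil .nil)) (.node 2 (.node 0 .nil (.node 1 .nil (.node 2 .nil .nil))) .nil)) (.node 2 (.node 2 (.node 2 .nil .nil) .nil) .nil)) (.node 1 (.node 0 (.node 0 .nil (.node 2 (.node 1 .nil .nil) .nil)) (.node 1 (.node 0 (.node 0 .nil .nil) (.node 1 (.node 0 .nil (.node 2 .nil .nil)) (.node 2 (.node 0 .nil .nil) .nil))) (.node 2 (.node 0 .nil .nil) .nil))) (.node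 2 (.node 1 (.node 0 (.node 1 (.node 0 .nil (.node 2 .nil .nil)) .nil) (.node 2 (.node 2 .nil .nil) .nil)) (.node 2 (.node 0 .nil (.node 1 (.node 0 (.node 2 .nil .nil) (.node 1 (.node 2 .nil .nil) .nil)) (.node 2 (.node 0 .nil .nil) .nil))) .nil)) .nil))) (.node 2 (.node 0 (.node 0 (.node 1 (.node 2 (.node 2 .nil .nil) .nil) (.node 2 (.node 2 .nil .nil) .nil)) (.node 1 (.node 0 .nil (.node 1 (.node 0 .nil (.node 1 .nil .nil)) (.node 2 (.node 0 .nil (.node 1 .nil (.node 2 .nil .nil))) .nil))) (.node 2 (.node 1 (.node 0 .nil (.node 1 (.node 2 .nil .nil) .nil)) (.node 2 .nil .nil)) .nil))) (.node 1 (.node 0 (.node 0 (.node 1 .nil (.node 2 .nil .nil)) (.node 1 (.node 0 .nil (.node 2 .nil .nil)) (.node 2 (.node 0 .nil .nil) .nil))) (.node 1 .nil (.node 2 (.node 0 (.node 0 .nil (.node 2 .nil .nil)) (.node 1 (.node 2 .nil .nil) .nil)) .nil))) (.node 2 (.node 0 (.node 0 .nil (.node 1 .nil (.node 2 (.node 1 .nil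 (.node 2 (.node 1 .nil .nil) .nil)) .nil))) (.node 1 (.node 0 (.node 2 .nil .nil) (.node 1 (.node 0 (.node 0 .nil .nil) (.node 1 .nil (.node 2 .nil .nil))) .nil)) (.node 2 (.node 0 .nil (.node 2 (.node 0 .nil (.node 2 .nil .nil)) .nil)) .nil))) .nil))) .nil)) (.node 1 (.node 0 (.node 0 (.node 1 .nil (.node 2 (.node 0 .nil (.node 1 (.node 2 (.node 1 .nil .nil) .nil) (.node 2 .nil .nil))) .nil)) (.node 1 (.node 1 (.node 0 .nil (.node 2 (.node 1 (.node 1 .nil .nil) .nil) .nil)) (.node 2 (.node 1 (.node 0 .nil (.node 2 .nil .nil)) (.node 2 (.node 1 .nil .nil) .nil)) .nil)) (.node 2 (.node 0 (.node 0 (.node 1 .nil .nil) (.node 1 (.node 2 .nil .nil) .nil)) (.node 1 (.node 0 .nil (.node 1 (.node 1 .nil .nil) (.node 2 .nil .nil))) (.node 2 (.node 0 .nil (.node 1 (.node 0 .nil .nil) .nil)) .nil))) .nil))) (.node 1 (.node 0 (.node 2 (.node 0 .nil (.node 1 (.node 1 .nil (.node 2 .nil .nil)) (.node 2 .nil .nil))) .nil)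 (.node 1 (.node 0 (.node 0 .nil (.node 2 .nil .nil)) (.node 1 (.node 1 (.node 1 .nil (.node 2 (.node 0 .nil .nil) .nil)) (.node 2 .nil .nil)) .nil)) (.node 2 (.node 0 (.node 1 (.node 1 .nil .nil) (.node 2 (.node 2 .nil .nil) .nil)) (.node 1 (.node 0 (.node 1 .nil (.node 2 .nil .nil)) (.node 1 (.node 0 .nil (.node 1 .nil .nil)) (.node 2 (.node 0 .nil (.node 2 (.node 1 .nil .nil) .nil)) .nil))) (.node 2 (.node 1 (.node 0 .nil (.node 2 .nil .nil)) (.node 2 .nil .nil)) .nil))) .nil))) (.node 2 (.node 0 (.node 0 (.node 2 (.node 1 .nil .nil) .nil) (.node 2 (.node 0 .nil .nil) .nil)) (.node 1 (.node 0 (.node 0 (.node 1 .nil .nil) (.node 1 (.node 2 .nil .nil) (.node 2 .nil .nil))) (.node 1 (.node 0 (.node 2 .nil .nil) (.node 1 (.node 2 .nil .nil) (.node 2 .nil .nil))) (.node 2 (.node 0 (.node 0 .nil (.node 2 .nil .nil)) .nil) .nil))) (.node 2 (.node 0 (.node 0 .nil (.node 1 (.node 1 .nil .nil) (.node 2 (.node 0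 .nil .nil) .nil))) (.node 1 (.node 0 (.node 2 .nil .nil) (.node 1 (.node 1 .nil .nil) .nil)) .nil)) .nil))) .nil))) (.node 2 (.node 0 (.node 0 (.node 1 (.node 0 (.node 1 .nil .nil) (.node 1 (.node 1 .nil .nil) (.node 2 (.node 0 .nil (.node 1 .nil .nil)) .nil))) (.node 2 (.node 0 (.node 1 .nil (.node 2 .nil .nil)) (.node 1 .nil (.node 2 (.node 0 (.node 0 .nil .nil) .nil) .nil))) .nil)) (.node 1 (.node 1 (.node 1 (.node 2 .nil .nil) (.node 2 .nil .nil)) (.node 2 (.node 0 (.node 0 .nil (.node 2 .nil .nil)) (.node 2 .nil .nil)) .nil)) (.node 2 (.node 0 (.node 2 (.node 1 .nil .nil) .nil) (.node 1 (.node 0 (.node 1 .nil .nil) (.node 1 (.node 0 .nil .nil) .nil)) .nil)) .nil))) (.node 1 (.node 0 (.node 0 (.node 1 (.node 0 .nil (.node 2 .nil .nil)) (.node 2 .nil .nil)) (.node 1 (.node 1 .nil (.node 2 .nil .nil)) (.node 2 (.node 0 (.node 0 .nil (.node 1 .nil .nil)) (.node 1 (.node 2 .nil .nil) (.node 2 .nil .nil)))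 .nil))) (.node 1 (.node 2 (.node 0 .nil (.node 1 (.node 2 .nil .nil) .nil)) .nil) (.node 2 (.node 1 .nil (.node 2 (.node 1 .nil (.node 2 (.node 0 .nil .nil) .nil)) .nil)) .nil))) (.node 2 (.node 1 (.node 0 (.node 0 (.node 2 .nil .nil) (.node 1 .nil (.node 2 (.node 1 .nil .nil) .nil))) (.node 1 (.node 1 (.node 2 .nil .nil) .nil) (.node 2 (.node 1 (.node 2 .nil .nil) .nil) .nil))) (.node 2 (.node 0 (.node 1 (.node 1 .nil .nil) (.node 2 .nil .nil)) (.node 1 (.node 1 .nil (.node 2 (.node 0 .nil (.node 1 .nil .nil)) .nil)) (.node 2 (.node 0 (.node 1 .nil .nil) (.node 1 (.node 1 .nil .nil) (.node 2 .nil .nil))) .nil))) .nil)) .nil))) .nil))) (.node 1 (.node 0 (.node 0 (.node 1 (.node 1 (.node 0 (.node 2 .nil .nil) (.node 1 (.node 0 .nil .nil) (.node 2 .nil .nil))) (.node 2 (.node 1 .nil .nil) .nil)) (.node 2 (.node 0 (.node 0 (.node 1 .nil .nil) (.node 2 (.node 1 .nil .nil) .nil)) (.node 1 (.node 1 .nil .nil)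 (.node 2 (.node 0 .nil (.node 1 (.node 0 .nil (.node 1 .nil .nil)) (.node 2 .nil .nil))) .nil))) .nil)) (.node 1 (.node 0 (.node 0 (.node 2 .nil .nil) (.node 1 (.node 0 (.node 0 .nil .nil) (.node 1 .nil (.node 2 .nil .nil))) (.node 2 .nil .nil))) (.node 1 (.node 0 .nil (.node 1 (.node 1 (.node 0 .nil .nil) (.node 2 (.node 1 .nil .nil) .nil)) .nil)) (.node 2 (.node 0 (.node 0 (.node 1 .nil .nil) (.node 2 .nil .nil)) (.node 1 (.node 1 .nil (.node 2 (.node 0 .nil .nil) .nil)) (.node 2 (.node 0 (.node 1 .nil .nil) (.node 1 .nil .nil)) .nil))) .nil))) (.node 2 (.node 0 (.node 0 (.node 1 (.node 2 .nil .nil) (.node 2 .nil .nil)) (.node 1 (.node 2 .nil .nil) (.node 2 (.node 1 (.node 1 .nil .nil) .nil) .nil))) (.node 1 (.node 0 (.node 0 .nil (.node 1 .nil .nil)) (.node 1 (.node 1 .nil .nil) (.node 2 (.node 0 (.node 2 .nil .nil) (.node 1 .nil .nil)) .nil))) (.node 2 (.node 0 (.node 1 .nil (.node 2 (.node 1 .nil .nil)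 .nil)) (.node 1 (.node 0 (.node 0 .nil (.node 2 .nil .nil)) .nil) (.node 2 (.node 0 (.node 0 .nil .nil) .nil) .nil))) .nil))) .nil))) (.node 1 (.node 0 (.node 0 (.node 1 (.node 1 .nil (.node 2 .nil .nil)) (.node 2 .nil .nil)) (.node 1 (.node 2 (.node 1 .nil .nil) .nil) (.node 2 (.node 0 (.node 2 .nil .nil) (.node 1 (.node 0 .nil (.node 2 .nil .nil)) (.node 2 (.node 1 (.node 1 .nil (.node 2 .nil .nil)) .nil) .nil))) .nil))) (.node 1 (.node 0 (.node 1 .nil (.node 2 (.node 0 .nil (.node 1 .nil .nil)) .nil)) (.node 1 (.node 0 (.node 0 .nil (.node 1 (.node 0 .nil .nil) .nil)) (.node 1 (.node 1 .nil (.node 2 (.node 2 .nil .nil) .nil)) (.node 2 (.node 0 .nil (.node 1 .nil .nil)) .nil))) (.node 2 (.node 0 (.node 2 (.node 1 .nil .nil) .nil) (.node 1 (.node 2 (.node 1 .nil .nil) .nil) (.node 2 .nil .nil))) .nil))) (.node 2 (.node 0 (.node 0 .nil (.node 2 .nil .nil)) (.node 1 (.node 1 (.node 1 .nil .nil) (.node 2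 (.node 1 .nil .nil) .nil)) .nil)) .nil))) (.node 2 (.node 0 (.node 0 (.node 1 (.node 2 (.node 0 .nil .nil) .nil) (.node 2 (.node 2 .nil .nil) .nil)) (.node 1 (.node 0 (.node 0 .nil (.node 1 .nil (.node 2 .nil .nil))) (.node 1 (.node 0 (.node 1 .nil .nil) (.node 1 .nil (.node 2 (.node 2 .nil .nil) .nil))) (.node 2 (.node 0 (.node 1 .nil .nil) (.node 2 (.node 0 .nil .nil) .nil)) .nil))) (.node 2 (.node 0 (.node 0 .nil (.node 1 .nil (.node 2 (.node 0 .nil .nil) .nil))) (.node 1 (.node 0 .nil .nil) (.node 2 (.node 0 .nil (.node 1 .nil (.node 2 .nil .nil))) .nil))) .nil))) (.node 1 (.node 0 (.node 0 .nil (.node 1 (.node 2 .nil .nil) (.node 2 (.node 0 .nil (.node 1 (.node 1 .nil .nil) .nil)) .nil))) (.node 1 (.node 1 (.node 1 .nil (.node 2 .nil .nil)) (.node 2 (.node 0 .nil (.node 1 .nil .nil)) .nil)) .nil)) (.node 2 (.node 0 (.node 1 (.node 0 .nil (.node 2 .nil .nil)) (.node 2 (.node 0 .nil (.node 1 .nil (.node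 2 (.node 1 .nil .nil) .nil))) .nil)) (.node 1 (.node 0 (.node 1 .nil (.node 2 (.node 1 .nil .nil) .nil)) (.node 1 (.node 2 (.node 1 .nil .nil) .nil) .nil)) (.node 2 (.node 0 (.node 0 .nil (.node 1 .nil .nil)) (.node 1 (.node 1 .nil .nil) (.node 2 .nil .nil))) .nil))) .nil))) .nil))) (.node 2 (.node 0 (.node 0 (.node 1 (.node 1 (.node 0 (.node 2 .nil .nil) (.node 2 .nil .nil)) (.node 2 (.node 2 .nil .nil) .nil)) (.node 2 (.node 1 (.node 0 (.node 1 .nil .nil) (.node 1 (.node 0 .nil .nil) .nil)) .nil) .nil)) (.node 1 (.node 1 (.node 1 (.node 0 .nil (.node 1 (.node 0 .nil (.node 2 .nil .nil)) (.node 2 .nil .nil))) (.node 2 (.node 2 (.node 0 .nil (.node 1 .nil .nil)) .nil) .nil)) (.node 2 (.node 0 .nil (.node 1 (.node 2 .nil .nil) (.node 2 (.node 0 (.node 1 .nil .nil) .nil) .nil))) .nil)) (.node 2 (.node 0 (.node 1 (.node 0 (.node 2 .nil .nil) (.node 2 .nil .nil)) .nil) (.node 1 (.node 0 (.node 2 .nil .nil)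 (.node 2 (.node 0 .nil .nil) .nil)) .nil)) .nil))) (.node 1 (.node 0 (.node 1 (.node 0 (.node 2 .nil .nil) (.node 2 .nil .nil)) (.node 2 (.node 0 .nil (.node 1 (.node 2 (.node 2 .nil .nil) .nil) (.node 2 (.node 0 .nil (.node 1 .nil (.node 2 .nil .nil))) .nil))) .nil)) (.node 1 (.node 0 (.node 1 (.node 2 .nil .nil) (.node 2 (.node 0 .nil (.node 1 .nil .nil)) .nil)) (.node 1 (.node 0 (.node 1 (.node 1 .nil .nil) (.node 2 (.node 0 .nil .nil) .nil)) (.node 1 (.node 1 .nil .nil) (.node 2 .nil .nil))) (.node 2 (.node 1 (.node 0 .nil (.node 2 .nil .nil)) (.node 2 (.node 2 .nil .nil) .nil)) .nil))) (.node 2 (.node 2 (.node 0 (.node 0 .nil (.node 2 .nil .nil)) (.node 1 (.node 2 .nil .nil) .nil)) .nil) .nil))) .nil)) .nil)))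

set_option maxRecDepth 20000 in
/-- Orbit forest. -/
def treeYSex2 : OrbTree := (.node 0 (.node 0 (.node 1 (.node 0 (.node 0 (.node 2 (.node 0 (.node 0 (.node 2 .nil .nil) .nil) (.node 1 .nil (.node 2 (.node 2 .nil .nil) .nil))) .nil) (.node 1 (.node 0 (.node 0 (.node 2 .nil .nil) (.node 2 (.node 2 .nil .nil) .nil)) (.node 2 (.node 1 .nil (.node 2 .nil .nil)) .nil)) (.node 2 (.node 1 (.node 1 .nil .nil) (.node 2 (.node 0 (.node 2 .nil .nil) (.node 1 (.node 0 .nil (.node 1 .nil .nil)) .nil)) .nil)) .nil))) (.node 1 (.node 0 (.node 0 (.node 1 (.node 0 .nil .nil) (.node 2 .nil .nil)) (.node 1 (.node 0 .nil (.node 1 .nil .nil)) (.node 2 (.node 0 (.node 1 .nil .nil) (.node 1 .nil .nil)) .nil))) (.node 1 (.node 0 (.node 0 .nil .nil) (.node 1 (.node 0 (.node 2 .nil .nil) (.node 2 (.node 0 .nil .nil) .nil)) (.node 2 (.node 1 .nil .nil) .nil))) (.node 2 (.node 0 (.node 0 (.node 2 .nil .nil) (.node 2 .nil .nil))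 (.node 1 (.node 2 .nil .nil) (.node 2 (.node 1 (.node 1 .nil (.node 2 .nil .nil)) .nil) .nil))) .nil))) (.node 2 (.node 0 (.node 0 (.node 1 .nil (.node 2 .nil .nil)) (.node 1 (.node 0 .nil (.node 2 .nil .nil)) (.node 2 .nil .nil))) (.node 1 (.node 0 (.node 0 .nil (.node 1 .nil (.node 2 .nil .nil))) (.node 1 (.node 0 (.node 1 .nil .nil) (.node 1 .nil .nil)) (.node 2 (.node 0 .nil (.node 2 .nil .nil)) .nil))) (.node 2 (.node 1 (.node 1 .nil .nil) (.node 2 (.node 0 (.node 1 .nil .nil) .nil) .nil)) .nil))) .nil))) (.node 2 (.node 0 (.node 0 (.node 1 (.node 0 (.node 2 .nil .nil) (.node 2 (.node 0 .nil .nil) .nil)) .nil) (.node 1 (.node 1 (.node 1 .nil (.node 2 .nil .nil)) (.node 2 (.node 2 .nil .nil) .nil)) (.node 2 (.node 0 (.node 2 (.node 1 .nil .nil) .nil) (.node 1 .nil (.node 2 (.node 0 (.node 1 .nil .nil) (.node 1 .nil (.node 2 .nil .nil))) .nil))) .nil))) (.node 1 (.node 0 (.node 0 (.node 2 .nil .nil)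 (.node 2 (.node 1 (.node 2 .nil .nil) .nil) .nil)) (.node 1 (.node 0 (.node 1 .nil (.node 2 (.node 0 .nil .nil) .nil)) (.node 1 (.node 0 (.node 1 .nil .nil) (.node 1 .nil .nil)) (.node 2 (.node 0 .nil (.node 1 .nil (.node 2 .nil .nil))) .nil))) (.node 2 (.node 0 (.node 0 (.node 1 .nil .nil) (.node 1 .nil (.node 2 .nil .nil))) (.node 1 .nil (.node 2 (.node 1 (.node 0 .nil .nil) .nil) .nil))) .nil))) (.node 2 (.node 0 (.node 0 (.node 1 (.node 1 .nil .nil) (.node 2 .nil .nil)) (.node 2 (.node 0 (.node 0 .nil .nil) (.node 1 .nil (.node 2 .nil .nil))) .nil)) (.node 1 (.node 0 .nil (.node 1 (.node 0 .nil .nil) (.node 2 (.node 1 (.node 2 .nil .nil) (.node 2 .nil .nil)) .nil))) (.node 2 (.node 0 (.node 0 (.node 2 .nil .nil) .nil) (.node 1 (.node 0 .nil (.node 1 .nil (.node 2 (.node 2 .nil .nil) .nil))) .nil)) .nil))) .nil))) .nil)) (.node 1 (.node 0 (.node 0 (.node 1 (.node 0 (.node 0 .nil .nil) (.node 1 (.node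 1 .nil .nil) (.node 2 (.node 0 .nil (.node 1 .nil (.node 2 (.node 2 .nil .nil) .nil))) .nil))) (.node 2 (.node 0 .nil (.node 1 (.node 0 (.node 0 .nil .nil) (.node 1 (.node 0 .nil .nil) (.node 2 .nil .nil))) .nil)) .nil)) (.node 1 (.node 0 (.node 1 (.node 0 .nil .nil) (.node 2 (.node 0 .nil (.node 1 .nil .nil)) .nil)) (.node 1 (.node 0 (.node 0 (.node 2 (.node 1 .nil .nil) .nil) (.node 1 (.node 1 .nil .nil) .nil)) .nil) (.node 2 (.node 0 (.node 1 (.node 1 .nil .nil) .nil) (.node 2 (.node 1 .nil .nil) .nil)) .nil))) (.node 2 (.node 0 (.node 1 .nil .nil) (.node 2 (.node 0 .nil (.node 1 (.node 0 .nil (.node 1 .nil (.node 2 .nil .nil))) (.node 2 (.node 0 .nil .nil) .nil))) .nil)) .nil))) (.node 1 (.node 0 (.node 0 (.node 1 (.node 0 .nil .nil) (.node 2 (.node 2 .nil .nil) .nil)) (.node 1 (.node 0 .nil (.node 1 (.node 0 .nil (.node 1 .nil (.node 2 (.node 2 .nil .nil) .nil))) (.node 2 .nil .nil))) (.node 2 (.node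 0 (.node 0 (.node 1 .nil .nil) (.node 1 (.node 2 .nil .nil) (.node 2 (.node 0 .nil (.node 1 .nil .nil)) .nil))) (.node 1 .nil (.node 2 (.node 0 .nil (.node 2 (.node 1 .nil .nil) .nil)) .nil))) .nil))) (.node 1 (.node 0 (.node 0 (.node 1 .nil (.node 2 .nil .nil)) (.node 1 (.node 0 .nil (.node 2 .nil .nil)) (.node 2 .nil .nil))) (.node 1 (.node 0 (.node 2 (.node 0 .nil .nil) .nil) (.node 1 (.node 0 .nil (.node 1 .nil (.node 2 .nil .nil))) (.node 2 .nil .nil))) (.node 2 (.node 0 (.node 1 (.node 2 .nil .nil) (.node 2 .nil .nil)) (.node 1 .nil .nil)) .nil))) (.node 2 (.node 0 (.node 1 (.node 1 .nil (.node 2 .nil .nil)) (.node 2 (.node 0 .nil (.node 2 .nil .nil)) .nil)) (.node 1 (.node 0 .nil (.node 1 (.node 1 .nil .nil) (.node 2 (.node 2 .nil .nil) .nil))) (.node 2 (.node 1 (.node 0 .nil (.node 1 .nil .nil)) (.node 2 (.node 0 .nil (.node 1 .nil (.node 2 (.node 1 .nil .nil) .nil))) .nil)) .nil))) .nil))) (.node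 2 (.node 0 (.node 0 (.node 1 (.node 0 .nil .nil) (.node 2 (.node 0 .nil (.node 1 .nil .nil)) .nil)) (.node 1 (.node 0 .nil (.node 1 (.node 0 .nil (.node 1 (.node 1 .nil .nil) .nil)) (.node 2 (.node 0 (.node 2 .nil .nil) (.node 1 .nil (.node 2 .nil .nil))) .nil))) (.node 2 (.node 1 (.node 2 .nil .nil) .nil) .nil))) (.node 1 (.node 0 (.node 0 (.node 2 .nil .nil) (.node 2 (.node 2 .nil .nil) .nil)) (.node 1 (.node 0 (.node 2 (.node 0 .nil .nil) .nil) (.node 1 (.node 0 (.node 2 .nil .nil) .nil) (.node 2 (.node 0 .nil (.node 1 (.node 2 .nil .nil) .nil)) .nil))) (.node 2 (.node 0 (.node 1 .nil .nil) (.node 1 (.node 1 .nil .nil) (.node 2 (.node 0 .nil .nil) .nil))) .nil))) (.node 2 (.node 0 (.node 0 (.node 1 .nil .nil) (.node 1 (.node 0 (.node 2 .nil .nil) (.node 1 .nil .nil)) .nil)) (.node 1 (.node 1 (.node 0 (.node 2 .nil .nil) .nil) (.node 2 .nil .nil)) (.node 2 (.node 0 (.node 1 (.node 0 .nil .nil) (.node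 2 (.node 1 .nil .nil) .nil)) (.node 2 (.node 1 .nil .nil) .nil)) .nil))) .nil))) .nil))) (.node 2 (.node 0 (.node 0 (.node 1 (.node 2 (.node 0 .nil (.node 1 .nil .nil)) .nil) (.node 2 (.node 0 (.node 1 .nil (.node 2 .nil .nil)) (.node 1 (.node 2 (.node 0 .nil .nil) .nil) .nil)) .nil)) (.node 1 (.node 0 (.node 0 .nil (.node 1 (.node 1 .nil .nil) (.node 2 (.node 0 .nil (.node 1 .nil .nil)) .nil))) (.node 1 (.node 1 (.node 0 .nil (.node 1 .nil .nil)) (.node 2 (.node 0 (.node 2 .nil .nil) (.node 1 (.node 1 .nil .nil) (.node 2 .nil .nil))) .nil)) (.node 2 (.node 0 .nil .nil) .nil))) (.node 2 (.node 0 (.node 1 (.node 1 .nil .nil) (.node 2 .nil .nil)) (.node 1 (.node 0 .nil (.node 1 .nil (.node 2 (.node 0 .nil (.node 1 .nil (.node 2 .nil .nil))) .nil))) .nil)) .nil))) (.node 1 (.node 0 (.node 1 (.node 1 .nil .nil) (.node 2 (.node 0 .nil (.node 1 (.node 2 .nil .nil) .nil)) .nil)) (.node 1 (.node 0 (.node 1 (.node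 0 .nil (.node 1 .nil (.node 2 .nil .nil))) (.node 2 (.node 0 .nil (.node 1 .nil .nil)) .nil)) (.node 1 (.node 0 .nil (.node 1 (.node 0 .nil (.node 1 (.node 0 .nil .nil) .nil)) .nil)) (.node 2 (.node 0 (.node 0 (.node 1 .nil .nil) (.node 1 .nil (.node 2 .nil .nil))) (.node 1 (.node 0 .nil (.node 2 (.node 0 .nil (.node 2 .nil .nil)) .nil)) (.node 2 (.node 0 .nil (.node 1 .nil .nil)) .nil))) .nil))) (.node 2 (.node 0 (.node 0 (.node 1 .nil .nil) (.node 1 (.node 1 .nil .nil) (.node 2 (.node 1 .nil (.node 2 (.node 0 .nil .nil) .nil)) .nil))) (.node 1 (.node 0 (.node 1 (.node 1 .nil .nil) (.node 2 (.node 0 .nil .nil) .nil)) (.node 1 (.node 2 .nil .nil) (.node 2 (.node 2 .nil .nil) .nil))) (.node 2 (.node 0 (.node 0 .nil .nil) (.node 1 (.node 1 .nil (.node 2 .nil .nil)) (.node 2 (.node 1 .nil .nil) .nil))) .nil))) .nil))) (.node 2 (.node 0 (.node 0 (.node 2 .nil .nil) (.node 1 (.node 1 (.node 1 .nil (.node 2 .nil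 .nil)) (.node 2 (.node 1 .nil (.node 2 .nil .nil)) .nil)) (.node 2 (.node 1 (.node 2 (.node 2 .nil .nil) .nil) (.node 2 (.node 0 .nil (.node 1 .nil (.node 2 .nil .nil))) .nil)) .nil))) (.node 1 (.node 0 (.node 0 .nil (.node 1 .nil (.node 2 (.node 0 (.node 2 .nil .nil) (.node 1 .nil .nil)) .nil))) (.node 1 (.node 0 .nil .nil) .nil)) .nil)) .nil))) .nil))) (.node 1 (.node 0 (.node 0 (.node 1 (.node 0 (.node 0 .nil (.node 1 (.node 1 .nil (.node 2 .nil .nil)) (.node 2 .nil .nil))) (.node 1 (.node 1 (.node 1 .nil .nil) .nil) (.node 2 (.node 1 (.node 2 (.node 0 .nil .nil) .nil) .nil) .nil))) (.node 2 (.node 0 (.node 0 .nil (.node 1 (.node 2 (.node 1 .nil .nil) .nil) (.node 2 (.node 0 .nil .nil) .nil))) (.node 1 (.node 0 .nil (.node 1 (.node 0 .nil (.node 1 .nil (.node 2 .nil .nil))) .nil)) (.node 2 (.node 0 .nil (.node 2 (.node 0 .nil (.node 1 .nil (.node 2 (.node 1 .nil .nil) .nil))) .nil)) .nil))) .nil)) (.node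 1 (.node 0 (.node 0 (.node 1 (.node 0 .nil .nil) (.node 2 (.node 1 .nil .nil) .nil)) (.node 1 (.node 0 .nil (.node 1 (.node 0 .nil .nil) (.node 2 (.node 0 .nil (.node 1 .nil .nil)) .nil))) (.node 2 (.node 1 (.node 2 .nil .nil) .nil) .nil))) (.node 1 (.node 0 (.node 1 (.node 0 (.node 0 .nil (.node 2 .nil .nil)) .nil) (.node 2 (.node 2 .nil .nil) .nil)) (.node 1 (.node 0 (.node 1 .nil .nil) (.node 1 (.node 1 .nil .nil) (.node 2 (.node 0 .nil .nil) .nil))) (.node 2 (.node 0 .nil (.node 1 (.node 1 .nil (.node 2 .nil .nil)) .nil)) .nil))) (.node 2 (.node 0 (.node 0 .nil (.node 1 (.node 0 (.node 1 .nil .nil) .nil) .nil)) (.node 1 (.node 0 (.node 0 .nil (.node 1 .nil (.node 2 .nil .nil))) (.node 2 (.node 1 .nil (.node 2 .nil .nil)) .nil)) .nil)) .nil))) (.node 2 (.node 0 (.node 0 (.node 2 (.node 1 .nil .nil) .nil) (.node 1 (.node 0 .nil (.node 1 .nil .nil)) (.node 2 (.node 1 (.node 0 .nil (.node 1 .nil .nil))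 .nil) .nil))) (.node 1 (.node 0 (.node 0 .nil .nil) (.node 1 (.node 0 (.node 0 .nil (.node 1 .nil (.node 2 .nil .nil))) (.node 2 (.node 0 .nil (.node 1 .nil .nil)) .nil)) (.node 2 (.node 1 (.node 0 .nil .nil) (.node 2 (.node 0 .nil (.node 2 .nil .nil)) .nil)) .nil))) (.node 2 (.node 0 (.node 0 .nil (.node 1 .nil (.node 2 .nil .nil))) (.node 1 (.node 0 (.node 1 .nil .nil) (.node 1 (.node 0 (.node 1 .nil (.node 2 .nil .nil)) .nil) (.node 2 (.node 2 (.node 1 .nil .nil) .nil) .nil))) (.node 2 (.node 0 .nil (.node 2 (.node 0 .nil .nil) .nil)) .nil))) .nil))) .nil))) (.node 1 (.node 0 (.node 0 (.node 1 (.node 0 .nil (.node 2 (.node 1 (.node 0 .nil .nil) (.node 2 .nil .nil)) .nil)) (.node 2 (.node 0 (.node 2 .nil .nil) (.node 1 .nil .nil)) .nil)) (.node 1 (.node 1 (.node 0 (.node 0 .nil (.node 1 (.node 0 .nil .nil) .nil)) (.node 2 (.node 0 .nil (.node 2 .nil .nil)) .nil)) (.node 2 (.node 0 (.node 0 .nil .nil)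 (.node 2 .nil .nil)) .nil)) (.node 2 (.node 0 (.node 0 (.node 1 .nil (.node 2 .nil .nil)) (.node 1 (.node 0 .nil .nil) (.node 2 (.node 0 .nil (.node 2 .nil .nil)) .nil))) (.node 1 (.node 0 (.node 0 .nil (.node 2 .nil .nil)) (.node 1 (.node 1 .nil (.node 2 .nil .nil)) .nil)) (.node 2 (.node 0 (.node 0 .nil .nil) (.node 2 .nil .nil)) .nil))) .nil))) (.node 1 (.node 0 (.node 1 (.node 0 (.node 1 .nil (.node 2 (.node 1 .nil .nil) .nil)) (.node 2 (.node 2 .nil .nil) .nil)) (.node 2 (.node 1 (.node 0 .nil (.node 2 .nil .nil)) .nil) .nil)) (.node 1 (.node 2 (.node 0 (.node 2 .nil .nil) (.node 1 (.node 0 (.node 0 .nil .nil) .nil) .nil)) .nil) (.node 2 (.node 0 (.node 0 (.node 1 (.node 1 .nil .nil) (.node 2 .nil .nil)) (.node 1 .nil (.node 2 (.node 0 .nil (.node 1 .nil .nil)) .nil))) (.node 1 (.node 0 .nil (.node 2 (.node 2 .nil .nil) .nil)) .nil)) .nil))) .nil)) (.node 2 (.node 0 (.node 0 (.node 1 (.node 0 .nil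 (.node 1 (.node 0 .nil .nil) (.node 2 (.node 0 .nil .nil) .nil))) (.node 2 (.node 0 (.node 1 .nil .nil) (.node 1 (.node 2 .nil .nil) (.node 2 .nil .nil))) .nil)) (.node 1 (.node 0 (.node 2 .nil .nil) (.node 1 (.node 0 (.node 0 .nil (.node 1 .nil .nil)) (.node 1 (.node 2 .nil .nil) .nil)) (.node 2 (.node 0 .nil (.node 1 .nil (.node 2 (.node 0 .nil .nil) .nil))) .nil))) (.node 2 (.node 0 (.node 0 (.node 1 .nil .nil) (.node 2 .nil .nil)) (.node 2 (.node 0 (.node 1 .nil (.node 2 .nil .nil)) (.node 1 (.node 0 .nil (.node 1 .nil .nil)) (.node 2 (.node 2 .nil .nil) .nil))) .nil)) .nil))) (.node 1 (.node 0 (.node 1 (.node 0 .nil (.node 2 (.node 0 .nil .nil) .nil)) (.node 2 (.node 1 (.node 0 .nil (.node 2 .nil .nil)) .nil) .nil)) (.node 1 (.node 0 (.node 0 .nil (.node 1 (.node 0 .nil .nil) .nil)) (.node 1 (.node 0 (.node 2 .nil .nil) (.node 2 .nil .nil)) (.node 2 (.node 0 .nil (.node 1 .nil .nil)) .nil))) (.node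 2 (.node 2 (.node 0 .nil .nil) .nil) .nil))) (.node 2 (.node 0 (.node 0 (.node 1 (.node 0 .nil .nil) (.node 2 (.node 1 .nil .nil) .nil)) (.node 1 (.node 0 .nil (.node 1 (.node 0 .nil (.node 1 .nil .nil)) .nil)) (.node 2 (.node 0 (.node 2 .nil .nil) (.node 1 .nil .nil)) .nil))) (.node 1 (.node 0 (.node 0 .nil (.node 1 (.node 1 .nil .nil) (.node 2 (.node 2 .nil .nil) .nil))) (.node 1 (.node 0 .nil (.node 1 (.node 2 .nil .nil) (.node 2 (.node 2 .nil .nil) .nil))) (.node 2 (.node 0 (.node 0 .nil .nil) (.node 1 .nil (.node 2 .nil .nil))) .nil))) (.node 2 (.node 0 .nil (.node 1 (.node 2 (.node 2 .nil .nil) .nil) (.node 2 (.node 0 (.node 1 .nil .nil) .nil) .nil))) .nil))) .nil))) .nil))) (.node 2 (.node 0 (.node 0 (.node 1 (.node 0 (.node 2 (.node 2 .nil .nil) .nil) (.node 1 (.node 0 .nil (.node 2 (.node 0 .nil (.node 1 .nil .nil)) .nil)) (.node 2 (.node 2 (.node 1 .nil .nil) .nil) .nil))) (.node 2 (.node 0 (.node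 1 .nil (.node 2 .nil .nil)) (.node 1 (.node 1 (.node 0 .nil .nil) (.node 2 (.node 1 .nil .nil) .nil)) (.node 2 (.node 2 .nil .nil) .nil))) .nil)) (.node 1 (.node 0 (.node 1 (.node 1 .nil (.node 2 .nil .nil)) (.node 2 (.node 0 (.node 0 .nil (.node 2 .nil .nil)) (.node 1 (.node 2 .nil .nil) .nil)) .nil)) (.node 1 (.node 1 (.node 0 .nil .nil) (.node 2 (.node 0 (.node 0 .nil .nil) .nil) .nil)) (.node 2 (.node 1 (.node 1 .nil (.node 2 (.node 1 .nil (.node 2 .nil .nil)) .nil)) (.node 2 (.node 0 .nil (.node 1 .nil (.node 2 .nil .nil))) .nil)) .nil))) (.node 2 (.node 0 (.node 0 (.node 1 (.node 0 .nil (.node 1 .nil .nil)) (.node 2 (.node 1 .nil .nil) .nil)) (.node 1 (.node 0 (.node 0 .nil (.node 1 .nil .nil)) (.node 1 (.node 2 .nil .nil) (.node 2 .nil .nil))) (.node 2 (.node 2 (.node 0 .nil (.node 2 .nil .nil)) .nil) .nil))) (.node 1 (.node 0 (.node 0 (.node 1 .nil .nil) (.node 1 (.node 1 .nil .nil) (.node 2 .nil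 .nil))) (.node 2 (.node 0 .nil (.node 2 (.node 0 .nil (.node 1 .nil (.node 2 .nil .nil))) .nil)) .nil)) (.node 2 (.node 0 (.node 1 .nil (.node 2 (.node 1 .nil .nil) .nil)) (.node 1 (.node 0 .nil (.node 2 .nil .nil)) (.node 2 (.node 1 (.node 0 .nil .nil) (.node 2 (.node 2 .nil .nil) .nil)) .nil))) .nil))) .nil))) (.node 1 (.node 0 (.node 0 (.node 1 (.node 0 (.node 1 .nil .nil) (.node 2 (.node 1 .nil .nil) .nil)) (.node 2 (.node 0 (.node 2 .nil .nil) (.node 1 .nil (.node 2 (.node 0 .nil .nil) .nil))) .nil)) (.node 1 (.node 0 (.node 0 (.node 1 (.node 0 .nil .nil) .nil) (.node 2 .nil .nil)) (.node 1 (.node 0 (.node 1 .nil .nil) (.node 2 (.node 0 .nil .nil) .nil)) (.node 2 (.node 0 (.node 0 .nil .nil) (.node 2 (.node 0 .nil (.node 1 .nil (.node 2 .nil .nil))) .nil)) .nil))) (.node 2 (.node 0 (.node 0 .nil (.node 1 .nil (.node 2 (.node 0 .nil (.node 1 .nil .nil)) .nil))) (.node 1 (.node 0 .nil (.node 2 (.node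 0 .nil .nil) .nil)) .nil)) .nil))) (.node 1 (.node 0 (.node 0 (.node 2 .nil .nil) (.node 2 (.node 0 .nil .nil) .nil)) (.node 1 (.node 0 (.node 1 (.node 2 .nil .nil) (.node 2 (.node 2 .nil .nil) .nil)) (.node 2 (.node 0 (.node 0 .nil (.node 2 .nil .nil)) (.node 1 .nil .nil)) .nil)) (.node 2 (.node 0 (.node 0 (.node 1 .nil (.node 2 .nil .nil)) .nil) (.node 1 (.node 2 (.node 1 .nil .nil) .nil) .nil)) .nil))) (.node 2 (.node 1 (.node 0 (.node 1 (.node 2 .nil .nil) (.node 2 (.node 0 .nil (.node 1 .nil .nil)) .nil)) (.node 1 (.node 1 .nil (.node 2 .nil .nil)) (.node 2 (.node 1 (.node 0 .nil .nil) (.node 2 .nil .nil)) .nil))) (.node 2 (.node 0 (.node 0 (.node 1 .nil .nil) (.node 1 .nil (.node 2 (.node 0 .nil .nil) .nil))) (.node 1 (.node 1 .nil (.node 2 (.node 2 .nil .nil) .nil)) .nil)) .nil)) .nil))) (.node 2 (.node 0 (.node 0 (.node 1 (.node 0 .nil (.node 2 .nil .nil)) (.node 2 (.node 0 (.node 2 .nil .nil) (.node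 1 (.node 0 .nil .nil) (.node 2 .nil .nil))) .nil)) (.node 1 (.node 0 (.node 2 .nil .nil) (.node 2 (.node 0 (.node 1 .nil .nil) .nil) .nil)) (.node 2 (.node 0 (.node 2 .nil .nil) (.node 1 (.node 2 .nil .nil) .nil)) .nil))) (.node 1 (.node 0 (.node 0 (.node 1 (.node 2 .nil .nil) (.node 2 (.node 0 .nil .nil) .nil)) (.node 1 (.node 0 .nil (.node 1 (.node 0 .nil (.node 2 .nil .nil)) (.node 2 (.node 0 .nil .nil) .nil))) (.node 2 (.node 0 (.node 2 .nil .nil) (.node 2 (.node 0 .nil .nil) .nil)) .nil))) (.node 1 (.node 1 (.node 0 (.node 0 .nil .nil) (.node 1 .nil (.node 2 .nil .nil))) (.node 2 (.node 1 .nil .nil) .nil)) (.node 2 (.node 0 (.node 1 (.node 0 .nil (.node 1 .nil .nil)) (.node 2 (.node 1 .nil .nil) .nil)) (.node 2 .nil .nil)) .nil))) (.node 2 (.node 0 (.node 0 .nil (.node 2 (.node 0 (.node 1 .nil .nil) (.node 1 (.node 1 (.node 0 .nil .nil) .nil) .nil)) .nil)) (.node 1 (.node 0 (.node 1 (.node 1 .nil .nil)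 (.node 2 (.node 1 .nil .nil) .nil)) (.node 1 (.node 0 (.node 0 .nil .nil) (.node 1 (.node 1 .nil .nil) (.node 2 .nil .nil))) (.node 2 (.node 0 .nil (.node 2 .nil .nil)) .nil))) (.node 2 (.node 0 (.node 1 .nil (.node 2 (.node 1 .nil .nil) .nil)) (.node 2 (.node 1 (.node 0 (.node 0 .nil .nil) .nil) .nil) .nil)) .nil))) .nil))) .nil))) .nil)))

/-- Orbits. -/
def partsYSex : List Part := [(treeYSex0, [432, 84032, 925696, 1050116, 6295560, 8421379], 9, 21), (treeYSex1, [15, 5264, 622848, 3416064, 4196928, 8536096], 5, 630), (treeYSex2, [29, 5250, 346112, 663616, 5275680, 10486528], 3, 1120)]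

set_option maxRecDepth 20000 in
/-- Forest of all trios. -/
def treeTrios : OrbTree := (.node 0 (.node 0 (.node 0 (.node 0 (.node 0 (.node 0 (.node 0 (.node 0 (.node 0 (.node 1 .nil .nil) (.node 1 (.node 0 .nil (.node 2 .nil .nil)) (.node 2 (.node 0 .nil .nil) .nil))) (.node 1 .nil .nil)) (.node 1 .nil .nil)) (.node 1 (.node 0 (.node 2 (.node 0 .nil (.node 2 (.node 0 (.node 0 .nil .nil) (.node 2 (.node 0 (.node 1 .nil .nil) .nil) .nil)) .nil)) .nil) (.node 2 (.node 0 (.node 0 .nil (.node 1 (.node 0 .nil .nil) .nil)) (.node 2 (.node 0 (.node 0 (.node 1 .nil (.node 2 .nil .nil)) (.node 2 (.node 2 .nil .nil) .nil)) (.node 2 .nil .nil)) .nil)) .nil)) (.node 2 (.node 0 (.node 0 (.node 1 (.node 2 (.node 2 .nil .nil) .nil) (.node 2 (.node 0 .nil (.node 2 .nil .nil)) .nil)) (.node 1 (.node 0 (.node 1 .nil (.node 2 .nil .nil)) (.node 2 (.node 2 (.node 0 .nil (.node 2 .nil .nil)) .nil) .nil)) (.node 2 (.node 0 (.node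 0 .nil .nil) (.node 2 (.node 2 (.node 0 (.node 2 .nil .nil) (.node 2 .nil .nil)) .nil) .nil)) .nil))) (.node 2 (.node 0 (.node 0 (.node 0 .nil (.node 1 (.node 2 .nil .nil) (.node 2 .nil .nil))) (.node 1 .nil .nil)) (.node 2 (.node 0 (.node 1 .nil .nil) .nil) .nil)) .nil)) .nil))) (.node 1 (.node 0 (.node 0 (.node 0 (.node 0 (.node 0 (.node 2 .nil .nil) (.node 2 .nil .nil)) (.node 2 (.node 0 .nil (.node 2 .nil .nil)) .nil)) (.node 1 .nil .nil)) (.node 1 (.node 2 (.node 0 (.node 0 .nil (.node 1 .nil .nil)) (.node 2 (.node 0 .nil (.node 2 (.node 0 .nil .nil) .nil)) .nil)) .nil) (.node 2 (.node 0 (.node 0 (.node 0 .nil .nil) .nil) (.node 2 (.node 2 (.node 0 .nil .nil) .nil) .nil)) .nil))) (.node 2 (.node 0 (.node 0 (.node 0 (.node 0 .nil (.node 1 .nil .nil)) (.node 1 .nil (.node 2 (.node 2 .nil .nil) .nil))) (.node 1 (.node 0 (.node 1 (.node 2 .nil .nil) (.node 2 .nil .nil)) (.node 2 (.node 0 .nil (.node 2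 (.node 0 .nil .nil) .nil)) .nil)) (.node 2 (.node 0 (.node 0 (.node 1 .nil .nil) .nil) (.node 2 .nil .nil)) .nil))) (.node 2 (.node 0 (.node 0 .nil (.node 1 .nil (.node 2 (.node 0 (.node 2 .nil .nil) .nil) .nil))) (.node 2 (.node 0 (.node 2 .nil .nil) (.node 2 .nil .nil)) .nil)) .nil)) .nil)) (.node 2 (.node 0 (.node 0 (.node 0 (.node 0 (.node 0 .nil .nil) (.node 2 (.node 0 (.node 0 .nil .nil) (.node 2 .nil .nil)) .nil)) (.node 1 .nil .nil)) (.node 1 (.node 0 (.node 0 (.node 1 .nil .nil) (.node 1 (.node 2 .nil .nil) (.node 2 (.node 0 .nil .nil) .nil))) (.node 2 (.node 0 (.node 0 .nil .nil) (.node 2 (.node 0 .nil (.node 2 .nil .nil)) .nil)) .nil)) (.node 2 (.node 0 (.node 0 (.node 1 (.node 0 .nil .nil) (.node 2 .nil .nil)) (.node 1 (.node 2 (.node 2 .nil .nil) .nil) (.node 2 (.node 0 .nil (.node 2 (.node 2 .nil .nil) .nil)) .nil))) (.node 2 (.node 0 (.node 1 .nil .nil) (.node 2 (.node 0 .nil .nil) .nil))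 .nil)) .nil))) (.node 2 (.node 0 (.node 0 (.node 1 (.node 0 .nil (.node 2 .nil .nil)) (.node 2 (.node 2 (.node 2 (.node 0 .nil .nil) .nil) .nil) .nil)) (.node 1 (.node 0 .nil .nil) (.node 2 .nil .nil))) (.node 2 (.node 0 (.node 1 (.node 0 .nil (.node 2 .nil .nil)) (.node 2 (.node 2 .nil .nil) .nil)) (.node 2 (.node 0 (.node 0 (.node 2 .nil .nil) (.node 1 .nil .nil)) .nil) .nil)) .nil)) .nil)) .nil))) (.node 1 (.node 0 (.node 2 (.node 0 (.node 0 .nil (.node 1 (.node 0 (.node 1 .nil .nil) .nil) (.node 2 (.node 0 (.node 2 .nil .nil) (.node 2 (.node 0 (.node 2 .nil .nil) .nil) .nil)) .nil))) (.node 2 (.node 2 (.node 0 (.node 0 (.node 0 .nil (.node 1 .nil .nil)) (.node 1 .nil .nil)) (.node 2 (.node 0 .nil .nil) .nil)) .nil) .nil)) .nil) (.node 2 (.node 0 (.node 0 (.node 0 (.node 1 .nil .nil) (.node 2 (.node 0 .nil .nil) .nil)) (.node 1 (.node 2 (.node 0 (.node 1 .nil .nil) (.node 2 .nil .nil)) .nil) (.node 2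 (.node 0 (.node 0 (.node 2 .nil .nil) (.node 1 (.node 2 .nil .nil) (.node 2 .nil .nil))) (.node 2 .nil .nil)) .nil))) (.node 2 (.node 0 (.node 0 (.node 0 .nil (.node 1 (.node 0 (.node 0 .nil .nil) (.node 2 (.node 2 .nil .nil) .nil)) (.node 2 (.node 2 .nil .nil) .nil))) (.node 1 .nil (.node 2 (.node 0 .nil (.node 2 .nil .nil)) .nil))) (.node 2 (.node 2 .nil .nil) .nil)) .nil)) .nil)) (.node 2 (.node 0 (.node 0 (.node 0 (.node 0 (.node 1 .nil .nil) (.node 1 (.node 0 (.node 1 .nil (.node 2 .nil .nil)) .nil) (.node 2 (.node 0 (.node 1 .nil (.node 2 .nil .nil)) (.node 2 (.node 2 .nil .nil) .nil)) .nil))) (.node 1 (.node 0 (.node 0 (.node 0 (.node 1 .nil .nil) .nil) (.node 1 .nil (.node 2 .nil .nil))) (.node 2 (.node 0 (.node 1 (.node 2 .nil .nil) (.node 2 .nil .nil)) .nil) .nil)) (.node 2 (.node 0 (.node 0 .nil (.node 1 .nil .nil)) (.node 2 (.node 0 (.node 0 .nil (.node 1 .nil .nil)) .nil) .nil)) .nil))) (.node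 1 (.node 0 (.node 0 (.node 0 (.node 0 (.node 2 .nil .nil) (.node 1 .nil .nil)) (.node 1 .nil .nil)) (.node 1 (.node 2 (.node 0 .nil .nil) .nil) (.node 2 (.node 0 (.node 2 .nil .nil) .nil) .nil))) (.node 2 (.node 0 (.node 0 (.node 0 (.node 2 .nil .nil) (.node 1 (.node 2 .nil .nil) (.node 2 (.node 0 .nil .nil) .nil))) (.node 2 (.node 0 .nil .nil) .nil)) (.node 2 (.node 0 .nil (.node 2 (.node 2 .nil .nil) .nil)) .nil)) .nil)) (.node 2 (.node 2 (.node 0 (.node 0 (.node 0 (.node 1 .nil .nil) (.node 1 .nil .nil)) .nil) (.node 2 (.node 2 .nil .nil) .nil)) .nil) .nil))) (.node 2 (.node 0 (.node 0 (.node 0 (.node 0 (.node 0 .nil (.node 1 .nil (.node 2 .nil .nil))) .nil) (.node 1 (.node 0 (.node 0 .nil (.node 1 .nil (.node 2 .nil .nil))) (.node 2 (.node 0 .nil .nil) .nil)) (.node 2 (.node 0 .nil .nil) .nil))) (.node 1 (.node 0 (.node 1 (.node 2 .nil .nil) (.node 2 (.node 0 (.node 1 .nil .nil) .nil) .nil)) (.node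 2 (.node 0 (.node 0 .nil (.node 1 .nil (.node 2 .nil .nil))) .nil) .nil)) (.node 2 (.node 0 (.node 1 (.node 0 .nil (.node 2 .nil .nil)) (.node 2 (.node 0 (.node 0 .nil .nil) (.node 2 (.node 2 .nil .nil) .nil)) .nil)) (.node 2 (.node 0 (.node 0 .nil (.node 1 .nil .nil)) (.node 2 .nil .nil)) .nil)) .nil))) (.node 2 (.node 0 (.node 0 (.node 0 (.node 2 .nil .nil) (.node 1 .nil .nil)) (.node 1 (.node 0 (.node 1 .nil (.node 2 (.node 0 .nil (.node 2 .nil .nil)) .nil)) (.node 2 .nil .nil)) (.node 2 (.node 0 (.node 0 .nil .nil) (.node 2 (.node 2 .nil .nil) .nil)) .nil))) (.node 2 (.node 0 (.node 0 .nil (.node 1 .nil (.node 2 (.node 0 (.node 2 .nil .nil) (.node 2 .nil .nil)) .nil))) .nil) .nil)) .nil)) .nil)) .nil))) (.node 1 (.node 0 (.node 0 (.node 0 (.node 0 (.node 0 (.node 0 (.node 2 .nil .nil) (.node 2 .nil .nil)) (.node 1 (.node 2 (.node 0 .nil (.node 2 (.node 2 .nil .nil) .nil)) .nil) (.node 2 (.node 0 (.node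 0 (.node 0 .nil .nil) (.node 1 .nil .nil)) (.node 2 (.node 0 .nil (.node 2 .nil .nil)) .nil)) .nil))) (.node 2 (.node 0 (.node 0 (.node 1 (.node 0 .nil .nil) .nil) (.node 1 (.node 2 (.node 2 .nil .nil) .nil) (.node 2 (.node 0 .nil (.node 2 .nil .nil)) .nil))) (.node 2 (.node 0 (.node 1 .nil .nil) .nil) .nil)) .nil)) (.node 1 (.node 0 (.node 0 (.node 1 (.node 2 (.node 0 .nil .nil) .nil) (.node 2 (.node 0 .nil .nil) .nil)) (.node 1 .nil .nil)) (.node 2 (.node 0 (.node 1 (.node 0 (.node 1 .nil .nil) (.node 2 (.node 0 .nil .nil) .nil)) (.node 2 (.node 0 .nil .nil) .nil)) (.node 2 .nil .nil)) .nil)) (.node 2 (.node 0 (.node 0 (.node 0 (.node 1 .nil .nil) (.node 2 (.node 2 .nil .nil) .nil)) (.node 1 (.node 0 (.node 2 .nil .nil) (.node 2 .nil .nil)) (.node 2 (.node 2 (.node 0 (.node 2 .nil .nil) (.node 2 .nil .nil)) .nil) .nil))) (.node 2 (.node 0 (.node 2 (.node 0 .nil (.node 2 .nil .nil)) .nil) .nil) .nil))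 .nil))) (.node 1 (.node 2 (.node 0 (.node 0 (.node 0 .nil (.node 1 (.node 0 (.node 0 .nil .nil) .nil) .nil)) (.node 1 (.node 0 (.node 0 (.node 1 .nil .nil) (.node 1 .nil .nil)) (.node 2 (.node 0 (.node 0 .nil (.node 2 .nil .nil)) .nil) .nil)) (.node 2 (.node 0 (.node 0 (.node 2 .nil .nil) (.node 1 .nil .nil)) (.node 2 (.node 0 .nil .nil) .nil)) .nil))) (.node 2 (.node 0 .nil (.node 2 (.node 0 (.node 0 .nil .nil) (.node 2 (.node 0 (.node 1 .nil .nil) .nil) .nil)) .nil)) .nil)) .nil) (.node 2 (.node 0 (.node 0 (.node 1 (.node 2 .nil .nil) (.node 2 (.node 0 (.node 0 .nil .nil) .nil) .nil)) (.node 1 (.node 2 (.node 2 .nil .nil) .nil) (.node 2 (.node 0 (.node 0 (.node 2 (.node 2 .nil .nil) .nil) (.node 2 (.node 0 .nil .nil) .nil)) (.node 2 (.node 0 (.node 0 .nil (.node 1 .nil .nil)) .nil) .nil)) .nil))) (.node 2 (.node 0 (.node 1 (.node 0 .nil .nil) (.node 2 (.node 0 (.node 2 .nil .nil) (.node 2 (.node 0 .nil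 (.node 2 .nil .nil)) .nil)) .nil)) (.node 2 (.node 0 (.node 0 (.node 0 (.node 1 .nil .nil) (.node 2 .nil .nil)) (.node 1 (.node 0 (.node 0 .nil .nil) (.node 2 .nil .nil)) (.node 2 .nil .nil))) (.node 2 (.node 0 .nil .nil) .nil)) .nil)) .nil)) .nil))) (.node 2 (.node 0 (.node 0 (.node 0 (.node 1 (.node 0 (.node 1 .nil .nil) (.node 2 .nil .nil)) (.node 2 (.node 0 .nil (.node 2 .nil .nil)) .nil)) (.node 1 (.node 0 (.node 2 .nil .nil) (.node 2 (.node 0 (.node 2 .nil .nil) .nil) .nil)) (.node 2 (.node 2 (.node 0 (.node 0 .nil (.node 1 .nil .nil)) .nil) .nil) .nil))) (.node 1 (.node 0 (.node 0 (.node 0 (.node 0 .nil .nil) (.node 1 .nil (.node 2 (.node 0 (.node 0 .nil .nil) .nil) .nil))) (.node 1 .nil (.node 2 (.node 2 .nil .nil) .nil))) (.node 2 (.node 2 (.node 0 (.node 0 (.node 2 .nil .nil) .nil) .nil) .nil) .nil)) (.node 2 (.node 0 (.node 0 (.node 0 .nil (.node 1 (.node 0 .nil .nil) (.node 2 .nil .nil))) (.node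 1 (.node 0 .nil (.node 2 (.node 0 .nil .nil) .nil)) (.node 2 (.node 0 (.node 0 .nil (.node 2 .nil .nil)) .nil) .nil))) (.node 2 (.node 0 (.node 0 (.node 0 (.node 0 .nil (.node 2 .nil .nil)) (.node 1 .nil .nil)) (.node 1 .nil (.node 2 .nil .nil))) .nil) .nil)) .nil))) (.node 2 (.node 0 (.node 0 (.node 0 (.node 0 .nil (.node 1 (.node 2 .nil .nil) (.node 2 .nil .nil))) (.node 1 (.node 2 .nil .nil) (.node 2 (.node 0 (.node 2 (.node 2 .nil .nil) .nil) (.node 2 (.node 0 (.node 0 .nil (.node 1 .nil .nil)) (.node 2 .nil .nil)) .nil)) .nil))) (.node 1 (.node 0 .nil .nil) .nil)) (.node 2 (.node 0 (.node 0 (.node 2 .nil .nil) (.node 2 (.node 0 (.node 2 .nil .nil) .nil) .nil)) (.node 2 (.node 0 (.node 0 (.node 1 (.node 0 .nil .nil) .nil) (.node 2 .nil .nil)) .nil) .nil)) .nil)) .nil)) .nil)) (.node 2 (.node 0 (.node 0 (.node 0 (.node 0 (.node 0 (.node 0 (.node 0 .nil (.node 2 .nil .nil)) (.node 1 (.node 0 .nil (.node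 2 .nil .nil)) (.node 2 .nil .nil))) (.node 1 (.node 0 .nil (.node 2 (.node 2 .nil .nil) .nil)) (.node 2 (.node 0 (.node 0 .nil (.node 2 .nil .nil)) (.node 2 (.node 2 .nil .nil) .nil)) .nil))) (.node 1 (.node 2 .nil .nil) (.node 2 (.node 0 (.node 0 (.node 0 (.node 0 .nil .nil) .nil) (.node 2 .nil .nil)) (.node 2 (.node 2 .nil .nil) .nil)) .nil))) (.node 1 (.node 0 (.node 0 (.node 0 (.node 2 .nil .nil) (.node 2 (.node 0 (.node 2 .nil .nil) (.node 2 (.node 2 .nil .nil) .nil)) .nil)) (.node 1 (.node 2 (.node 2 .nil .nil) .nil) (.node 2 (.node 0 (.node 1 .nil .nil) (.node 2 (.node 0 .nil (.node 2 .nil .nil)) .nil)) .nil))) (.node 2 (.node 0 (.node 0 (.node 2 .nil .nil) (.node 2 .nil .nil)) (.node 2 (.node 0 (.node 1 .nil .nil) (.node 2 .nil .nil)) .nil)) .nil)) (.node 2 (.node 0 (.node 0 (.node 1 .nil .nil) (.node 2 (.node 0 .nil .nil) .nil)) (.node 2 (.node 0 (.node 1 (.node 0 (.node 0 .nil .nil) (.node 2 .nil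 .nil)) (.node 2 (.node 0 .nil (.node 2 .nil .nil)) .nil)) (.node 2 (.node 0 (.node 2 .nil .nil) (.node 2 (.node 0 .nil .nil) .nil)) .nil)) .nil)) .nil))) (.node 1 (.node 0 (.node 0 (.node 0 (.node 2 .nil .nil) (.node 1 (.node 2 (.node 0 .nil (.node 2 .nil .nil)) .nil) (.node 2 (.node 2 .nil .nil) .nil))) (.node 1 (.node 2 (.node 0 .nil (.node 2 (.node 2 .nil .nil) .nil)) .nil) (.node 2 (.node 0 (.node 0 .nil (.node 1 (.node 0 .nil (.node 2 .nil .nil)) (.node 2 .nil .nil))) (.node 2 (.node 0 .nil (.node 2 .nil .nil)) .nil)) .nil))) (.node 2 (.node 0 (.node 0 (.node 0 (.node 0 (.node 2 .nil .nil) .nil) (.node 2 (.node 0 .nil (.node 2 (.node 2 .nil .nil) .nil)) .nil)) (.node 2 (.node 0 (.node 1 .nil .nil) (.node 2 (.node 2 .nil .nil) .nil)) .nil)) (.node 2 (.node 0 (.node 0 (.node 1 .nil .nil) (.node 1 .nil .nil)) .nil) .nil)) .nil)) (.node 2 (.node 0 (.node 0 (.node 0 (.node 0 (.node 0 .nil (.node 1 .nil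 .nil)) (.node 1 (.node 0 .nil .nil) .nil)) (.node 1 (.node 0 (.node 2 .nil .nil) (.node 2 .nil .nil)) (.node 2 (.node 0 (.node 2 .nil .nil) .nil) .nil))) (.node 1 (.node 0 .nil (.node 2 (.node 0 .nil (.node 2 (.node 2 .nil .nil) .nil)) .nil)) (.node 2 (.node 0 (.node 2 (.node 2 .nil .nil) .nil) (.node 2 (.node 0 (.node 0 (.node 1 .nil .nil) (.node 2 .nil .nil)) (.node 2 (.node 0 .nil .nil) .nil)) .nil)) .nil))) (.node 2 (.node 0 (.node 0 (.node 2 (.node 0 .nil .nil) .nil) (.node 2 .nil .nil)) .nil) .nil)) .nil))) (.node 2 (.node 0 (.node 0 (.node 0 (.node 0 (.node 1 .nil (.node 2 (.node 0 .nil (.node 2 .nil .nil)) .nil)) (.node 1 (.node 0 (.node 0 .nil (.node 2 .nil .nil)) (.node 2 (.node 2 .nil .nil) .nil)) (.node 2 (.node 0 (.node 1 (.node 2 .nil .nil) (.node 2 .nil .nil)) (.node 2 .nil .nil)) .nil))) (.node 1 (.node 0 (.node 1 .nil .nil) (.node 2 (.node 0 (.node 2 .nil .nil) (.node 2 .nil .nil)) .nil))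 (.node 2 (.node 0 (.node 0 .nil (.node 1 (.node 2 .nil .nil) (.node 2 .nil .nil))) (.node 2 (.node 0 (.node 0 .nil (.node 1 .nil (.node 2 .nil .nil))) (.node 2 (.node 2 .nil .nil) .nil)) .nil)) .nil))) (.node 1 (.node 0 (.node 0 (.node 0 (.node 0 (.node 0 .nil (.node 2 .nil .nil)) (.node 1 .nil .nil)) (.node 1 (.node 0 (.node 2 .nil .nil) (.node 2 .nil .nil)) (.node 2 (.node 2 .nil .nil) .nil))) (.node 1 .nil (.node 2 (.node 2 (.node 0 .nil (.node 2 (.node 2 .nil .nil) .nil)) .nil) .nil))) (.node 2 (.node 0 (.node 1 .nil (.node 2 (.node 0 .nil (.node 2 .nil .nil)) .nil)) (.node 2 (.node 0 (.node 0 .nil .nil) .nil) .nil)) .nil)) (.node 2 (.node 0 (.node 0 (.node 0 (.node 0 .nil (.node 2 .nil .nil)) (.node 2 (.node 0 .nil .nil) .nil)) (.node 2 (.node 0 (.node 0 .nil (.node 1 .nil (.node 2 .nil .nil))) (.node 2 .nil .nil)) .nil)) (.node 2 (.node 0 (.node 0 (.node 2 .nil .nil) (.node 1 (.node 2 .nil .nil) (.node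 2 (.node 2 (.node 2 .nil .nil) .nil) .nil))) (.node 2 (.node 0 (.node 2 .nil .nil) (.node 2 (.node 0 .nil .nil) .nil)) .nil)) .nil)) .nil))) (.node 2 (.node 0 (.node 1 (.node 0 (.node 0 .nil (.node 2 (.node 0 .nil .nil) .nil)) (.node 2 (.node 0 .nil .nil) .nil)) (.node 2 (.node 0 (.node 0 (.node 1 (.node 0 .nil .nil) (.node 2 .nil .nil)) .nil) (.node 2 (.node 0 (.node 2 .nil .nil) (.node 2 (.node 0 (.node 0 .nil .nil) (.node 2 .nil .nil)) .nil)) .nil)) .nil)) (.node 2 (.node 0 (.node 0 (.node 1 (.node 0 .nil .nil) .nil) (.node 1 .nil .nil)) .nil) .nil)) .nil)) .nil)) .nil))) (.node 1 (.node 0 (.node 0 (.node 0 (.node 0 (.node 0 (.node 0 (.node 0 (.node 0 .nil .nil) (.node 2 (.node 2 .nil .nil) .nil)) (.node 1 (.node 0 (.node 0 .nil (.node 2 .nil .nil)) (.node 2 (.node 0 .nil (.node 2 (.node 2 .nil .nil) .nil)) .nil)) (.node 2 (.node 0 (.node 2 .nil .nil) (.node 2 (.node 2 (.node 0 .nil .nil) .nil) .nil))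 .nil))) (.node 1 (.node 2 (.node 2 (.node 2 (.node 2 .nil .nil) .nil) .nil) .nil) (.node 2 (.node 0 (.node 2 (.node 0 .nil .nil) .nil) (.node 2 (.node 2 (.node 0 .nil (.node 2 (.node 0 .nil .nil) .nil)) .nil) .nil)) .nil))) (.node 1 (.node 0 (.node 0 (.node 1 (.node 2 .nil .nil) (.node 2 (.node 2 .nil .nil) .nil)) (.node 1 .nil .nil)) (.node 2 (.node 0 (.node 1 .nil (.node 2 .nil .nil)) (.node 2 (.node 0 (.node 1 .nil .nil) .nil) .nil)) .nil)) (.node 2 (.node 0 (.node 0 (.node 0 (.node 1 .nil .nil) (.node 1 .nil (.node 2 (.node 2 .nil .nil) .nil))) (.node 1 (.node 0 (.node 0 .nil .nil) (.node 2 .nil .nil)) (.node 2 (.node 0 (.node 0 .nil (.node 2 .nil .nil)) (.node 2 (.node 2 (.node 0 .nil .nil) .nil) .nil)) .nil))) (.node 2 .nil .nil)) .nil))) (.node 1 (.node 0 (.node 0 (.node 0 (.node 0 (.node 2 .nil .nil) (.node 1 .nil .nil)) (.node 1 (.node 0 (.node 0 .nil .nil) (.node 2 (.node 0 .nil .nil) .nil)) (.node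 2 (.node 0 .nil (.node 2 (.node 0 (.node 2 .nil .nil) .nil) .nil)) .nil))) (.node 1 (.node 2 (.node 0 (.node 1 .nil .nil) (.node 2 (.node 2 (.node 0 .nil .nil) .nil) .nil)) .nil) (.node 2 (.node 0 (.node 0 .nil (.node 2 (.node 2 .nil .nil) .nil)) (.node 2 (.node 0 (.node 1 .nil .nil) (.node 2 (.node 0 (.node 1 .nil .nil) .nil) .nil)) .nil)) .nil))) (.node 2 (.node 0 (.node 0 (.node 1 .nil (.node 2 (.node 2 .nil .nil) .nil)) (.node 1 (.node 0 .nil (.node 2 (.node 0 (.node 0 .nil .nil) .nil) .nil)) (.node 2 (.node 0 (.node 1 .nil .nil) .nil) .nil))) (.node 2 (.node 0 (.node 1 .nil (.node 2 (.node 2 .nil .nil) .nil)) (.node 2 (.node 0 .nil (.node 2 .nil .nil)) .nil)) .nil)) .nil)) (.node 2 (.node 0 (.node 0 (.node 0 (.node 2 (.node 0 .nil .nil) .nil) (.node 1 (.node 0 (.node 0 .nil (.node 2 .nil .nil)) (.node 2 (.node 0 .nil .nil) .nil)) (.node 2 (.node 2 (.node 2 .nil .nil) .nil) .nil))) (.node 1 (.node 0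 (.node 2 (.node 0 .nil .nil) .nil) (.node 2 (.node 0 (.node 0 (.node 2 .nil .nil) .nil) (.node 2 (.node 0 .nil .nil) .nil)) .nil)) (.node 2 (.node 0 (.node 0 (.node 0 (.node 2 .nil .nil) (.node 2 .nil .nil)) (.node 2 .nil .nil)) (.node 2 (.node 2 (.node 0 .nil .nil) .nil) .nil)) .nil))) (.node 2 (.node 0 (.node 0 (.node 0 .nil (.node 2 (.node 0 .nil .nil) .nil)) (.node 2 (.node 0 (.node 0 .nil (.node 1 .nil (.node 2 .nil .nil))) (.node 2 (.node 0 (.node 0 .nil .nil) (.node 2 .nil .nil)) .nil)) .nil)) (.node 2 (.node 0 (.node 0 .nil (.node 1 (.node 2 .nil .nil) (.node 2 .nil .nil))) (.node 2 (.node 0 (.node 1 .nil .nil) .nil) .nil)) .nil)) .nil)) .nil))) (.node 1 (.node 2 (.node 2 (.node 0 (.node 2 (.node 0 (.node 0 .nil .nil) (.node 2 .nil .nil)) .nil) (.node 2 (.node 0 (.node 0 (.node 0 .nil (.node 1 .nil .nil)) (.node 1 (.node 2 .nil .nil) (.node 2 (.node 0 .nil .nil) .nil))) (.node 2 (.node 0 (.node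 0 (.node 2 .nil .nil) (.node 1 (.node 2 .nil .nil) (.node 2 .nil .nil))) .nil) .nil)) .nil)) .nil) .nil) (.node 2 (.node 0 (.node 0 (.node 1 (.node 0 (.node 1 (.node 2 .nil .nil) (.node 2 (.node 0 .nil .nil) .nil)) (.node 2 (.node 0 (.node 2 .nil .nil) (.node 2 .nil .nil)) .nil)) (.node 2 (.node 0 (.node 0 .nil (.node 1 (.node 2 .nil .nil) (.node 2 .nil .nil))) (.node 2 (.node 0 (.node 2 (.node 2 .nil .nil) .nil) .nil) .nil)) .nil)) (.node 1 (.node 0 (.node 1 (.node 2 (.node 0 (.node 2 .nil .nil) .nil) .nil) (.node 2 (.node 0 (.node 0 (.node 0 .nil .nil) (.node 1 .nil .nil)) .nil) .nil)) (.node 2 (.node 0 (.node 0 (.node 0 .nil (.node 1 (.node 2 .nil .nil) (.node 2 .nil .nil))) (.node 1 .nil (.node 2 .nil .nil))) (.node 2 (.node 2 (.node 0 .nil (.node 2 .nil .nil)) .nil) .nil)) .nil)) (.node 2 (.node 0 (.node 0 (.node 0 (.node 1 .nil (.node 2 .nil .nil)) (.node 2 (.node 0 .nil .nil) .nil)) (.node 1 (.node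 0 .nil (.node 2 (.node 0 .nil .nil) .nil)) (.node 2 (.node 0 (.node 1 .nil .nil) .nil) .nil))) (.node 2 (.node 0 (.node 0 (.node 0 (.node 0 .nil (.node 2 .nil .nil)) (.node 2 .nil .nil)) (.node 1 (.node 2 .nil .nil) (.node 2 .nil .nil))) (.node 2 (.node 0 (.node 0 .nil .nil) (.node 2 .nil .nil)) .nil)) .nil)) .nil))) (.node 2 (.node 0 (.node 0 (.node 0 (.node 0 .nil (.node 1 (.node 0 .nil .nil) (.node 2 (.node 2 (.node 0 .nil .nil) .nil) .nil))) (.node 1 (.node 2 (.node 0 .nil (.node 2 .nil .nil)) .nil) (.node 2 (.node 0 (.node 2 .nil .nil) (.node 2 .nil .nil)) .nil))) (.node 1 (.node 0 (.node 1 .nil (.node 2 (.node 0 .nil .nil) .nil)) (.node 2 (.node 0 (.node 0 .nil .nil) .nil) .nil)) (.node 2 (.node 0 (.node 2 .nil .nil) .nil) .nil))) (.node 2 (.node 0 (.node 0 .nil (.node 2 (.node 0 .nil (.node 2 (.node 2 .nil .nil) .nil)) .nil)) (.node 2 (.node 0 (.node 0 (.node 0 .nil (.node 1 .nil (.node 2 .nil .nil)))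 (.node 1 (.node 2 .nil .nil) (.node 2 (.node 0 .nil (.node 2 .nil .nil)) .nil))) .nil) .nil)) .nil)) .nil)) .nil))) (.node 2 (.node 0 (.node 0 (.node 0 (.node 0 (.node 0 (.node 0 (.node 0 .nil (.node 1 .nil (.node 2 .nil .nil))) (.node 1 (.node 2 .nil .nil) (.node 2 .nil .nil))) (.node 1 (.node 0 (.node 0 .nil .nil) (.node 2 (.node 0 .nil .nil) .nil)) (.node 2 (.node 0 (.node 1 .nil .nil) .nil) .nil))) (.node 1 (.node 0 (.node 0 (.node 1 .nil .nil) (.node 1 .nil .nil)) .nil) (.node 2 (.node 2 (.node 0 (.node 0 .nil (.node 2 (.node 0 .nil .nil) .nil)) (.node 2 (.node 2 .nil .nil) .nil)) .nil) .nil))) (.node 1 (.node 2 (.node 2 (.node 2 .nil .nil) .nil) .nil) (.node 2 (.node 0 (.node 0 (.node 2 (.node 2 (.node 0 .nil .nil) .nil) .nil) (.node 2 (.node 0 .nil (.node 2 .nil .nil)) .nil)) (.node 2 (.node 0 (.node 1 (.node 2 (.node 0 .nil .nil) .nil) (.node 2 (.node 0 (.node 0 .nil .nil) .nil) .nil)) (.node 2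 (.node 0 (.node 0 .nil (.node 1 .nil (.node 2 .nil .nil))) .nil) .nil)) .nil)) .nil))) (.node 1 (.node 0 (.node 0 (.node 0 .nil (.node 1 .nil (.node 2 (.node 2 (.node 2 (.node 0 .nil .nil) .nil) .nil) .nil))) (.node 1 (.node 2 (.node 0 (.node 2 .nil .nil) (.node 2 (.node 0 .nil (.node 2 .nil .nil)) .nil)) .nil) (.node 2 (.node 2 (.node 0 .nil (.node 2 (.node 2 .nil .nil) .nil)) .nil) .nil))) (.node 2 (.node 0 (.node 0 (.node 1 (.node 2 .nil .nil) (.node 2 (.node 0 .nil .nil) .nil)) (.node 1 (.node 0 (.node 1 .nil .nil) (.node 2 (.node 2 .nil .nil) .nil)) (.node 2 (.node 0 (.node 2 .nil .nil) (.node 2 (.node 0 .nil .nil) .nil)) .nil))) (.node 2 (.node 0 (.node 1 .nil (.node 2 (.node 0 .nil .nil) .nil)) (.node 2 (.node 2 .nil .nil) .nil)) .nil)) .nil)) (.node 2 (.node 0 (.node 0 (.node 0 (.node 0 (.node 0 (.node 1 .nil .nil) (.node 2 .nil .nil)) (.node 1 (.node 2 .nil .nil) (.node 2 (.node 2 .nil .nil) .nil)))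 (.node 1 (.node 0 (.node 0 .nil .nil) (.node 2 (.node 2 .nil .nil) .nil)) (.node 2 (.node 0 .nil (.node 2 (.node 2 .nil .nil) .nil)) .nil))) (.node 1 (.node 0 (.node 2 (.node 0 .nil .nil) .nil) .nil) .nil)) (.node 2 (.node 0 (.node 1 (.node 0 .nil (.node 2 (.node 0 .nil .nil) .nil)) (.node 2 (.node 0 (.node 1 .nil (.node 2 (.node 0 .nil .nil) .nil)) (.node 2 (.node 2 .nil .nil) .nil)) .nil)) (.node 2 (.node 0 (.node 0 .nil (.node 1 (.node 0 .nil (.node 2 .nil .nil)) (.node 2 .nil .nil))) (.node 2 .nil .nil)) .nil)) .nil)) .nil))) (.node 2 (.node 0 (.node 0 (.node 0 (.node 0 (.node 0 (.node 2 .nil .nil) .nil) (.node 1 .nil (.node 2 (.node 0 (.node 1 .nil .nil) (.node 2 (.node 0 .nil .nil) .nil)) .nil))) (.node 1 (.node 0 (.node 0 (.node 2 .nil .nil) .nil) (.node 2 (.node 0 (.node 2 .nil .nil) (.node 2 (.node 2 .nil .nil) .nil)) .nil)) (.node 2 (.node 0 (.node 1 .nil .nil) (.node 2 (.node 0 (.node 0 .nil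 (.node 2 .nil .nil)) (.node 2 (.node 2 .nil .nil) .nil)) .nil)) .nil))) (.node 1 (.node 0 (.node 2 (.node 2 (.node 2 .nil .nil) .nil) .nil) .nil) .nil)) (.node 2 (.node 0 (.node 1 (.node 2 (.node 0 (.node 2 .nil .nil) .nil) .nil) (.node 2 (.node 0 (.node 0 (.node 0 (.node 1 .nil .nil) (.node 1 .nil .nil)) (.node 2 .nil .nil)) .nil) .nil)) (.node 2 (.node 0 (.node 0 (.node 0 (.node 2 (.node 2 .nil .nil) .nil) (.node 2 (.node 0 .nil (.node 2 .nil .nil)) .nil)) (.node 2 .nil .nil)) .nil) .nil)) .nil)) .nil)) .nil)) (.node 2 (.node 0 (.node 0 (.node 0 (.node 0 (.node 0 (.node 0 (.node 0 (.node 1 .nil .nil) (.node 1 (.node 0 .nil .nil) (.node 2 .nil .nil))) (.node 1 (.node 0 (.node 2 .nil .nil) .nil) .nil)) (.node 1 (.node 2 (.node 0 (.node 0 .nil .nil) (.node 2 (.node 2 .nil .nil) .nil)) .nil) (.node 2 (.node 0 (.node 0 .nil (.node 1 .nil .nil)) (.node 2 (.node 2 .nil .nil) .nil)) .nil))) (.node 2 (.node 0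 (.node 0 (.node 1 .nil .nil) (.node 2 (.node 0 (.node 0 .nil (.node 1 (.node 0 .nil .nil) .nil)) .nil) .nil)) (.node 2 (.node 0 (.node 0 (.node 1 .nil (.node 2 .nil .nil)) (.node 1 (.node 2 .nil .nil) (.node 2 (.node 2 (.node 2 .nil .nil) .nil) .nil))) (.node 2 (.node 2 .nil .nil) .nil)) .nil)) .nil)) (.node 1 (.node 0 (.node 0 (.node 0 (.node 0 (.node 0 (.node 0 .nil .nil) (.node 1 .nil .nil)) .nil) (.node 2 (.node 0 (.node 0 .nil (.node 2 (.node 2 .nil .nil) .nil)) (.node 2 (.node 2 (.node 2 .nil .nil) .nil) .nil)) .nil)) (.node 1 .nil (.node 2 (.node 0 (.node 0 (.node 0 (.node 2 .nil .nil) (.node 1 .nil .nil)) (.node 1 .nil (.node 2 .nil .nil))) (.node 2 (.node 0 (.node 2 .nil .nil) .nil) .nil)) .nil))) (.node 2 (.node 0 (.node 0 (.node 2 (.node 0 (.node 2 .nil .nil) .nil) .nil) (.node 1 (.node 2 (.node 0 (.node 2 .nil .nil) (.node 2 .nil .nil)) .nil) (.node 2 (.node 0 (.node 2 .nil .nil) (.node 2 .nil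 .nil)) .nil))) .nil) .nil)) (.node 2 (.node 0 (.node 0 (.node 0 (.node 1 .nil (.node 2 (.node 0 .nil .nil) .nil)) (.node 1 (.node 0 (.node 0 .nil .nil) (.node 2 .nil .nil)) (.node 2 (.node 0 (.node 0 (.node 2 .nil .nil) (.node 1 .nil .nil)) (.node 2 (.node 0 .nil .nil) .nil)) .nil))) (.node 1 (.node 0 (.node 0 .nil (.node 2 (.node 0 (.node 1 .nil .nil) (.node 2 .nil .nil)) .nil)) .nil) .nil)) (.node 2 (.node 0 (.node 0 (.node 0 (.node 1 (.node 2 .nil .nil) (.node 2 .nil .nil)) (.node 1 (.node 0 (.node 1 .nil .nil) (.node 2 .nil .nil)) (.node 2 .nil .nil))) (.node 1 .nil (.node 2 (.node 2 (.node 2 (.node 2 .nil .nil) .nil) .nil) .nil))) (.node 2 (.node 0 (.node 1 (.node 0 .nil (.node 2 .nil .nil)) (.node 2 (.node 0 (.node 2 .nil .nil) .nil) .nil)) (.node 2 (.node 0 (.node 0 .nil (.node 2 (.node 0 .nil .nil) .nil)) .nil) .nil)) .nil)) .nil)) .nil))) (.node 1 (.node 0 (.node 0 (.node 0 (.node 0 (.node 0 .nil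 .nil) .nil) (.node 1 (.node 0 (.node 0 (.node 1 (.node 0 .nil .nil) (.node 2 (.node 2 .nil .nil) .nil)) (.node 1 .nil .nil)) (.node 2 (.node 0 .nil .nil) .nil)) (.node 2 (.node 0 (.node 0 .nil (.node 2 .nil .nil)) .nil) .nil))) (.node 1 (.node 2 (.node 0 .nil (.node 2 (.node 0 (.node 0 .nil (.node 2 (.node 0 .nil .nil) .nil)) (.node 2 (.node 2 .nil .nil) .nil)) .nil)) .nil) (.node 2 (.node 0 (.node 1 (.node 2 (.node 0 .nil .nil) .nil) (.node 2 (.node 0 (.node 0 .nil .nil) .nil) .nil)) (.node 2 (.node 2 (.node 0 (.node 2 .nil .nil) (.node 2 (.node 0 .nil .nil) .nil)) .nil) .nil)) .nil))) (.node 2 (.node 0 (.node 0 (.node 0 .nil (.node 1 (.node 2 .nil .nil) (.node 2 (.node 0 (.node 1 .nil .nil) .nil) .nil))) (.node 2 (.node 0 (.node 2 (.node 2 .nil .nil) .nil) (.node 2 .nil .nil)) .nil)) (.node 2 (.node 0 (.node 0 (.node 1 (.node 2 .nil .nil) (.node 2 .nil .nil)) (.node 1 (.node 0 (.node 2 .nil .nil) .nil)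 (.node 2 (.node 0 (.node 1 .nil .nil) (.node 2 (.node 0 .nil (.node 2 .nil .nil)) .nil)) .nil))) (.node 2 (.node 2 (.node 0 .nil .nil) .nil) .nil)) .nil)) .nil)) (.node 2 (.node 0 (.node 0 (.node 0 (.node 0 (.node 0 (.node 0 .nil .nil) (.node 1 .nil (.node 2 (.node 2 .nil .nil) .nil))) (.node 1 (.node 0 (.node 0 .nil (.node 2 .nil .nil)) (.node 2 .nil .nil)) (.node 2 (.node 0 (.node 0 .nil .nil) .nil) .nil))) (.node 1 (.node 0 (.node 0 (.node 0 .nil .nil) .nil) (.node 2 (.node 0 .nil (.node 2 .nil .nil)) .nil)) (.node 2 (.node 0 (.node 0 .nil (.node 2 .nil .nil)) (.node 2 .nil .nil)) .nil))) (.node 1 (.node 0 (.node 0 (.node 0 .nil (.node 1 (.node 2 .nil .nil) (.node 2 .nil .nil))) (.node 1 (.node 2 (.node 0 (.node 0 .nil .nil) .nil) .nil) (.node 2 (.node 2 (.node 2 .nil .nil) .nil) .nil))) (.node 2 (.node 2 (.node 0 (.node 1 .nil .nil) (.node 2 (.node 2 .nil .nil) .nil)) .nil) .nil)) (.node 2 (.node 0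 (.node 0 (.node 0 .nil (.node 1 (.node 0 .nil .nil) .nil)) (.node 1 (.node 0 (.node 0 .nil .nil) .nil) .nil)) (.node 2 (.node 2 (.node 2 .nil .nil) .nil) .nil)) .nil))) (.node 2 (.node 0 (.node 0 (.node 0 (.node 2 (.node 2 .nil .nil) .nil) (.node 1 (.node 0 (.node 0 .nil .nil) .nil) .nil)) (.node 1 (.node 0 (.node 0 (.node 0 .nil .nil) (.node 1 (.node 2 .nil .nil) (.node 2 .nil .nil))) (.node 2 (.node 0 (.node 0 .nil (.node 2 .nil .nil)) .nil) .nil)) (.node 2 (.node 0 (.node 2 .nil .nil) (.node 2 (.node 2 (.node 0 .nil (.node 2 .nil .nil)) .nil) .nil)) .nil))) (.node 2 (.node 0 (.node 0 (.node 0 .nil (.node 2 .nil .nil)) (.node 2 .nil .nil)) (.node 2 .nil .nil)) .nil)) .nil)) .nil))) (.node 2 (.node 0 (.node 0 (.node 0 (.node 0 (.node 0 (.node 0 .nil (.node 2 .nil .nil)) (.node 1 .nil (.node 2 .nil .nil))) (.node 1 (.node 0 (.node 0 (.node 1 .nil .nil) (.node 1 .nil (.node 2 .nil .nil))) (.node 2 (.node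 2 .nil .nil) .nil)) (.node 2 (.node 0 (.node 0 (.node 0 (.node 1 .nil .nil) .nil) (.node 2 (.node 2 .nil .nil) .nil)) (.node 2 (.node 0 (.node 2 (.node 2 .nil .nil) .nil) .nil) .nil)) .nil))) (.node 1 (.node 0 (.node 0 .nil (.node 1 .nil .nil)) (.node 2 (.node 2 (.node 0 (.node 1 .nil (.node 2 .nil .nil)) (.node 2 .nil .nil)) .nil) .nil)) (.node 2 (.node 2 (.node 0 .nil (.node 2 (.node 0 (.node 2 .nil .nil) (.node 2 (.node 0 .nil .nil) .nil)) .nil)) .nil) .nil))) (.node 1 (.node 0 (.node 0 (.node 0 (.node 1 (.node 0 .nil (.node 2 .nil .nil)) (.node 2 (.node 0 .nil .nil) .nil)) (.node 1 (.node 0 (.node 0 .nil .nil) (.node 2 .nil .nil)) (.node 2 (.node 0 (.node 1 .nil (.node 2 .nil .nil)) (.node 2 (.node 2 (.node 2 .nil .nil) .nil) .nil)) .nil))) (.node 1 (.node 2 (.node 0 (.node 1 .nil .nil) .nil) .nil) (.node 2 (.node 0 (.node 0 .nil (.node 1 (.node 0 .nil .nil) (.node 2 .nil .nil))) .nil) .nil))) (.node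 2 (.node 0 (.node 0 (.node 1 .nil (.node 2 .nil .nil)) (.node 1 (.node 0 (.node 1 .nil .nil) (.node 2 (.node 0 .nil (.node 2 .nil .nil)) .nil)) (.node 2 (.node 2 (.node 2 .nil .nil) .nil) .nil))) (.node 2 (.node 0 (.node 0 (.node 0 .nil (.node 1 (.node 0 .nil .nil) (.node 2 .nil .nil))) (.node 1 (.node 0 (.node 1 .nil .nil) .nil) .nil)) (.node 2 (.node 2 .nil .nil) .nil)) .nil)) .nil)) (.node 2 (.node 0 (.node 0 (.node 0 (.node 0 (.node 2 .nil .nil) .nil) (.node 1 (.node 0 (.node 2 .nil .nil) .nil) (.node 2 (.node 0 (.node 1 .nil (.node 2 .nil .nil)) .nil) .nil))) (.node 1 (.node 0 (.node 1 .nil (.node 2 .nil .nil)) (.node 2 (.node 2 .nil .nil) .nil)) (.node 2 (.node 0 (.node 1 (.node 0 .nil (.node 2 (.node 0 .nil .nil) .nil)) (.node 2 .nil .nil)) (.node 2 (.node 0 .nil (.node 2 (.node 2 .nil .nil) .nil)) .nil)) .nil))) (.node 2 (.node 2 (.node 2 .nil .nil) .nil) .nil)) .nil))) (.node 2 (.node 0 (.node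 0 (.node 1 (.node 0 (.node 1 .nil (.node 2 .nil .nil)) (.node 2 (.node 2 (.node 2 .nil .nil) .nil) .nil)) (.node 2 (.node 0 (.node 1 (.node 2 (.node 2 .nil .nil) .nil) (.node 2 (.node 2 .nil .nil) .nil)) (.node 2 (.node 0 .nil (.node 2 .nil .nil)) .nil)) .nil)) (.node 1 (.node 0 (.node 0 (.node 0 (.node 0 .nil (.node 2 .nil .nil)) (.node 1 .nil .nil)) (.node 1 .nil .nil)) .nil) (.node 2 (.node 2 (.node 0 (.node 0 (.node 1 .nil .nil) (.node 1 .nil (.node 2 (.node 2 .nil .nil) .nil))) (.node 2 (.node 2 .nil .nil) .nil)) .nil) .nil))) (.node 2 (.node 0 (.node 0 (.node 0 (.node 1 .nil .nil) (.node 2 (.node 2 (.node 2 (.node 2 .nil .nil) .nil) .nil) .nil)) (.node 1 (.node 0 (.node 0 (.node 0 .nil .nil) .nil) (.node 2 (.node 0 .nil (.node 2 (.node 2 .nil .nil) .nil)) .nil)) (.node 2 (.node 0 (.node 0 (.node 2 .nil .nil) (.node 1 (.node 0 .nil (.node 2 .nil .nil)) (.node 2 .nil .nil))) (.node 2 (.node 0 .nil (.node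 2 (.node 2 .nil .nil) .nil)) .nil)) .nil))) .nil) .nil)) .nil)) .nil)) .nil))) (.node 1 (.node 0 (.node 0 (.node 0 (.node 0 (.node 0 (.node 0 (.node 0 (.node 1 .nil .nil) (.node 1 (.node 2 (.node 2 .nil .nil) .nil) (.node 2 (.node 0 .nil (.node 2 .nil .nil)) .nil))) (.node 1 (.node 2 .nil .nil) (.node 2 .nil .nil))) (.node 2 (.node 0 (.node 0 (.node 0 .nil (.node 1 (.node 0 .nil .nil) .nil)) (.node 1 (.node 2 .nil .nil) (.node 2 (.node 0 .nil .nil) .nil))) (.node 2 (.node 0 (.node 0 (.node 0 .nil (.node 1 .nil .nil)) (.node 2 .nil .nil)) (.node 2 .nil .nil)) .nil)) .nil)) (.node 2 (.node 0 (.node 0 (.node 0 (.node 0 (.node 0 .nil (.node 1 .nil .nil)) (.node 2 (.node 0 .nil .nil) .nil)) (.node 2 (.node 2 .nil .nil) .nil)) (.node 1 (.node 2 (.node 0 .nil (.node 2 .nil .nil)) .nil) (.node 2 (.node 0 (.node 0 (.node 1 .nil .nil) (.node 1 (.node 0 .nil (.node 2 .nil .nil)) (.node 2 .nil .nil))) (.node 2 (.node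 0 .nil .nil) .nil)) .nil))) (.node 2 (.node 0 (.node 0 (.node 0 .nil (.node 1 .nil (.node 2 (.node 2 .nil .nil) .nil))) (.node 2 (.node 0 .nil .nil) .nil)) (.node 2 (.node 0 (.node 0 (.node 0 .nil .nil) (.node 2 (.node 2 .nil .nil) .nil)) .nil) .nil)) .nil)) .nil)) (.node 1 (.node 0 (.node 0 (.node 0 (.node 1 (.node 2 (.node 2 .nil .nil) .nil) (.node 2 (.node 0 (.node 2 .nil .nil) (.node 2 .nil .nil)) .nil)) (.node 1 (.node 0 (.node 0 (.node 0 .nil (.node 2 .nil .nil)) (.node 1 .nil (.node 2 (.node 0 .nil (.node 2 .nil .nil)) .nil))) (.node 2 (.node 0 (.node 0 .nil .nil) (.node 2 .nil .nil)) .nil)) (.node 2 (.node 0 (.node 2 .nil .nil) (.node 2 .nil .nil)) .nil))) (.node 1 (.node 2 (.node 0 (.node 0 .nil (.node 1 .nil .nil)) (.node 2 (.node 0 (.node 1 (.node 0 .nil .nil) .nil) (.node 2 .nil .nil)) .nil)) .nil) (.node 2 (.node 0 (.node 0 (.node 1 .nil (.node 2 (.node 0 .nil .nil) .nil)) (.node 1 (.node 2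 (.node 0 .nil (.node 2 .nil .nil)) .nil) (.node 2 (.node 0 (.node 2 .nil .nil) (.node 2 .nil .nil)) .nil))) (.node 2 (.node 0 (.node 0 (.node 0 .nil (.node 1 (.node 0 .nil .nil) .nil)) (.node 1 (.node 0 .nil .nil) .nil)) (.node 2 (.node 0 (.node 0 .nil (.node 2 .nil .nil)) (.node 2 .nil .nil)) .nil)) .nil)) .nil))) (.node 2 (.node 0 (.node 0 (.node 0 (.node 0 .nil (.node 1 .nil (.node 2 (.node 0 .nil (.node 2 .nil .nil)) .nil))) (.node 1 (.node 0 (.node 0 .nil (.node 1 .nil (.node 2 (.node 0 .nil .nil) .nil))) .nil) (.node 2 .nil .nil))) (.node 1 (.node 0 (.node 0 (.node 2 .nil .nil) .nil) (.node 2 (.node 0 (.node 1 .nil (.node 2 .nil .nil)) (.node 2 .nil .nil)) .nil)) (.node 2 (.node 0 (.node 0 .nil (.node 1 .nil (.node 2 (.node 0 .nil (.node 2 .nil .nil)) .nil))) (.node 2 (.node 0 (.node 0 (.node 1 .nil .nil) .nil) .nil) .nil)) .nil))) (.node 2 (.node 2 (.node 0 (.node 1 (.node 2 .nil .nil) (.node 2 .nil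 .nil)) (.node 2 .nil .nil)) .nil) .nil)) .nil)) (.node 2 (.node 0 (.node 0 (.node 0 (.node 0 (.node 1 .nil (.node 2 .nil .nil)) (.node 1 (.node 0 (.node 0 .nil .nil) .nil) .nil)) (.node 1 (.node 0 (.node 1 .nil (.node 2 .nil .nil)) (.node 2 (.node 0 (.node 0 .nil (.node 2 .nil .nil)) .nil) .nil)) (.node 2 (.node 0 (.node 0 (.node 2 .nil .nil) (.node 1 (.node 2 .nil .nil) (.node 2 .nil .nil))) (.node 2 (.node 2 (.node 0 (.node 2 .nil .nil) .nil) .nil) .nil)) .nil))) (.node 1 (.node 0 (.node 0 (.node 0 (.node 0 .nil (.node 2 (.node 2 .nil .nil) .nil)) (.node 1 .nil .nil)) (.node 1 .nil .nil)) (.node 2 (.node 0 (.node 1 .nil (.node 2 (.node 2 .nil .nil) .nil)) (.node 2 (.node 0 .nil (.node 2 (.node 2 .nil .nil) .nil)) .nil)) .nil)) (.node 2 (.node 0 (.node 0 (.node 1 (.node 2 .nil .nil) (.node 2 .nil .nil)) (.node 1 .nil .nil)) (.node 2 (.node 0 (.node 1 (.node 0 .nil .nil) .nil) (.node 2 (.node 0 (.node 2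 .nil .nil) (.node 2 .nil .nil)) .nil)) .nil)) .nil))) (.node 2 (.node 0 (.node 0 (.node 0 (.node 2 (.node 2 (.node 2 .nil .nil) .nil) .nil) .nil) (.node 1 (.node 0 (.node 0 (.node 0 .nil (.node 2 .nil .nil)) .nil) (.node 2 (.node 0 (.node 0 (.node 0 .nil (.node 1 .nil .nil)) (.node 1 .nil .nil)) (.node 2 (.node 0 .nil .nil) .nil)) .nil)) (.node 2 (.node 0 (.node 0 .nil (.node 1 (.node 0 .nil (.node 2 .nil .nil)) (.node 2 (.node 0 .nil .nil) .nil))) (.node 2 (.node 2 .nil .nil) .nil)) .nil))) (.node 2 (.node 0 (.node 0 (.node 2 (.node 0 .nil .nil) .nil) (.node 1 (.node 2 .nil .nil) (.node 2 (.node 2 (.node 2 .nil .nil) .nil) .nil))) (.node 2 (.node 0 (.node 0 .nil .nil) .nil) .nil)) .nil)) .nil)) .nil))) (.node 1 (.node 0 (.node 0 (.node 0 (.node 0 (.node 0 (.node 0 .nil (.node 2 .nil .nil)) (.node 1 (.node 0 .nil .nil) .nil)) (.node 1 (.node 0 (.node 0 .nil (.node 1 (.node 2 .nil .nil) (.node 2 .nil .nil)))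 (.node 2 (.node 0 .nil .nil) .nil)) (.node 2 (.node 0 (.node 1 (.node 0 .nil .nil) .nil) (.node 2 .nil .nil)) .nil))) (.node 1 (.node 0 (.node 0 (.node 0 .nil .nil) (.node 2 (.node 2 .nil .nil) .nil)) (.node 2 (.node 0 (.node 1 .nil .nil) (.node 2 (.node 0 (.node 2 .nil .nil) (.node 2 .nil .nil)) .nil)) .nil)) (.node 2 (.node 0 (.node 0 (.node 0 (.node 0 .nil (.node 2 .nil .nil)) (.node 1 (.node 0 (.node 2 .nil .nil) .nil) (.node 2 .nil .nil))) (.node 2 .nil .nil)) (.node 2 (.node 2 (.node 0 (.node 0 .nil .nil) .nil) .nil) .nil)) .nil))) (.node 1 (.node 2 (.node 0 (.node 0 (.node 0 (.node 2 (.node 0 .nil .nil) .nil) (.node 1 .nil (.node 2 .nil .nil))) (.node 1 (.node 2 (.node 0 .nil .nil) .nil) (.node 2 (.node 0 .nil (.node 2 .nil .nil)) .nil))) .nil) .nil) (.node 2 (.node 0 (.node 0 (.node 0 (.node 0 (.node 0 .nil (.node 1 .nil .nil)) .nil) (.node 1 (.node 0 .nil .nil) .nil)) (.node 1 (.node 0 (.node 1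 .nil .nil) (.node 2 (.node 0 (.node 0 (.node 0 .nil .nil) (.node 1 .nil .nil)) .nil) .nil)) (.node 2 (.node 0 (.node 0 .nil (.node 1 (.node 2 .nil .nil) (.node 2 (.node 2 .nil .nil) .nil))) (.node 2 (.node 2 (.node 2 .nil .nil) .nil) .nil)) .nil))) (.node 2 (.node 0 (.node 0 (.node 0 (.node 2 .nil .nil) (.node 1 .nil .nil)) (.node 1 (.node 2 (.node 2 .nil .nil) .nil) (.node 2 (.node 0 .nil (.node 2 .nil .nil)) .nil))) (.node 2 (.node 2 (.node 0 (.node 2 .nil .nil) .nil) .nil) .nil)) .nil)) .nil))) (.node 2 (.node 0 (.node 0 (.node 0 (.node 1 (.node 2 .nil .nil) (.node 2 (.node 0 (.node 1 .nil .nil) .nil) .nil)) (.node 1 (.node 2 .nil .nil) (.node 2 (.node 0 (.node 0 .nil (.node 1 (.node 0 .nil .nil) .nil)) (.node 2 (.node 0 (.node 0 .nil .nil) .nil) .nil)) .nil))) (.node 2 (.node 0 (.node 1 (.node 0 (.node 0 .nil (.node 2 (.node 2 .nil .nil) .nil)) .nil) .nil) (.node 2 (.node 0 (.node 1 (.node 0 .nil .nil)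 .nil) (.node 2 .nil .nil)) .nil)) .nil)) (.node 2 (.node 0 (.node 0 (.node 0 (.node 0 (.node 2 (.node 2 .nil .nil) .nil) (.node 1 .nil .nil)) (.node 1 .nil (.node 2 (.node 2 (.node 2 .nil .nil) .nil) .nil))) (.node 2 (.node 0 (.node 0 .nil (.node 1 (.node 2 .nil .nil) (.node 2 (.node 0 .nil .nil) .nil))) .nil) .nil)) (.node 2 (.node 0 (.node 0 (.node 1 (.node 0 .nil (.node 2 .nil .nil)) (.node 2 .nil .nil)) (.node 1 (.node 0 (.node 0 .nil (.node 1 .nil .nil)) .nil) (.node 2 (.node 0 .nil (.node 2 (.node 2 .nil .nil) .nil)) .nil))) (.node 2 (.node 0 (.node 1 .nil .nil) .nil) .nil)) .nil)) .nil)) .nil)) (.node 2 (.node 0 (.node 0 (.node 0 (.node 0 (.node 1 .nil .nil) (.node 1 .nil .nil)) (.node 1 (.node 0 (.node 2 (.node 2 .nil .nil) .nil) (.node 2 .nil .nil)) (.node 2 (.node 0 (.node 1 (.node 0 (.node 0 .nil (.node 2 .nil .nil)) (.node 2 (.node 0 .nil .nil) .nil)) (.node 2 (.node 0 (.node 1 .nil (.node 2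 .nil .nil)) (.node 2 .nil .nil)) .nil)) .nil) .nil))) (.node 1 (.node 0 (.node 0 (.node 2 (.node 0 (.node 2 .nil .nil) (.node 2 .nil .nil)) .nil) (.node 1 .nil .nil)) (.node 2 (.node 0 (.node 0 (.node 1 .nil .nil) (.node 1 (.node 0 (.node 1 .nil .nil) .nil) (.node 2 (.node 0 (.node 2 (.node 0 .nil (.node 2 .nil .nil)) .nil) (.node 2 .nil .nil)) .nil))) (.node 2 (.node 0 (.node 0 .nil (.node 1 (.node 0 .nil (.node 2 .nil .nil)) (.node 2 (.node 0 .nil .nil) .nil))) (.node 2 (.node 2 .nil .nil) .nil)) .nil)) .nil)) (.node 2 (.node 0 (.node 0 (.node 0 (.node 0 (.node 1 .nil .nil) (.node 1 .nil (.node 2 (.node 0 .nil .nil) .nil))) (.node 1 (.node 0 (.node 1 .nil .nil) (.node 2 (.node 0 .nil .nil) .nil)) (.node 2 (.node 2 (.node 2 .nil .nil) .nil) .nil))) (.node 1 (.node 0 (.node 0 (.node 0 .nil (.node 2 .nil .nil)) (.node 2 .nil .nil)) (.node 2 (.node 0 (.node 0 .nil .nil) (.node 2 .nil .nil)) .nil)) (.node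 2 (.node 2 (.node 0 .nil (.node 2 (.node 2 .nil .nil) .nil)) .nil) .nil))) (.node 2 (.node 0 (.node 0 (.node 0 (.node 0 (.node 1 .nil (.node 2 .nil .nil)) .nil) (.node 1 .nil .nil)) (.node 1 (.node 0 .nil .nil) (.node 2 (.node 2 .nil .nil) .nil))) (.node 2 (.node 0 (.node 0 .nil (.node 1 (.node 2 .nil .nil) (.node 2 .nil .nil))) (.node 2 .nil .nil)) .nil)) .nil)) .nil))) (.node 2 (.node 0 (.node 0 (.node 0 (.node 0 (.node 1 .nil .nil) (.node 2 (.node 0 .nil (.node 2 .nil .nil)) .nil)) (.node 1 (.node 2 (.node 0 (.node 1 .nil .nil) .nil) .nil) (.node 2 (.node 0 (.node 0 (.node 1 .nil .nil) (.node 1 (.node 2 .nil .nil) (.node 2 .nil .nil))) (.node 2 (.node 0 (.node 2 .nil .nil) .nil) .nil)) .nil))) (.node 2 (.node 0 (.node 0 (.node 1 (.node 0 .nil .nil) .nil) (.node 1 (.node 0 (.node 1 .nil .nil) (.node 2 (.node 0 .nil (.node 2 .nil .nil)) .nil)) (.node 2 (.node 0 (.node 1 .nil (.node 2 .nil .nil)) (.node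 2 (.node 0 .nil .nil) .nil)) .nil))) .nil) .nil)) (.node 2 (.node 0 (.node 0 (.node 0 (.node 0 .nil (.node 1 (.node 2 .nil .nil) (.node 2 (.node 0 .nil .nil) .nil))) (.node 1 (.node 2 .nil .nil) (.node 2 .nil .nil))) (.node 2 (.node 0 (.node 0 (.node 2 .nil .nil) .nil) (.node 2 .nil .nil)) .nil)) (.node 2 (.node 0 (.node 0 (.node 1 .nil .nil) (.node 1 (.node 0 (.node 1 .nil (.node 2 (.node 0 .nil .nil) .nil)) (.node 2 .nil .nil)) (.node 2 (.node 0 .nil .nil) .nil))) .nil) .nil)) .nil)) .nil)) .nil))) (.node 2 (.node 2 (.node 0 (.node 0 (.node 0 (.node 0 (.node 0 (.node 0 (.node 0 .nil .nil) (.node 2 (.node 2 .nil .nil) .nil)) (.node 1 (.node 0 .nil (.node 2 .nil .nil)) (.node 2 .nil .nil))) (.node 1 (.node 0 .nil (.node 2 (.node 0 (.node 2 .nil .nil) (.node 2 .nil .nil)) .nil)) (.node 2 (.node 2 (.node 0 (.node 0 .nil (.node 2 (.node 0 .nil (.node 2 .nil .nil)) .nil)) .nil) .nil) .nil))) (.node 1 (.node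 0 (.node 0 (.node 0 (.node 2 .nil .nil) (.node 2 (.node 2 .nil .nil) .nil)) (.node 1 .nil .nil)) (.node 2 (.node 0 .nil (.node 2 (.node 2 (.node 2 .nil .nil) .nil) .nil)) .nil)) (.node 2 (.node 0 (.node 0 (.node 0 (.node 1 .nil .nil) .nil) (.node 1 (.node 2 .nil .nil) (.node 2 .nil .nil))) (.node 2 (.node 0 (.node 0 (.node 2 .nil .nil) .nil) (.node 2 (.node 0 (.node 2 .nil .nil) (.node 2 .nil .nil)) .nil)) .nil)) .nil))) (.node 1 (.node 0 (.node 0 (.node 2 .nil .nil) (.node 1 .nil (.node 2 (.node 0 (.node 0 (.node 0 .nil .nil) (.node 2 (.node 2 .nil .nil) .nil)) .nil) .nil))) (.node 2 (.node 0 .nil (.node 2 (.node 0 (.node 0 .nil (.node 1 .nil .nil)) (.node 2 (.node 0 (.node 2 .nil .nil) (.node 2 .nil .nil)) .nil)) .nil)) .nil)) (.node 2 (.node 0 (.node 0 (.node 0 (.node 1 .nil .nil) (.node 1 (.node 0 .nil (.node 2 .nil .nil)) (.node 2 .nil .nil))) (.node 1 (.node 0 (.node 0 .nil (.node 1 (.node 2 .nil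 .nil) (.node 2 (.node 2 .nil .nil) .nil))) (.node 2 (.node 0 (.node 0 .nil .nil) (.node 2 .nil .nil)) .nil)) (.node 2 (.node 0 (.node 1 .nil (.node 2 .nil .nil)) (.node 2 .nil .nil)) .nil))) (.node 2 (.node 0 (.node 0 (.node 2 .nil .nil) (.node 2 (.node 2 (.node 0 .nil (.node 2 .nil .nil)) .nil) .nil)) (.node 2 (.node 0 (.node 2 .nil .nil) (.node 2 (.node 0 (.node 2 .nil .nil) .nil) .nil)) .nil)) .nil)) .nil))) (.node 2 (.node 0 (.node 0 (.node 0 (.node 0 (.node 1 (.node 0 .nil .nil) .nil) (.node 1 (.node 0 (.node 0 .nil (.node 1 .nil .nil)) (.node 2 .nil .nil)) (.node 2 .nil .nil))) (.node 1 (.node 0 (.node 1 (.node 2 .nil .nil) (.node 2 (.node 0 .nil .nil) .nil)) (.node 2 .nil .nil)) (.node 2 (.node 0 (.node 2 .nil .nil) .nil) .nil))) (.node 1 (.node 0 (.node 0 (.node 0 (.node 1 .nil .nil) (.node 1 .nil .nil)) (.node 1 (.node 2 (.node 2 .nil .nil) .nil) (.node 2 (.node 0 (.node 1 .nil (.node 2 .nil .nil))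 (.node 2 .nil .nil)) .nil))) (.node 2 (.node 0 (.node 0 .nil .nil) (.node 2 (.node 0 .nil (.node 2 (.node 0 .nil .nil) .nil)) .nil)) .nil)) (.node 2 (.node 0 (.node 0 (.node 1 (.node 2 .nil .nil) (.node 2 (.node 2 .nil .nil) .nil)) (.node 1 (.node 0 .nil .nil) (.node 2 (.node 0 .nil .nil) .nil))) (.node 2 (.node 0 (.node 1 .nil (.node 2 (.node 0 .nil .nil) .nil)) (.node 2 (.node 0 (.node 0 .nil .nil) .nil) .nil)) .nil)) .nil))) (.node 2 (.node 0 (.node 0 (.node 0 (.node 0 (.node 0 .nil (.node 1 .nil .nil)) (.node 1 .nil .nil)) (.node 1 (.node 2 .nil .nil) (.node 2 (.node 0 .nil .nil) .nil))) (.node 1 (.node 0 (.node 2 (.node 2 (.node 2 .nil .nil) .nil) .nil) (.node 2 (.node 0 .nil (.node 2 (.node 0 .nil .nil) .nil)) .nil)) (.node 2 (.node 0 (.node 0 (.node 1 .nil .nil) (.node 1 .nil .nil)) (.node 2 .nil .nil)) .nil))) .nil) .nil)) .nil)) .nil) .nil)) (.node 2 (.node 0 (.node 0 (.node 0 (.node 0 (.node 0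 (.node 0 .nil (.node 1 (.node 0 (.node 1 (.node 2 .nil .nil) (.node 2 .nil .nil)) (.node 2 (.node 0 .nil .nil) .nil)) (.node 2 (.node 0 (.node 1 .nil .nil) .nil) .nil))) (.node 1 (.node 0 (.node 0 (.node 0 .nil (.node 1 .nil .nil)) (.node 1 (.node 2 (.node 2 .nil .nil) .nil) (.node 2 (.node 0 (.node 0 (.node 1 .nil .nil) (.node 1 .nil .nil)) (.node 2 .nil .nil)) .nil))) .nil) (.node 2 (.node 0 (.node 0 (.node 0 (.node 2 .nil .nil) (.node 1 .nil (.node 2 (.node 2 .nil .nil) .nil))) (.node 1 .nil (.node 2 (.node 2 .nil .nil) .nil))) (.node 2 (.node 0 (.node 0 (.node 1 .nil .nil) (.node 2 .nil .nil)) (.node 2 .nil .nil)) .nil)) .nil))) (.node 1 (.node 0 (.node 0 (.node 0 (.node 0 .nil (.node 1 (.node 0 .nil .nil) .nil)) (.node 1 (.node 2 .nil .nil) (.node 2 .nil .nil))) (.node 1 (.node 2 .nil .nil) (.node 2 (.node 0 (.node 1 .nil .nil) .nil) .nil))) (.node 2 (.node 0 (.node 0 (.node 0 (.node 1 .nil .nil) (.node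 1 (.node 2 .nil .nil) (.node 2 (.node 0 .nil .nil) .nil))) (.node 1 (.node 2 .nil .nil) (.node 2 (.node 0 (.node 1 .nil .nil) .nil) .nil))) (.node 2 (.node 0 (.node 1 .nil (.node 2 (.node 0 .nil .nil) .nil)) (.node 2 (.node 2 .nil .nil) .nil)) .nil)) .nil)) (.node 2 (.node 0 (.node 0 (.node 0 (.node 0 .nil (.node 1 .nil (.node 2 (.node 2 .nil .nil) .nil))) (.node 1 (.node 0 (.node 1 .nil .nil) (.node 2 .nil .nil)) (.node 2 (.node 0 (.node 0 .nil .nil) .nil) .nil))) (.node 1 (.node 0 (.node 0 (.node 2 .nil .nil) .nil) (.node 2 (.node 0 (.node 0 .nil (.node 1 .nil .nil)) (.node 2 .nil .nil)) .nil)) (.node 2 (.node 2 .nil .nil) .nil))) (.node 2 (.node 0 (.node 0 (.node 0 (.node 1 .nil .nil) (.node 2 (.node 2 .nil .nil) .nil)) (.node 2 .nil .nil)) (.node 2 (.node 2 .nil .nil) .nil)) .nil)) .nil))) (.node 1 (.node 0 (.node 0 (.node 0 (.node 1 (.node 0 (.node 1 .nil .nil) .nil) (.node 2 .nil .nil)) (.node 1 (.node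 0 (.node 0 (.node 2 .nil .nil) .nil) (.node 2 (.node 0 (.node 0 .nil (.node 2 .nil .nil)) (.node 2 .nil .nil)) .nil)) (.node 2 (.node 2 (.node 0 (.node 1 .nil .nil) (.node 2 .nil .nil)) .nil) .nil))) (.node 2 (.node 0 (.node 0 (.node 0 (.node 0 .nil (.node 1 .nil .nil)) (.node 1 .nil .nil)) (.node 2 (.node 0 (.node 1 .nil .nil) (.node 2 .nil .nil)) .nil)) (.node 2 (.node 0 (.node 2 (.node 0 .nil .nil) .nil) (.node 2 (.node 0 .nil .nil) .nil)) .nil)) .nil)) (.node 2 (.node 0 (.node 1 (.node 0 (.node 2 (.node 2 .nil .nil) .nil) (.node 2 (.node 0 (.node 0 .nil .nil) (.node 2 .nil .nil)) .nil)) (.node 2 (.node 0 (.node 1 .nil .nil) (.node 2 .nil .nil)) .nil)) (.node 2 (.node 0 (.node 1 (.node 0 (.node 2 .nil .nil) .nil) .nil) (.node 2 (.node 0 (.node 0 .nil (.node 2 (.node 2 .nil .nil) .nil)) .nil) .nil)) .nil)) .nil)) (.node 2 (.node 0 (.node 0 (.node 0 (.node 0 (.node 0 .nil (.node 1 .nil .nil)) (.node 1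 (.node 0 .nil (.node 2 (.node 2 .nil .nil) .nil)) (.node 2 (.node 0 .nil (.node 2 .nil .nil)) .nil))) (.node 1 .nil (.node 2 (.node 2 (.node 0 (.node 0 .nil .nil) (.node 2 (.node 2 .nil .nil) .nil)) .nil) .nil))) (.node 1 (.node 0 (.node 0 (.node 2 .nil .nil) (.node 1 (.node 2 (.node 0 .nil .nil) .nil) (.node 2 .nil .nil))) (.node 2 (.node 0 (.node 0 .nil .nil) (.node 2 (.node 0 .nil .nil) .nil)) .nil)) (.node 2 (.node 0 (.node 0 (.node 0 .nil (.node 2 (.node 0 .nil .nil) .nil)) (.node 2 (.node 0 (.node 0 .nil (.node 2 .nil .nil)) .nil) .nil)) (.node 2 (.node 0 (.node 0 (.node 1 .nil .nil) (.node 2 .nil .nil)) .nil) .nil)) .nil))) (.node 2 (.node 0 (.node 0 (.node 0 (.node 0 (.node 1 .nil (.node 2 .nil .nil)) (.node 1 .nil .nil)) (.node 1 (.node 0 (.node 0 .nil (.node 1 .nil .nil)) (.node 2 (.node 2 .nil .nil) .nil)) (.node 2 (.node 2 .nil .nil) .nil))) (.node 1 (.node 2 .nil .nil) (.node 2 (.node 0 .nil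 (.node 2 .nil .nil)) .nil))) (.node 2 (.node 0 (.node 0 (.node 0 .nil .nil) (.node 1 .nil (.node 2 (.node 0 .nil (.node 2 .nil .nil)) .nil))) .nil) .nil)) .nil)) .nil))) (.node 1 (.node 0 (.node 0 (.node 0 (.node 0 (.node 0 (.node 1 .nil (.node 2 .nil .nil)) (.node 1 (.node 0 (.node 0 .nil .nil) .nil) .nil)) (.node 1 (.node 0 (.node 1 (.node 2 .nil .nil) (.node 2 .nil .nil)) (.node 2 (.node 2 (.node 2 .nil .nil) .nil) .nil)) (.node 2 (.node 0 (.node 2 (.node 0 .nil .nil) .nil) (.node 2 (.node 2 (.node 0 .nil .nil) .nil) .nil)) .nil))) (.node 1 (.node 2 (.node 0 (.node 2 (.node 0 .nil (.node 2 .nil .nil)) .nil) (.node 2 (.node 0 (.node 0 .nil .nil) (.node 2 .nil .nil)) .nil)) .nil) (.node 2 (.node 0 (.node 2 (.node 0 .nil .nil) .nil) (.node 2 (.node 0 (.node 0 (.node 1 .nil .nil) (.node 1 (.node 2 .nil .nil) (.node 2 .nil .nil))) (.node 2 (.node 0 (.node 0 .nil (.node 1 .nil .nil)) (.node 2 .nil .nil)) .nil))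 .nil)) .nil))) (.node 1 (.node 2 (.node 0 (.node 0 (.node 1 .nil .nil) (.node 1 (.node 0 (.node 1 (.node 2 .nil .nil) (.node 2 .nil .nil)) (.node 2 .nil .nil)) (.node 2 (.node 0 (.node 0 .nil .nil) .nil) .nil))) (.node 2 (.node 2 (.node 0 (.node 1 .nil .nil) .nil) .nil) .nil)) .nil) (.node 2 (.node 0 (.node 0 (.node 0 (.node 0 .nil (.node 1 .nil (.node 2 .nil .nil))) (.node 1 (.node 2 .nil .nil) (.node 2 .nil .nil))) (.node 1 (.node 0 (.node 0 (.node 0 .nil .nil) (.node 1 (.node 2 .nil .nil) (.node 2 .nil .nil))) (.node 2 .nil .nil)) (.node 2 .nil .nil))) (.node 2 (.node 0 (.node 0 (.node 1 (.node 0 .nil .nil) (.node 2 .nil .nil)) (.node 1 (.node 2 (.node 2 .nil .nil) .nil) (.node 2 (.node 0 .nil (.node 2 (.node 2 .nil .nil) .nil)) .nil))) (.node 2 .nil .nil)) .nil)) .nil))) (.node 2 (.node 0 (.node 0 (.node 0 (.node 0 (.node 0 (.node 0 .nil (.node 1 .nil .nil)) (.node 1 .nil (.node 2 (.node 2 .nil .nil)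 .nil))) (.node 1 (.node 0 (.node 0 .nil .nil) .nil) .nil)) (.node 1 (.node 0 .nil (.node 2 (.node 0 .nil (.node 2 .nil .nil)) .nil)) (.node 2 (.node 2 .nil .nil) .nil))) (.node 1 (.node 0 (.node 0 (.node 0 .nil (.node 2 (.node 0 .nil .nil) .nil)) (.node 2 (.node 0 .nil (.node 2 .nil .nil)) .nil)) (.node 2 (.node 2 (.node 0 (.node 1 .nil .nil) .nil) .nil) .nil)) (.node 2 (.node 0 .nil (.node 2 (.node 0 (.node 2 .nil .nil) (.node 2 (.node 2 .nil .nil) .nil)) .nil)) .nil))) (.node 2 (.node 0 (.node 0 (.node 0 (.node 0 .nil (.node 2 (.node 2 .nil .nil) .nil)) (.node 1 (.node 0 (.node 0 .nil .nil) .nil) .nil)) (.node 1 (.node 0 (.node 1 .nil (.node 2 .nil .nil)) (.node 2 (.node 0 (.node 1 .nil .nil) (.node 2 .nil .nil)) .nil)) (.node 2 (.node 2 (.node 0 .nil .nil) .nil) .nil))) (.node 2 (.node 0 (.node 0 (.node 0 (.node 2 .nil .nil) (.node 1 (.node 2 .nil .nil) (.node 2 .nil .nil))) (.node 1 .nil (.node 2 (.node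 2 (.node 0 .nil .nil) .nil) .nil))) (.node 2 (.node 0 (.node 1 (.node 0 .nil .nil) .nil) .nil) .nil)) .nil)) .nil)) .nil)) (.node 2 (.node 0 (.node 0 (.node 0 (.node 0 (.node 0 .nil (.node 1 .nil (.node 2 .nil .nil))) (.node 1 (.node 0 (.node 0 (.node 1 .nil .nil) (.node 1 .nil .nil)) (.node 2 (.node 0 (.node 1 .nil .nil) (.node 2 .nil .nil)) .nil)) (.node 2 (.node 0 (.node 2 .nil .nil) (.node 2 (.node 0 .nil .nil) .nil)) .nil))) (.node 1 (.node 0 (.node 0 (.node 0 .nil (.node 2 (.node 0 .nil (.node 2 .nil .nil)) .nil)) (.node 1 (.node 2 .nil .nil) (.node 2 .nil .nil))) (.node 2 (.node 2 (.node 0 .nil (.node 2 (.node 2 .nil .nil) .nil)) .nil) .nil)) (.node 2 (.node 0 (.node 1 (.node 0 (.node 2 .nil .nil) .nil) .nil) (.node 2 (.node 0 (.node 0 .nil .nil) (.node 2 (.node 2 .nil .nil) .nil)) .nil)) .nil))) (.node 1 (.node 0 (.node 0 (.node 0 (.node 0 .nil .nil) (.node 1 (.node 0 .nil .nil) (.node 2 .nil .nil)))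 (.node 1 (.node 2 (.node 2 (.node 0 .nil .nil) .nil) .nil) (.node 2 (.node 0 (.node 0 .nil .nil) (.node 2 .nil .nil)) .nil))) .nil) (.node 2 (.node 2 (.node 2 (.node 0 (.node 0 .nil (.node 2 .nil .nil)) (.node 2 .nil .nil)) .nil) .nil) .nil))) (.node 2 (.node 0 (.node 0 (.node 0 (.node 0 .nil (.node 1 (.node 2 (.node 0 .nil .nil) .nil) (.node 2 .nil .nil))) (.node 2 (.node 0 (.node 0 (.node 2 .nil .nil) (.node 2 .nil .nil)) .nil) .nil)) (.node 1 (.node 0 (.node 0 (.node 0 (.node 0 .nil .nil) (.node 1 .nil (.node 2 .nil .nil))) (.node 1 .nil .nil)) (.node 2 (.node 0 (.node 0 (.node 2 .nil .nil) (.node 2 .nil .nil)) (.node 2 .nil .nil)) .nil)) (.node 2 (.node 2 (.node 0 (.node 0 .nil (.node 1 .nil (.node 2 .nil .nil))) (.node 2 (.node 2 .nil .nil) .nil)) .nil) .nil))) (.node 2 (.node 0 (.node 0 (.node 0 (.node 0 .nil (.node 1 (.node 2 .nil .nil) (.node 2 (.node 2 .nil .nil) .nil))) (.node 2 .nil .nil)) (.node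 1 (.node 0 (.node 0 .nil (.node 2 .nil .nil)) (.node 2 (.node 0 (.node 1 .nil (.node 2 .nil .nil)) (.node 2 (.node 0 .nil .nil) .nil)) .nil)) (.node 2 (.node 0 (.node 1 .nil .nil) (.node 2 (.node 0 (.node 2 .nil .nil) .nil) .nil)) .nil))) (.node 2 (.node 0 (.node 0 (.node 1 .nil (.node 2 (.node 2 .nil .nil) .nil)) (.node 2 (.node 2 .nil .nil) .nil)) .nil) .nil)) .nil)) .nil)) .nil))) (.node 2 (.node 0 (.node 0 (.node 0 (.node 0 (.node 0 (.node 0 (.node 0 .nil .nil) (.node 2 .nil .nil)) (.node 1 (.node 0 (.node 2 .nil .nil) .nil) (.node 2 (.node 0 (.node 1 .nil .nil) (.node 2 (.node 0 .nil (.node 2 (.node 2 .nil .nil) .nil)) .nil)) .nil))) (.node 1 (.node 0 (.node 0 (.node 2 (.node 0 .nil (.node 2 .nil .nil)) .nil) (.node 1 .nil (.node 2 .nil .nil))) (.node 2 (.node 0 (.node 0 (.node 0 .nil .nil) (.node 2 .nil .nil)) (.node 2 .nil .nil)) .nil)) (.node 2 (.node 0 (.node 1 .nil .nil) (.node 2 .nil .nil)) .nil)))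 (.node 1 (.node 0 (.node 0 (.node 0 (.node 0 .nil (.node 1 .nil (.node 2 .nil .nil))) (.node 1 (.node 0 .nil .nil) .nil)) (.node 1 (.node 2 (.node 0 .nil .nil) .nil) (.node 2 (.node 2 (.node 0 .nil .nil) .nil) .nil))) (.node 2 (.node 0 (.node 0 (.node 1 .nil .nil) (.node 1 (.node 0 .nil .nil) .nil)) (.node 2 (.node 0 (.node 0 .nil .nil) (.node 2 (.node 0 .nil .nil) .nil)) .nil)) .nil)) (.node 2 (.node 0 (.node 0 (.node 0 .nil (.node 1 (.node 0 (.node 2 .nil .nil) (.node 2 .nil .nil)) (.node 2 (.node 0 (.node 1 .nil .nil) (.node 2 .nil .nil)) .nil))) (.node 1 (.node 0 (.node 0 (.node 0 .nil .nil) (.node 1 .nil .nil)) .nil) .nil)) (.node 2 (.node 2 (.node 0 (.node 1 .nil (.node 2 .nil .nil)) .nil) .nil) .nil)) .nil))) (.node 1 (.node 0 (.node 0 (.node 0 (.node 0 (.node 0 (.node 0 .nil .nil) (.node 1 .nil (.node 2 (.node 0 .nil .nil) .nil))) (.node 1 (.node 2 .nil .nil) (.node 2 (.node 0 .nil (.node 2 (.node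 0 .nil .nil) .nil)) .nil))) (.node 1 (.node 2 (.node 0 (.node 2 .nil .nil) (.node 2 .nil .nil)) .nil) (.node 2 (.node 0 (.node 0 .nil (.node 2 .nil .nil)) (.node 2 .nil .nil)) .nil))) (.node 2 (.node 2 (.node 0 (.node 0 (.node 2 .nil .nil) (.node 2 (.node 0 .nil .nil) .nil)) .nil) .nil) .nil)) (.node 2 (.node 0 (.node 0 (.node 0 .nil (.node 1 .nil (.node 2 (.node 2 (.node 2 .nil .nil) .nil) .nil))) (.node 1 (.node 0 (.node 0 .nil .nil) (.node 2 .nil .nil)) (.node 2 (.node 0 (.node 2 .nil .nil) (.node 2 .nil .nil)) .nil))) (.node 2 (.node 0 (.node 1 .nil (.node 2 (.node 0 .nil .nil) .nil)) (.node 2 (.node 2 (.node 0 (.node 0 .nil .nil) .nil) .nil) .nil)) .nil)) .nil)) (.node 2 (.node 0 (.node 0 (.node 1 (.node 0 (.node 0 .nil (.node 1 .nil (.node 2 .nil .nil))) (.node 2 (.node 0 (.node 1 .nil .nil) (.node 2 .nil .nil)) .nil)) (.node 2 (.node 2 .nil .nil) .nil)) (.node 1 (.node 0 (.node 0 (.node 0 .nil (.node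 1 (.node 0 .nil .nil) .nil)) (.node 1 (.node 2 .nil .nil) (.node 2 .nil .nil))) (.node 2 (.node 0 (.node 2 (.node 2 .nil .nil) .nil) (.node 2 (.node 0 (.node 1 .nil .nil) .nil) .nil)) .nil)) (.node 2 (.node 0 (.node 0 (.node 0 .nil (.node 1 (.node 0 .nil (.node 2 .nil .nil)) (.node 2 .nil .nil))) (.node 2 .nil .nil)) (.node 2 (.node 2 (.node 2 .nil .nil) .nil) .nil)) .nil))) (.node 2 (.node 0 (.node 1 (.node 0 (.node 0 (.node 0 .nil .nil) .nil) (.node 2 .nil .nil)) (.node 2 (.node 0 (.node 0 .nil (.node 2 .nil .nil)) .nil) .nil)) (.node 2 (.node 0 (.node 0 (.node 1 .nil (.node 2 .nil .nil)) (.node 1 (.node 0 .nil (.node 2 .nil .nil)) (.node 2 .nil .nil))) (.node 2 .nil .nil)) .nil)) .nil)) .nil))) (.node 2 (.node 0 (.node 0 (.node 1 (.node 0 (.node 0 (.node 0 (.node 2 .nil .nil) (.node 2 (.node 2 .nil .nil) .nil)) (.node 1 (.node 2 .nil .nil) (.node 2 (.node 0 (.node 0 .nil .nil) .nil) .nil))) (.node 2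 (.node 0 (.node 0 (.node 2 .nil .nil) (.node 1 (.node 0 .nil .nil) .nil)) (.node 2 (.node 0 .nil .nil) .nil)) .nil)) (.node 2 (.node 0 (.node 1 .nil (.node 2 (.node 2 .nil .nil) .nil)) (.node 2 (.node 0 (.node 1 .nil (.node 2 (.node 2 .nil .nil) .nil)) (.node 2 .nil .nil)) .nil)) .nil)) (.node 1 (.node 0 (.node 0 (.node 0 (.node 1 .nil .nil) (.node 1 .nil (.node 2 (.node 2 .nil .nil) .nil))) (.node 1 .nil (.node 2 (.node 0 (.node 1 .nil (.node 2 (.node 2 .nil .nil) .nil)) (.node 2 (.node 2 .nil .nil) .nil)) .nil))) (.node 2 (.node 0 (.node 0 .nil .nil) (.node 2 (.node 2 .nil .nil) .nil)) .nil)) (.node 2 (.node 0 (.node 0 (.node 0 .nil (.node 1 (.node 0 .nil (.node 2 .nil .nil)) (.node 2 (.node 0 (.node 1 .nil .nil) (.node 2 (.node 2 .nil .nil) .nil)) .nil))) (.node 1 (.node 0 (.node 1 .nil (.node 2 .nil .nil)) (.node 2 .nil .nil)) (.node 2 (.node 2 .nil .nil) .nil))) (.node 2 (.node 0 (.node 0 (.node 1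 (.node 2 .nil .nil) (.node 2 .nil .nil)) (.node 1 .nil .nil)) (.node 2 (.node 0 (.node 0 (.node 1 .nil .nil) (.node 1 .nil .nil)) (.node 2 (.node 0 .nil .nil) .nil)) .nil)) .nil)) .nil))) (.node 2 (.node 0 (.node 0 (.node 0 (.node 0 (.node 0 (.node 0 .nil (.node 2 .nil .nil)) (.node 2 (.node 0 .nil .nil) .nil)) (.node 1 (.node 0 .nil (.node 2 (.node 0 .nil (.node 2 .nil .nil)) .nil)) (.node 2 (.node 2 .nil .nil) .nil))) (.node 1 (.node 0 (.node 0 .nil (.node 2 .nil .nil)) (.node 2 .nil .nil)) (.node 2 (.node 0 (.node 2 .nil .nil) (.node 2 .nil .nil)) .nil))) (.node 1 (.node 0 (.node 1 (.node 2 .nil .nil) (.node 2 .nil .nil)) (.node 2 (.node 0 (.node 1 .nil .nil) (.node 2 (.node 2 .nil .nil) .nil)) .nil)) (.node 2 (.node 0 (.node 2 (.node 2 (.node 0 .nil .nil) .nil) .nil) (.node 2 (.node 0 (.node 1 .nil (.node 2 .nil .nil)) (.node 2 (.node 0 (.node 1 .nil (.node 2 .nil .nil)) (.node 2 .nil .nil)) .nil))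 .nil)) .nil))) .nil) .nil)) .nil)) .nil)) .nil)))

end Cfsg.Agent.M24Orbits
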