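import Cfsg.Agent.M24Orbits.Framework

/-! Generated data for the trios through an octad, and short paths of octads. -/

set_option autoImplicit false

namespace Cfsg.Agent.M24Orbits

open Cfsg.Agent.Golay

/-- A trio through the root octad. -/
def trioA : List ℕ := [21116, 7409024, 9347075]

/-- Another one. -/
def trioB' : List ℕ := [72588, 7357552, 9347075]

/-- Generators fixing the octad and the trio. -/
def gens2 : List ℕ := [59880945393706955106632865490903665, 44627661327409496206907960559223282, 766078931216461107299648181576089649, 45803368886604364696443175585890321]

/-- Forest on the other trios. -/
def tree2 : OrbTree := (.node 1 (.node 0 .nil (.node 1 (.node 2 .nil .nil) (.node 2 (.node 0 .nil .nil) .nil))) (.node 2 (.node 0 .nil (.node 2 (.node 1 .nil .nil) .nil)) (.node 3 (.node 1 .nil (.node 2 .nil .nil)) .nil)))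

/-- The point fixer of the octad. -/
def fix16 : List ℕ := [958359841193275559058527489894996000, 959775806916153066781728529055426592, 960796265644511697179202340874633248, 962043633843586950641282970664807456, 963746088592452898125099198249967648, 964814718068974595068575295767492640, 966065889199318864952172779198879776, 967150998107068424814075433960756256, 969202056781860934635753244362607648, 970321392277576132733525417503691808, 971084517930466411659722882702561312, 973804896116145416835644806975036448, 976607671605327482668242317735039008, 981778418385515084080897070847012896, 983548058628271758227072553185584160, 984818244535754528103549039458486304]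

/-- For each point of the octad, two crossings of bipartitions. -/
def crossings : List (ℕ × List ((ℕ × ℕ × ℕ) × (ℕ × ℕ × ℕ))) := [(0, [((172033, 1134148, 2101096), (9175041, 84464, 3168928)), ((163843, 1070536, 2120980), (9175041, 84464, 3168928))]), (1, [((172034, 84464, 3168928), (9175042, 1134148, 2101096)), ((163843, 1070536, 2120980), (9175042, 1134148, 2101096))]), (13, [((172034, 84464, 3168928), (9183232, 1070536, 2120980)), ((172033, 1134148, 2101096), (9183232, 1070536, 2120980))]), (15, [((172034, 84464, 3168928), (9207808, 72588, 1050548)), ((172033, 1134148, 2101096), (9207808, 72588, 1050548))]), (17, [((172034, 84464, 3168928), (9306112, 21116, 2168036)), ((172033, 1134148, 2101096), (9306112, 21116, 2168036))]), (18, [((303106, 72588, 1070536), (9306112, 21116, 2168036)), ((303105, 1050548, 2120980), (9306112, 21116, 2168036))]), (19, [((565250, 1050548, 2101096), (9306112, 21116, 2168036)), ((565249, 84464, 1070536), (9306112, 21116, 2168036))]), (23, [((8429570, 1121336, 2120980), (9306112, 21116, 2168036)), ((8429569, 72588, 3147996), (9306112, 21116, 2168036))])]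

/-- Octad meeting the root in four, and a common neighbour. -/
def path4 : List ℕ := [13062145, 1050548]

/-- Octad meeting the root in two, and a path. -/
def path2 : List ℕ := [16056344, 5329044, 567074]

end Cfsg.Agent.M24Orbits
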