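import Cfsg.Agent.M24Orbits.Perms2
import Cfsg.Agent.M24Orbits.Data3

/-! Conjugacy classes of elements of order two and three in M24 and what they fix. -/

set_option autoImplicit false
open Cfsg Cfsg.Agent.Golay
open scoped Pointwise

namespace Cfsg.Agent.M24Orbits

/-- Conjugators for all elements of order `p` in a listed group. -/
def classCert (p : ℕ) (reps : List ℕ) (gens : List ℕ) (T : OrbTree) (cert : List (ℕ × ℕ)) : Bool :=
  reps.all isAut && cert.all (fun xh => isAut xh.2) &&
    (collectP gens T idCode [idCode]).all fun x =>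
      !((List.range 24).all fun i => (List.range p).foldl (fun j _ => app x j) i == i) ||
      (List.range 24).all (fun i => app x i == i) ||
      cert.any fun xh => xh.1 == x && reps.any fun r => sqB xh.2 r x xh.2

theorem foldl_app {c : ℕ} (h : permOK c = true) (q : GolayPt) : ∀ n : ℕ,
    (List.range n).foldl (fun j _ => app c j) (idx q) = idx ((permOf c ^ n) q) := by
  intro n
  induction n with
  | zero => simp
  | succ n ih =>
    rw [List.range_succ, List.foldl_append, ih, pow_succ', Equiv.Perm.mul_apply, idx_permOf h]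
    simp

theorem conj_into_sylow {p k : ℕ} [Fact p.Prime] (hfac : (244823040 : ℕ).factorization p = k)
    {P : Subgroup (Equiv.Perm GolayPt)} (hP : P ≤ M24) (hcard : Nat.card P = p ^ k)
    {g : Equiv.Perm GolayPt} (hg : g ∈ M24) (ho : orderOf g = p) :
    ∃ h ∈ M24, h⁻¹ * g * h ∈ P := by
  let Q : Sylow p M24 := Sylow.ofCard (P.subgroupOf M24) (by
    rw [Nat.card_congr (Subgroup.subgroupOfEquivOfLe hP).toEquiv, hcard, M24_card, hfac])
  have hz : IsPGroup p (Subgroup.zpowers (⟨g, hg⟩ : M24)) :=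
    IsPGroup.of_card (n := 1) (by rw [Nat.card_zpowers, Subgroup.orderOf_mk, ho, pow_one])
  obtain ⟨R, hR⟩ := hz.exists_le_sylow
  obtain ⟨m, hm⟩ := MulAction.exists_smul_eq M24 Q R
  have hmem : (⟨g, hg⟩ : M24) ∈ (m • Q : Sylow p M24) := by
    rw [hm]; exact hR (Subgroup.mem_zpowers _)
  rw [← SetLike.mem_coe, Sylow.coe_smul] at hmem
  obtain ⟨y, hy, hye⟩ := hmem
  refine ⟨m.1, m.2, ?_⟩
  have e : (m : Equiv.Perm GolayPt) * y.1 * (m : Equiv.Perm GolayPt)⁻¹ = g := congrArg Subtype.val hye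
  have hy' : (y : Equiv.Perm GolayPt) ∈ P := hy
  rw [← e]
  simpa [mul_assoc] using hy'

theorem class_of_order {p k : ℕ} [Fact p.Prime] (hfac : (244823040 : ℕ).factorization p = k)
    {reps gens : List ℕ} {T : OrbTree} {cert : List (ℕ × ℕ)} (hG : groupOK gens T (p ^ k) = true)
    (hC : classCert p reps gens T cert = true) {g : Equiv.Perm GolayPt} (hg : g ∈ M24)
    (ho : orderOf g = p) :
    ∃ r ∈ reps, ∃ h ∈ M24, g = h * permOf r * h⁻¹ := by
  obtain ⟨P, hP, hcard, hlist⟩ := groupOK_spec hG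
  obtain ⟨m, hm, hmem⟩ := conj_into_sylow hfac hP hcard hg ho
  obtain ⟨x, hx, hxok, hxe⟩ := hlist _ hmem
  simp only [classCert, Bool.and_eq_true, List.all_eq_true, Bool.or_eq_true, Bool.not_eq_true',
    List.any_eq_true, beq_iff_eq] at hC
  obtain ⟨⟨hreps, hcert⟩, hall⟩ := hC
  rcases hall x hx with (h | h) | ⟨⟨x', h'⟩, hmemc, he, r, hr, hsq⟩
  · exfalso
    obtain ⟨i, hi, hne⟩ := List.all_eq_false.1 h
    apply hne
    have hi' := List.mem_range.1 hi
    have hpow : permOf x ^ p = 1 := by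
      have := conj_pow (a := m⁻¹) (b := g) (i := p)
      rw [inv_inv] at this
      rw [hxe, this, ← ho, pow_orderOf_eq_one, mul_one, inv_mul_cancel]
    have hf := foldl_app hxok (pt i) p
    rw [hpow, Equiv.Perm.one_apply, idx_pt hi'] at hf
    exact beq_iff_eq.2 hf
  · exfalso
    have hone : permOf x = 1 := by
      ext q : 1
      apply idx_injective
      rw [idx_permOf hxok, h _ (List.mem_range.2 (idx_lt q)), Equiv.Perm.one_apply]
    rw [hxe] at hone
    have : g = 1 := by
      calc g = m * (m⁻¹ * g * m) * m⁻¹ := by group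
        _ = 1 := by rw [hone]; group
    rw [this, orderOf_one] at ho
    exact (Fact.out : p.Prime).ne_one ho.symm
  · simp only at he hsq
    subst x'
    have hh' := hcert _ hmemc
    have hsq' := (sqB_iff (permOK_of_isAut hh') (permOK_of_isAut (hreps r hr)) hxok
      (permOK_of_isAut hh')).1 hsq
    rw [hxe] at hsq'
    refine ⟨r, hr, m * permOf h', mul_mem hm (permOf_mem_M24 hh'), ?_⟩
    calc g = m * ((m⁻¹ * g * m) * permOf h') * (permOf h')⁻¹ * m⁻¹ := by group
      _ = m * (permOf h' * permOf r) * (permOf h')⁻¹ * m⁻¹ := by rw [hsq']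
      _ = _ := by group

theorem sylTwo_ok : groupOK sylTwoGens sylTwoTree (2 ^ 10) = true := by decide +kernel

theorem sylThree_ok : groupOK sylThreeGens sylThreeTree (3 ^ 3) = true := by decide +kernel

theorem twoClasses_ok : classCert 2 [r2a, r2b] sylTwoGens sylTwoTree sylTwoConj = true := by
  decide +kernel

theorem threeClasses_ok : classCert 3 [r3a, r3b] sylThreeGens sylThreeTree sylThreeConj = true := by
  decide +kernel

theorem order_two_class {g : Equiv.Perm GolayPt} (hg : g ∈ M24) (ho : orderOf g = 2) :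
    ∃ r ∈ [r2a, r2b], ∃ h ∈ M24, g = h * permOf r * h⁻¹ := by
  haveI := Fact.mk Nat.prime_two
  refine class_of_order ?_ sylTwo_ok twoClasses_ok hg ho
  rw [show (244823040 : ℕ) = 2 ^ 10 * 239085 by norm_num, Nat.factorization_mul (by norm_num) (by norm_num),
    Finsupp.add_apply, Nat.prime_two.factorization_pow, Finsupp.single_eq_same,
    Nat.factorization_eq_zero_of_not_dvd (by norm_num)]

theorem order_three_class {g : Equiv.Perm GolayPt} (hg : g ∈ M24) (ho : orderOf g = 3) :
    ∃ r ∈ [r3a, r3b], ∃ h ∈ M24, g = h * permOf r * h⁻¹ := by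
  haveI := Fact.mk Nat.prime_three
  refine class_of_order ?_ sylThree_ok threeClasses_ok hg ho
  rw [show (244823040 : ℕ) = 3 ^ 3 * 9067520 by norm_num, Nat.factorization_mul (by norm_num) (by norm_num),
    Finsupp.add_apply, Nat.prime_three.factorization_pow, Finsupp.single_eq_same,
    Nat.factorization_eq_zero_of_not_dvd (by norm_num)]

/-- Fixed points of a packed permutation. -/
def fixPts (c : ℕ) : Finset GolayPt := Finset.univ.filter fun p => app c (idx p) == idx p

theorem filter_fix {c : ℕ} (h : permOK c = true) :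
    (Finset.univ.filter fun p => permOf c p = p) = fixPts c := by
  ext p
  simp only [fixPts, Finset.mem_filter, Finset.mem_univ, true_and, beq_iff_eq]
  rw [← idx_permOf h]
  exact ⟨fun e => by rw [e], fun e => idx_injective e⟩

theorem filter_fix_conj (h σ : Equiv.Perm GolayPt) :
    (Finset.univ.filter fun p => (h * σ * h⁻¹) p = p).card = (Finset.univ.filter fun p => σ p = p).card := by
  refine Finset.card_equiv h.symm fun p => ?_
  simp only [Finset.mem_filter, Finset.mem_univ, true_and]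
  constructor
  · intro e; simpa [Equiv.eq_symm_apply] using e
  · intro e; simp [e]

theorem reps_ok : ([r2a, r2b, r3a, r3b].all isAut && (fixPts r2a).card == 8 && (fixPts r2b).card == 0 &&
    (fixPts r3a).card == 6 && (fixPts r3b).card == 0) = true := by decide +kernel

theorem rep_fix {r : ℕ} (hr : r ∈ [r2a, r2b, r3a, r3b]) :
    permOK r = true ∧ permOf r ∈ M24 ∧
      ((Finset.univ.filter fun p => permOf r p = p).card =
        if r = r2a then 8 else if r = r3a then 6 else 0) := by
  have h := reps_ok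
  simp only [Bool.and_eq_true, List.all_eq_true, beq_iff_eq] at h
  obtain ⟨⟨⟨⟨hA, h1⟩, h2⟩, h3⟩, h4⟩ := h
  have hok := permOK_of_isAut (hA r hr)
  refine ⟨hok, permOf_mem_M24 (hA r hr), ?_⟩
  rw [filter_fix hok]
  have d1 : r2b ≠ r2a ∧ r3a ≠ r2a ∧ r3b ≠ r2a ∧ r2b ≠ r3a ∧ r3b ≠ r3a := by decide +kernel
  simp only [List.mem_cons, List.not_mem_nil, or_false] at hr
  rcases hr with rfl | rfl | rfl | rfl
  · simp [h1]
  · simp [h2, d1.1, d1.2.2.2.1]
  · simp [h3, d1.2.1]
  · simp [h4, d1.2.2.1, d1.2.2.2.2]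

theorem three_classes {g : Equiv.Perm GolayPt} (hg : g ∈ M24) (ho : orderOf g = 3) :
    ((Finset.univ.filter fun p => g p = p).card = 6 ∧ ∃ h ∈ M24, g = h * permOf r3a * h⁻¹) ∨
    ((Finset.univ.filter fun p => g p = p).card = 0 ∧ ∃ h ∈ M24, g = h * permOf r3b * h⁻¹) := by
  obtain ⟨r, hr, h, hh, rfl⟩ := order_three_class hg ho
  have d1 : r3a ≠ r2a ∧ r3b ≠ r2a ∧ r3b ≠ r3a := by decide +kernel
  simp only [List.mem_cons, List.not_mem_nil, or_false] at hr
  rcases hr with rfl | rfl
  · refine Or.inl ⟨?_, h, hh, rfl⟩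
    rw [filter_fix_conj, (rep_fix (by simp)).2.2, if_neg d1.1, if_pos rfl]
  · refine Or.inr ⟨?_, h, hh, rfl⟩
    rw [filter_fix_conj, (rep_fix (by simp)).2.2, if_neg d1.2.1, if_neg d1.2.2]

theorem two_classes {g : Equiv.Perm GolayPt} (hg : g ∈ M24) (ho : orderOf g = 2) :
    ((Finset.univ.filter fun p => g p = p).card = 8 ∧ ∃ h ∈ M24, g = h * permOf r2a * h⁻¹) ∨
    ((Finset.univ.filter fun p => g p = p).card = 0 ∧ ∃ h ∈ M24, g = h * permOf r2b * h⁻¹) := by
  obtain ⟨r, hr, h, hh, rfl⟩ := order_two_class hg ho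
  have d1 : r2b ≠ r2a ∧ r2b ≠ r3a := by decide +kernel
  simp only [List.mem_cons, List.not_mem_nil, or_false] at hr
  rcases hr with rfl | rfl
  · refine Or.inl ⟨?_, h, hh, rfl⟩
    rw [filter_fix_conj, (rep_fix (by simp)).2.2, if_pos rfl]
  · refine Or.inr ⟨?_, h, hh, rfl⟩
    rw [filter_fix_conj, (rep_fix (by simp)).2.2, if_neg d1.1, if_neg d1.2]

/-! ### Counting what an element fixes -/

theorem ncard_fixed_conj {β : Type*} [MulAction (Equiv.Perm GolayPt) β] (A : Set β)
    (hA : ∀ g ∈ M24, ∀ X ∈ A, g • X ∈ A) {h : Equiv.Perm GolayPt} (hh : h ∈ M24)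
    (σ : Equiv.Perm GolayPt) :
    {X | X ∈ A ∧ (h * σ * h⁻¹) • X = X}.ncard = {X | X ∈ A ∧ σ • X = X}.ncard := by
  rw [← Set.ncard_image_of_injective {X | X ∈ A ∧ σ • X = X} (MulAction.injective h)]
  congr 1
  ext X
  constructor
  · rintro ⟨hX, e⟩
    refine ⟨h⁻¹ • X, ⟨hA _ (inv_mem hh) X hX, ?_⟩, smul_inv_smul h X⟩
    conv_rhs => rw [← e]
    simp only [mul_smul, inv_smul_smul]
  · rintro ⟨Y, ⟨hY, e⟩, rfl⟩
    exact ⟨hA h hh Y hY, by show (h * σ * h⁻¹) • h • Y = h • Y; rw [mul_smul, mul_smul, inv_smul_smul, e]⟩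

/-- Every member of the list is sent into the list. -/
def fixedB (r : ℕ) (x : List ℕ) : Bool := x.all fun m => x.contains (mapMask r m)

theorem fixedB_iff {r : ℕ} (hr : permOK r = true) {x : List ℕ} (hx : ascB x = true) :
    fixedB r x = true ↔ permOf r • toSet x = toSet x := by
  simp only [fixedB, List.all_eq_true, List.contains_iff_mem]
  constructor
  · intro h
    refine Finset.eq_of_subset_of_card_le ?_ (le_of_eq (Finset.card_smul_finset _ _).symm)
    intro s hs
    obtain ⟨t, ht, rfl⟩ := Finset.mem_smul_finset.1 hs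
    obtain ⟨m, hm, rfl⟩ := mem_toSet.1 ht
    exact mem_toSet.2 ⟨_, h m hm, bset_mapMask hr m⟩
  · intro h m hm
    have hin : permOf r • bset m ∈ toSet x := by
      rw [← h]; exact Finset.smul_mem_smul_finset (mem_toSet.2 ⟨m, hm, rfl⟩)
    obtain ⟨n, hn, e⟩ := mem_toSet.1 hin
    rw [← bset_mapMask hr] at e
    have := eq_of_bset_eq ((ascB_spec hx).2 n hn) (mapMask_lt hr _) e
    exact this ▸ hn

theorem fams_fixed_count {R gens : List ℕ} {Ps : List Part} {N : ℕ} {A : Set Fam}
    (h : partsOK R gens Ps N = true) (hA : ∀ g ∈ M24, ∀ X ∈ A, g • X ∈ A) (hN : A.ncard = N)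
    (hroot : ∀ P ∈ Ps, toSet P.2.1 ∈ A) {r : ℕ} (hr : permOK r = true) :
    {X | X ∈ A ∧ permOf r • X = X}.ncard =
      ((Ps.flatMap (partList gens)).filter fun x => fixedB r x).length := by
  classical
  obtain ⟨-, -, -, hcov⟩ := partsOK_spec h hA hN hroot
  have h' := h
  simp only [partsOK, Bool.and_eq_true, List.all_eq_true, beq_iff_eq, decide_eq_true_eq] at h'
  obtain ⟨⟨⟨⟨-, hP⟩, -⟩, hd⟩, -⟩ := h'
  set L := Ps.flatMap (partList gens)
  have hL : ∀ x ∈ L, ascB x = true ∧ toSet x ∈ A := by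
    intro x hx
    obtain ⟨P, hPm, hxP⟩ := List.mem_flatMap.1 hx
    refine ⟨((hP P hPm).2 x hxP).1, ?_⟩
    obtain ⟨k, hk, e⟩ := collectL_spec gens _ (partsOK_gens h) P.2.1 P.1 P.2.1 [P.2.1]
      ⟨1, one_mem _, one_smul _ _⟩
      (by intro y hy; rw [List.mem_singleton] at hy; subst hy; exact ⟨1, one_mem _, one_smul _ _⟩) x hxP
    exact e ▸ hA k hk.1 _ (hroot P hPm)
  have heq : {X | X ∈ A ∧ permOf r • X = X} =
      ((((L.filter fun x => fixedB r x).map toSet).toFinset) : Set Fam) := by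
    ext X
    simp only [Set.mem_setOf_eq, Finset.mem_coe, List.mem_toFinset, List.mem_map, List.mem_filter]
    constructor
    · rintro ⟨hX, e⟩
      obtain ⟨x, hx, rfl⟩ := hcov X hX
      exact ⟨x, ⟨hx, (fixedB_iff hr (hL x hx).1).2 e⟩, rfl⟩
    · rintro ⟨x, ⟨hx, e⟩, rfl⟩
      exact ⟨(hL x hx).2, (fixedB_iff hr (hL x hx).1).1 e⟩
  rw [heq, Set.ncard_coe_finset, List.toFinset_card_of_nodup, List.length_map]
  exact List.Nodup.map_on (fun x hx y hy e => toSet_injOn (hL x (List.mem_filter.1 hx).1).1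
    (hL y (List.mem_filter.1 hy).1).1 e) ((nodup_of_distinctB hd).filter _)

theorem words_fixed_count (w : ℕ) {r : ℕ} (hr : permOK r = true) :
    {s | s ∈ wordsOfWeight (golayCode : Set (GolayPt → ZMod 2)) w ∧ permOf r • s = s}.ncard =
      countB (fun i => pc (encode i) == w && mapMask r (encode i) == encode i) 12 0 := by
  refine ncard_supports_filter (fun n => pc n == w && mapMask r n == n) _ fun s => ?_
  simp only [Bool.and_eq_true, beq_iff_eq, Set.mem_setOf_eq, wordsOfWeight]
  constructor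
  · rintro ⟨⟨h1, h2⟩, h3⟩
    exact ⟨mem_supports_iff.1 h1, by rw [← card_eq_pc_mask]; exact h2, by rw [← mask_smul hr, h3]⟩
  · rintro ⟨h1, h2, h3⟩
    exact ⟨⟨mem_supports_iff.2 h1, by rw [card_eq_pc_mask]; exact h2⟩, mask_injective (by rw [mask_smul hr, h3])⟩

theorem sextets_fixed {r : ℕ} (hr : permOK r = true) :
    {X | X ∈ sextets ∧ permOf r • X = X}.ncard =
      ((partsOctSex.flatMap (partList gensOct)).filter fun x => fixedB r x).length :=
  fams_fixed_count okOctSex (fun _ hg _ => smul_mem_sextets hg) sextets_ncard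
    (fun P hP => sextet_of_list ((by decide +kernel : ∀ P ∈ partsOctSex, sextetB P.2.1 = true) P hP)) hr

theorem trios_fixed {r : ℕ} (hr : permOK r = true) :
    {X | X ∈ trios ∧ permOf r • X = X}.ncard =
      ((partsOctTri.flatMap (partList gensOct)).filter fun x => fixedB r x).length :=
  fams_fixed_count okOctTri (fun _ hg _ => smul_mem_trios hg) trios_ncard
    (fun P hP => trio_of_list ((by decide +kernel : ∀ P ∈ partsOctTri, trioB P.2.1 = true) P hP)) hr

end Cfsg.Agent.M24Orbits
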