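import Cfsg.Agent.M24Orbits.Hexad
import Cfsg.Agent.Golay.CodeFacts

/-! Orbit certificates for families of sets of points. -/

set_option autoImplicit false
open Cfsg Cfsg.Agent.Golay
open scoped Pointwise

namespace Cfsg.Agent.M24Orbits

/-- Families of point sets. -/
abbrev Fam : Type := Finset (Finset GolayPt)

/-- The family given by a list of masks. -/
def toSet (l : List ℕ) : Fam := (l.map bset).toFinset

/-- Insertion in an ascending list. -/
def ins (a : ℕ) : List ℕ → List ℕ
  | [] => [a]
  | b :: l => bif Nat.ble a b then a :: b :: l else b :: ins a l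

theorem mem_ins {a x : ℕ} : ∀ {l : List ℕ}, x ∈ ins a l ↔ x = a ∨ x ∈ l
  | [] => by simp [ins]
  | b :: l => by
    cases h : Nat.ble a b <;> simp [ins, h, mem_ins (l := l)]; tauto

/-- Ascending rearrangement. -/
def canon (l : List ℕ) : List ℕ := l.foldr ins []

theorem mem_canon {x : ℕ} : ∀ {l : List ℕ}, x ∈ canon l ↔ x ∈ l
  | [] => by simp [canon]
  | b :: l => by rw [canon, List.foldr_cons, mem_ins, ← canon, mem_canon (l := l)]; simp

theorem toSet_canon (l : List ℕ) : toSet (canon l) = toSet l := by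
  ext s; simp [toSet, mem_canon]

/-- Image of a list of masks under a packed permutation. -/
def actL (c : ℕ) (l : List ℕ) : List ℕ := canon (l.map (mapMask c))

theorem toSet_actL {c : ℕ} (h : permOK c = true) (l : List ℕ) :
    toSet (actL c l) = permOf c • toSet l := by
  ext s
  rw [actL, toSet_canon, Finset.mem_smul_finset]
  simp only [toSet, List.mem_toFinset, List.map_map, List.mem_map, Function.comp]
  constructor
  · rintro ⟨m, hm, rfl⟩; exact ⟨bset m, ⟨m, hm, rfl⟩, (bset_mapMask h m).symm⟩
  · rintro ⟨_, ⟨m, hm, rfl⟩, rfl⟩; exact ⟨m, hm, bset_mapMask h m⟩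

/-- Walk a forest. -/
def collectL (gens : List ℕ) : OrbTree → List ℕ → List (List ℕ) → List (List ℕ)
  | .nil, _, acc => acc
  | .node g c s, m, acc =>
    collectL gens s m (collectL gens c (actL (gens.getD g idCode) m)
      (actL (gens.getD g idCode) m :: acc))

theorem collectL_spec (gens : List ℕ) (H : Subgroup (Equiv.Perm GolayPt))
    (hok : ∀ c ∈ gens, permOK c = true ∧ permOf c ∈ H) (root : List ℕ) :
    ∀ (T : OrbTree) (m : List ℕ) (acc : List (List ℕ)),
    (∃ h ∈ H, h • toSet root = toSet m) →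
    (∀ x ∈ acc, ∃ h ∈ H, h • toSet root = toSet x) →
    ∀ x ∈ collectL gens T m acc, ∃ h ∈ H, h • toSet root = toSet x
  | .nil, _, _, _, hacc => hacc
  | .node g c s, m, acc, hm, hacc => by
    have hstep : ∃ h ∈ H, h • toSet root = toSet (actL (gens.getD g idCode) m) := by
      have hd : permOK (gens.getD g idCode) = true ∧ permOf (gens.getD g idCode) ∈ H := by
        by_cases hg : g < gens.length
        · rw [List.getD_eq_getElem _ _ hg]; exact hok _ (List.getElem_mem _)
        · rw [List.getD_eq_default _ _ (by omega), permOf_idCode]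
          exact ⟨idCode_ok, one_mem _⟩
      obtain ⟨h, hh, e⟩ := hm
      exact ⟨permOf (gens.getD g idCode) * h, mul_mem hd.2 hh,
        by rw [mul_smul, e, toSet_actL hd.1]⟩
    refine collectL_spec gens H hok root s m _ hm ?_
    refine collectL_spec gens H hok root c _ _ hstep ?_
    rintro x (_ | ⟨_, hx⟩)
    · exact hstep
    · exact hacc x hx

/-! ### Distinctness -/

/-- Search tree of numbers. -/
inductive KeyTree : Type
  | leaf : KeyTree
  | node (v : ℕ) (l r : KeyTree) : KeyTree

/-- Insertion failing on a repeat. -/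
def KeyTree.insert? : KeyTree → ℕ → Option KeyTree
  | .leaf, a => some (.node a .leaf .leaf)
  | .node v l r, a =>
    bif a == v then none else
      bif Nat.ble a v then
        match l.insert? a with
        | none => none
        | some l' => some (.node v l' r)
      else
        match r.insert? a with
        | none => none
        | some r' => some (.node v l r')

/-- Membership in a search tree. -/
def KeyTree.Mem (a : ℕ) : KeyTree → Prop
  | .leaf => False
  | .node v l r => a = v ∨ (bif Nat.ble a v then l.Mem a else r.Mem a)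

theorem KeyTree.insert?_spec : ∀ (t t' : KeyTree) (a : ℕ), t.insert? a = some t' →
    ¬ t.Mem a ∧ ∀ b, t'.Mem b ↔ b = a ∨ t.Mem b
  | .leaf, t', a, h => by
    simp only [KeyTree.insert?, Option.some.injEq] at h
    subst h
    refine ⟨id, fun b => ?_⟩
    cases h : Nat.ble b a <;> simp [KeyTree.Mem, h]
  | .node v l r, t', a, h => by
    simp only [KeyTree.insert?] at h
    cases he : (a == v)
    swap
    · rw [he] at h; simp at h
    rw [he, cond_false] at h
    have hav : a ≠ v := by simpa using he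
    cases hle : Nat.ble a v
    · rw [hle, cond_false] at h
      cases hr : r.insert? a with
      | none => rw [hr] at h; simp at h
      | some r' =>
        rw [hr] at h
        simp only [Option.some.injEq] at h
        subst h
        obtain ⟨h1, h2⟩ := KeyTree.insert?_spec r r' a hr
        refine ⟨by simp [KeyTree.Mem, hle, hav, h1], fun b => ?_⟩
        cases hb : Nat.ble b v
        · simp [KeyTree.Mem, hb, h2]; tauto
        · have hne : b ≠ a := fun e => by rw [e, hle] at hb; simp at hb
          simp [KeyTree.Mem, hb, hne]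
    · rw [hle, cond_true] at h
      cases hl : l.insert? a with
      | none => rw [hl] at h; simp at h
      | some l' =>
        rw [hl] at h
        simp only [Option.some.injEq] at h
        subst h
        obtain ⟨h1, h2⟩ := KeyTree.insert?_spec l l' a hl
        refine ⟨by simp [KeyTree.Mem, hle, hav, h1], fun b => ?_⟩
        cases hb : Nat.ble b v
        · have hne : b ≠ a := fun e => by rw [e, hle] at hb; simp at hb
          simp [KeyTree.Mem, hb, hne]
        · simp [KeyTree.Mem, hb, h2]; tauto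

/-- Insert all, failing on a repeat. -/
def insertAll : List ℕ → KeyTree → Option KeyTree
  | [], t => some t
  | a :: l, t =>
    match t.insert? a with
    | none => none
    | some t' => insertAll l t'

theorem insertAll_spec : ∀ (l : List ℕ) (t t' : KeyTree), insertAll l t = some t' →
    l.Nodup ∧ ∀ a ∈ l, ¬ t.Mem a
  | [], _, _, _ => ⟨List.nodup_nil, by simp⟩
  | a :: l, t, t', h => by
    simp only [insertAll] at h
    cases ha : t.insert? a with
    | none => rw [ha] at h; simp at h
    | some t₁ =>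
      rw [ha] at h
      obtain ⟨h1, h2⟩ := insertAll_spec l t₁ t' h
      obtain ⟨h3, h4⟩ := KeyTree.insert?_spec t t₁ a ha
      refine ⟨List.nodup_cons.2 ⟨fun hm => h2 a hm ((h4 a).2 (Or.inl rfl)), h1⟩, ?_⟩
      intro b hb
      rcases List.mem_cons.1 hb with rfl | hb
      · exact h3
      · exact fun hm => h2 b hb ((h4 b).2 (Or.inr hm))

/-- One number per list. -/
def keyOf (l : List ℕ) : ℕ := l.foldl (fun a m => a * 16777216 + m) 0

/-- The lists are pairwise different. -/
def distinctB (ls : List (List ℕ)) : Bool := (insertAll (ls.map keyOf) .leaf).isSome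

theorem nodup_of_distinctB {ls : List (List ℕ)} (h : distinctB ls = true) : ls.Nodup := by
  obtain ⟨t, ht⟩ := Option.isSome_iff_exists.1 h
  exact List.Nodup.of_map keyOf (insertAll_spec _ _ _ ht).1

/-- Strictly ascending masks. -/
def ascB : List ℕ → Bool
  | [] => true
  | [a] => decide (a < 16777216)
  | a :: b :: l => decide (a < b) && ascB (b :: l)

theorem ascB_spec : ∀ {l : List ℕ}, ascB l = true →
    l.Pairwise (· < ·) ∧ ∀ m ∈ l, m < 16777216
  | [], _ => ⟨List.Pairwise.nil, by simp⟩
  | [a], h => by simpa [ascB] using h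
  | a :: b :: l, h => by
    simp only [ascB, Bool.and_eq_true, decide_eq_true_eq] at h
    obtain ⟨hab, hl⟩ := h
    obtain ⟨h1, h2⟩ := ascB_spec hl
    have hlt : ∀ x ∈ b :: l, a < x := fun x hx => by
      rcases List.mem_cons.1 hx with rfl | hx
      · exact hab
      · exact hab.trans ((List.pairwise_cons.1 h1).1 x hx)
    refine ⟨List.pairwise_cons.2 ⟨hlt, h1⟩, fun m hm => ?_⟩
    rcases List.mem_cons.1 hm with rfl | hm
    · exact hab.trans (h2 b (by simp))
    · exact h2 m hm

theorem toSet_injOn {l l' : List ℕ} (hl : ascB l = true) (hl' : ascB l' = true)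
    (h : toSet l = toSet l') : l = l' := by
  obtain ⟨h1, h2⟩ := ascB_spec hl
  obtain ⟨h1', h2'⟩ := ascB_spec hl'
  have hm : ∀ x, x ∈ l ↔ x ∈ l' := by
    intro x
    have hsub : ∀ {a b : List ℕ}, (∀ m ∈ a, m < 16777216) → (∀ m ∈ b, m < 16777216) →
        toSet a = toSet b → x ∈ a → x ∈ b := by
      intro a b ha hb e hx
      have : bset x ∈ toSet b := e ▸ (by simp [toSet]; exact ⟨x, hx, rfl⟩)
      simp only [toSet, List.mem_toFinset, List.mem_map] at this
      obtain ⟨y, hy, he⟩ := this
      rwa [← eq_of_bset_eq (hb y hy) (ha x hx) he]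
    exact ⟨hsub h2 h2' h, hsub h2' h2 h.symm⟩
  exact ((List.perm_ext_iff_of_nodup (h1.imp fun h => h.ne) (h1'.imp fun h => h.ne)).2 hm).eq_of_pairwise'
    (h1.imp fun h => h.le) (h1'.imp fun h => h.le)

/-! ### The invariant -/

/-- Sum of squared intersection sizes. -/
def cross (R X : Fam) : ℕ := ∑ a ∈ R, ∑ b ∈ X, (a ∩ b).card ^ 2

theorem cross_smul (g : Equiv.Perm GolayPt) (R X : Fam) : cross (g • R) (g • X) = cross R X := by
  unfold cross
  rw [← Finset.image_smul, Finset.sum_image (fun _ _ _ _ h => MulAction.injective g h)]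
  refine Finset.sum_congr rfl fun a _ => ?_
  rw [← Finset.image_smul, Finset.sum_image (fun _ _ _ _ h => MulAction.injective g h)]
  refine Finset.sum_congr rfl fun b _ => ?_
  rw [← Finset.smul_finset_inter, Finset.card_smul_finset]

/-- The invariant on lists. -/
def crossL (R X : List ℕ) : ℕ := (R.map fun a => (X.map fun b => pc (a &&& b) ^ 2).sum).sum

theorem crossL_eq {R X : List ℕ} (hR : ascB R = true) (hX : ascB X = true) :
    cross (toSet R) (toSet X) = crossL R X := by
  have hnd : ∀ {l : List ℕ}, ascB l = true → (l.map bset).Nodup := by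
    intro l hl
    obtain ⟨h1, h2⟩ := ascB_spec hl
    exact List.Nodup.map_on (fun x hx y hy e => eq_of_bset_eq (h2 x hx) (h2 y hy) e)
      (h1.imp fun h => h.ne)
  unfold cross crossL toSet
  rw [List.sum_toFinset _ (hnd hR), List.map_map]
  refine congrArg List.sum (List.map_congr_left fun a _ => ?_)
  simp only [Function.comp]
  rw [List.sum_toFinset _ (hnd hX), List.map_map]
  refine congrArg List.sum (List.map_congr_left fun b _ => ?_)
  simp only [Function.comp]
  rw [← bset_and, card_bset]

/-! ### Orbits of a stabilizer -/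

/-- The orbit of `X` under the stabilizer of `R`. -/
def orbitSet {α : Type*} [MulAction (Equiv.Perm GolayPt) α] (R : Fam) (X : α) : Set α :=
  {Y | ∃ g ∈ M24, g • R = R ∧ g • X = Y}

theorem orbitSet_conj {α : Type*} [MulAction (Equiv.Perm GolayPt) α] {g : Equiv.Perm GolayPt}
    (hg : g ∈ M24) (R : Fam) (X : α) :
    orbitSet (g • R) (g • X) = (g • ·) '' orbitSet R X := by
  ext Y
  constructor
  · rintro ⟨h, hh, h1, h2⟩
    refine ⟨g⁻¹ • Y, ⟨g⁻¹ * h * g, mul_mem (mul_mem (inv_mem hg) hh) hg, ?_, ?_⟩, smul_inv_smul g Y⟩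
    · rw [mul_smul, mul_smul, h1, inv_smul_smul]
    · rw [mul_smul, mul_smul, h2]
  · rintro ⟨Z, ⟨h, hh, h1, h2⟩, rfl⟩
    refine ⟨g * h * g⁻¹, mul_mem (mul_mem hg hh) (inv_mem hg), ?_, ?_⟩
    · rw [mul_smul, inv_smul_smul, mul_smul, h1]
    · rw [mul_smul, inv_smul_smul, mul_smul, h2]

theorem orbitSet_conj_ncard {α : Type*} [MulAction (Equiv.Perm GolayPt) α] {g : Equiv.Perm GolayPt}
    (hg : g ∈ M24) (R : Fam) (X : α) :
    (orbitSet (g • R) (g • X)).ncard = (orbitSet R X).ncard := by
  rw [orbitSet_conj hg, Set.ncard_image_of_injective _ (MulAction.injective g)]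

/-- One orbit: forest, root, value of the invariant, length. -/
abbrev Part : Type := OrbTree × List ℕ × ℕ × ℕ

/-- The lists of an orbit. -/
def partList (gens : List ℕ) (P : Part) : List (List ℕ) := collectL gens P.1 P.2.1 [P.2.1]

/-- The certificate check. -/
def partsOK (R : List ℕ) (gens : List ℕ) (Ps : List Part) (N : ℕ) : Bool :=
  ascB R && gens.all (fun c => isAut c && actL c R == R) &&
    Ps.all (fun P => (partList gens P).length == P.2.2.2 &&
      (partList gens P).all fun x => ascB x && crossL R x == P.2.2.1) &&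
    (Ps.map fun P => P.2.2.1).Nodup &&
    distinctB (Ps.flatMap (partList gens)) && (Ps.map fun P => P.2.2.2).sum == N

variable {R gens : List ℕ} {Ps : List Part} {N : ℕ} {A : Set Fam}

theorem partsOK_gens (h : partsOK R gens Ps N = true) :
    ∀ c ∈ gens, permOK c = true ∧ permOf c ∈ M24 ⊓ MulAction.stabilizer (Equiv.Perm GolayPt) (toSet R) := by
  simp only [partsOK, Bool.and_eq_true, List.all_eq_true, beq_iff_eq] at h
  intro c hc
  obtain ⟨h1, h2⟩ := h.1.1.1.1.2 c hc
  have hok := permOK_of_isAut h1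
  refine ⟨hok, permOf_mem_M24 h1, ?_⟩
  show permOf c • toSet R = toSet R
  rw [← toSet_actL hok, h2]

theorem partsOK_spec (h : partsOK R gens Ps N = true) (hA : ∀ g ∈ M24, ∀ X ∈ A, g • X ∈ A)
    (hN : A.ncard = N) (hroot : ∀ P ∈ Ps, toSet P.2.1 ∈ A) :
    (∀ P ∈ Ps, (orbitSet (toSet R) (toSet P.2.1)).ncard = P.2.2.2) ∧
    (∀ X ∈ A, ∃ P ∈ Ps, X ∈ orbitSet (toSet R) (toSet P.2.1)) ∧
    (∀ P ∈ Ps, ∀ X ∈ orbitSet (toSet R) (toSet P.2.1), cross (toSet R) X = P.2.2.1) ∧
    (∀ X ∈ A, ∃ x ∈ Ps.flatMap (partList gens), X = toSet x) := by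
  classical
  have hgens := partsOK_gens h
  simp only [partsOK, Bool.and_eq_true, List.all_eq_true, beq_iff_eq, decide_eq_true_eq] at h
  obtain ⟨⟨⟨⟨⟨hR, -⟩, hP⟩, hk⟩, hd⟩, hsum⟩ := h
  have hnd := nodup_of_distinctB hd
  set L := Ps.flatMap (partList gens) with hL
  have hmem : ∀ P ∈ Ps, ∀ x ∈ partList gens P,
      toSet x ∈ orbitSet (toSet R) (toSet P.2.1) := by
    intro P _ x hx
    obtain ⟨g, hg, e⟩ := collectL_spec gens _ hgens P.2.1 P.1 P.2.1 [P.2.1] ⟨1, one_mem _, one_smul _ _⟩
      (by intro y hy; rw [List.mem_singleton] at hy; subst hy; exact ⟨1, one_mem _, one_smul _ _⟩) x hx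
    exact ⟨g, hg.1, hg.2, e⟩
  have hasc : ∀ x ∈ L, ascB x = true := by
    intro x hx
    obtain ⟨P, hPm, hx⟩ := List.mem_flatMap.1 hx
    exact ((hP P hPm).2 x hx).1
  have horbA : ∀ P ∈ Ps, orbitSet (toSet R) (toSet P.2.1) ⊆ A := by
    rintro P hPm X ⟨g, hg, -, rfl⟩
    exact hA g hg _ (hroot P hPm)
  have hLA : ∀ x ∈ L, toSet x ∈ A := by
    intro x hx
    obtain ⟨P, hPm, hx⟩ := List.mem_flatMap.1 hx
    exact horbA P hPm (hmem P hPm x hx)
  have hinj : ∀ x ∈ L, ∀ y ∈ L, toSet x = toSet y → x = y := fun x hx y hy e =>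
    toSet_injOn (hasc x hx) (hasc y hy) e
  have hlen : L.length = N := by
    rw [hL, List.length_flatMap, ← hsum]
    exact congrArg List.sum (List.map_congr_left fun P hPm => (hP P hPm).1)
  have hAeq : A = ((L.map toSet).toFinset : Set Fam) := by
    refine (Set.eq_of_subset_of_ncard_le ?_ ?_ (Set.toFinite _)).symm
    · intro X hX
      simp only [Finset.mem_coe, List.mem_toFinset, List.mem_map] at hX
      obtain ⟨x, hx, rfl⟩ := hX
      exact hLA x hx
    · rw [Set.ncard_coe_finset, hN, List.toFinset_card_of_nodup, List.length_map, hlen]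
      exact List.Nodup.map_on hinj hnd
  have hcover : ∀ X ∈ A, ∃ x ∈ L, X = toSet x := by
    intro X hX
    rw [hAeq, Finset.mem_coe, List.mem_toFinset, List.mem_map] at hX
    obtain ⟨x, hx, rfl⟩ := hX
    exact ⟨x, hx, rfl⟩
  have hcross : ∀ P ∈ Ps, ∀ x ∈ partList gens P, cross (toSet R) (toSet x) = P.2.2.1 := by
    intro P hPm x hx
    rw [crossL_eq hR ((hP P hPm).2 x hx).1]
    exact ((hP P hPm).2 x hx).2
  have hinv : ∀ P ∈ Ps, ∀ X ∈ orbitSet (toSet R) (toSet P.2.1), cross (toSet R) X = P.2.2.1 := by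
    rintro P hPm X ⟨g, hg, hgR, rfl⟩
    conv_lhs => rw [← hgR, cross_smul]
    refine hcross P hPm P.2.1 ?_
    rw [partList]
    exact collectL_acc gens P.1 P.2.1 [P.2.1] P.2.1 (by simp)
  refine ⟨?_, ?_, hinv, hcover⟩
  · intro P hPm
    have hset : orbitSet (toSet R) (toSet P.2.1) = (((partList gens P).map toSet).toFinset : Set Fam) := by
      ext X
      simp only [Finset.mem_coe, List.mem_toFinset, List.mem_map]
      constructor
      · intro hX
        obtain ⟨x, hx, rfl⟩ := hcover X (horbA P hPm hX)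
        obtain ⟨Q, hQm, hxQ⟩ := List.mem_flatMap.1 hx
        have e1 := hinv P hPm _ hX
        rw [hcross Q hQm x hxQ] at e1
        have : Q = P := List.inj_on_of_nodup_map hk hQm hPm e1
        exact ⟨x, this ▸ hxQ, rfl⟩
      · rintro ⟨x, hx, rfl⟩
        exact hmem P hPm x hx
    rw [hset, Set.ncard_coe_finset, List.toFinset_card_of_nodup, List.length_map, (hP P hPm).1]
    refine List.Nodup.map_on (fun x hx y hy e => hinj x (List.mem_flatMap.2 ⟨P, hPm, hx⟩) y
      (List.mem_flatMap.2 ⟨P, hPm, hy⟩) e) ?_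
    exact (List.nodup_flatMap.1 hnd).1 P hPm
  · intro X hX
    obtain ⟨x, hx, rfl⟩ := hcover X hX
    obtain ⟨P, hPm, hx⟩ := List.mem_flatMap.1 hx
    exact ⟨P, hPm, hmem P hPm x hx⟩
where
  collectL_acc (gens : List ℕ) : ∀ (T : OrbTree) (m : List ℕ) (acc : List (List ℕ)) (x : List ℕ),
      x ∈ acc → x ∈ collectL gens T m acc
    | .nil, _, _, _, h => h
    | .node g c s, m, acc, x, h =>
      collectL_acc gens s m _ x (collectL_acc gens c _ _ x (List.mem_cons_of_mem _ h))

theorem orbit_stab_eq {β α : Type*} [MulAction (Equiv.Perm GolayPt) β]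
    [MulAction (Equiv.Perm GolayPt) α] (b : β) (X : α) :
    MulAction.orbit ↥(MulAction.stabilizer M24 b) X = {Y | ∃ g ∈ M24, g • b = b ∧ g • X = Y} := by
  ext Y
  constructor
  · rintro ⟨g, rfl⟩; exact ⟨g.1.1, g.1.2, g.2, rfl⟩
  · rintro ⟨g, hg, h1, h2⟩; exact ⟨⟨⟨g, hg⟩, h1⟩, h2⟩

theorem orbit_stab_fam {α : Type*} [MulAction (Equiv.Perm GolayPt) α] (R : Fam) (X : α) :
    MulAction.orbit ↥(MulAction.stabilizer M24 R) X = orbitSet R X := orbit_stab_eq R X

theorem orbit_stab_single {α : Type*} [MulAction (Equiv.Perm GolayPt) α] (o : Finset GolayPt) (X : α) :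
    MulAction.orbit ↥(MulAction.stabilizer M24 o) X = orbitSet ({o} : Fam) X := by
  rw [orbit_stab_eq]
  simp [orbitSet, Finset.smul_finset_singleton]

end Cfsg.Agent.M24Orbits
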