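import Cfsg.Agent.Golay.Mathieu
import Cfsg.Prelude.Def_SporadicCombinatorics

/-! The stabilizer of a hexad on a dodecad is the symmetric group of degree six. -/

set_option autoImplicit false
open Cfsg Cfsg.Agent.Golay
open scoped Pointwise

namespace Cfsg.Agent.M24Orbits

theorem coe_smul {β : Type*} [MulAction (Equiv.Perm GolayPt) β] (g : M24) (b : β) :
    g • b = (g : Equiv.Perm GolayPt) • b := rfl

variable {d C : Finset GolayPt}

theorem hexad_octad (hC : C ∈ hexadsOn d) {g : Equiv.Perm GolayPt} (hg : g ∈ M24) (hgd : g • d = d)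
    {s : Finset GolayPt} (hsC : s ⊆ C) (hs : 5 ≤ s.card) (hsg : g • s ⊆ C) : g • C = C := by
  obtain ⟨-, o, ho, rfl⟩ := hC
  have h1 : g • o = o := by
    refine octad_eq_of_five_le (smul_mem_octads hg ho) ho (hs.trans ?_)
    rw [← Finset.card_smul_finset g s]
    refine Finset.card_le_card (Finset.subset_inter ?_ ?_)
    · exact Finset.smul_finset_subset_smul_finset (hsC.trans Finset.inter_subset_left)
    · exact hsg.trans Finset.inter_subset_left
  rw [Finset.smul_finset_inter, h1, hgd]

theorem fix_five_subset (hd : d ∈ dodecads) {g : Equiv.Perm GolayPt} (hg : g ∈ M24)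
    (hgd : g • d = d) {s : Finset GolayPt} (hsd : s ⊆ d) (hs : 5 ≤ s.card)
    (hfix : ∀ p ∈ s, g p = p) : g = 1 := by
  obtain ⟨t, hts, ht⟩ := Finset.exists_subset_card_eq hs
  let e : Fin 5 ≃ t := (finCongr ht.symm).trans t.equivFin.symm
  exact eq_one_of_fix_five hd hg hgd (e.toEmbedding.trans (Function.Embedding.subtype _))
    (fun i => hsd (hts (e i).2)) (fun i => hfix _ (hts (e i).2))

theorem hexad_subset (hC : C ∈ hexadsOn d) : C ⊆ d := by
  obtain ⟨-, o, -, rfl⟩ := hC
  exact Finset.inter_subset_right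

/-- Restriction of the hexad stabilizer to the hexad. -/
noncomputable def hexRes (d C : Finset GolayPt) :
    ↥(MulAction.stabilizer M24 d ⊓ MulAction.stabilizer M24 C) →* Equiv.Perm {p // p ∈ C} where
  toFun g := (g.1.1 : Equiv.Perm GolayPt).subtypePerm fun p => by
    have h : g.1.1 • C = C := g.2.2
    have h2 : g.1.1 • p ∈ g.1.1 • C ↔ p ∈ C := Finset.smul_mem_smul_finset_iff _
    simpa [h] using h2
  map_one' := Equiv.ext fun _ => rfl
  map_mul' _ _ := Equiv.ext fun _ => rfl

theorem hexad_iso (hd : d ∈ dodecads) (hC : C ∈ hexadsOn d) :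
    Nonempty (↥(MulAction.stabilizer M24 d ⊓ MulAction.stabilizer M24 C) ≃* Equiv.Perm (Fin 6)) := by
  classical
  have hinj : Function.Injective (hexRes d C) := by
    rw [injective_iff_map_eq_one]
    intro g e
    refine Subtype.ext (Subtype.ext (fix_five_subset hd g.1.2 g.2.1 (hexad_subset hC) (by rw [hC.1]; norm_num)
      fun p hp => ?_))
    exact congrArg Subtype.val (Equiv.ext_iff.1 e ⟨p, hp⟩)
  let e : Fin 6 ≃ {p // p ∈ C} := (finCongr hC.1.symm).trans C.equivFin.symm
  have hsurj : Function.Surjective (hexRes d C) := by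
    intro σ
    let x : Fin 5 ↪ GolayPt := Fin.castSuccEmb.trans (e.toEmbedding.trans (Function.Embedding.subtype _))
    let y : Fin 5 ↪ GolayPt :=
      Fin.castSuccEmb.trans ((e.trans σ).toEmbedding.trans (Function.Embedding.subtype _))
    obtain ⟨g, hg, hgd, hgi⟩ := exists_mem_dodecad_stab hd (le_refl 5) x y
      (fun i => hexad_subset hC (e _).2) (fun i => hexad_subset hC (σ (e _)).2)
    have hgi' : ∀ i : Fin 5, g (e i.castSucc).1 = (σ (e i.castSucc)).1 := hgi
    have hgC : g • C = C := by
      refine hexad_octad hC hg hgd (s := Finset.univ.image x) ?_ ?_ ?_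
      · intro p hp
        obtain ⟨i, -, rfl⟩ := Finset.mem_image.1 hp
        exact (e _).2
      · rw [Finset.card_image_of_injective _ x.injective]; simp
      · intro p hp
        obtain ⟨q, hq, rfl⟩ := Finset.mem_smul_finset.1 hp
        obtain ⟨i, -, rfl⟩ := Finset.mem_image.1 hq
        show g (x i) ∈ C
        rw [hgi i]
        exact (σ (e _)).2
    refine ⟨⟨⟨g, hg⟩, hgd, hgC⟩, ?_⟩
    set ρ := hexRes d C ⟨⟨g, hg⟩, hgd, hgC⟩
    have h5 : ∀ i : Fin 5, ρ (e i.castSucc) = σ (e i.castSucc) := fun i => Subtype.ext (hgi' i)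
    ext p : 1
    obtain ⟨i, rfl⟩ := e.surjective p
    induction i using Fin.lastCases with
    | cast i => exact h5 i
    | last =>
      by_contra hne
      obtain ⟨j, hj⟩ := e.surjective (ρ.symm (σ (e (Fin.last 5))))
      induction j using Fin.lastCases with
      | cast j =>
        have h' : ρ (e j.castSucc) = σ (e (Fin.last 5)) := by rw [hj, Equiv.apply_symm_apply]
        rw [h5 j] at h'
        exact Fin.castSucc_ne_last j (e.injective (σ.injective h'))
      | last => exact hne (by conv_lhs => rw [hj, Equiv.apply_symm_apply])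
  exact ⟨(MulEquiv.ofBijective _ ⟨hinj, hsurj⟩).trans e.symm.permCongrHom⟩

theorem octad_meet_two {o o' : Finset GolayPt} (ho : o ∈ octads) (ho' : o' ∈ octads)
    (h2 : (o ∩ o').card = 2) :
    symmDiff o o' ∈ dodecads ∧ o \ o' ∈ hexadsOn (symmDiff o o') ∧
      MulAction.stabilizer M24 o ⊓ MulAction.stabilizer M24 o' =
        MulAction.stabilizer M24 (symmDiff o o') ⊓ MulAction.stabilizer M24 (o \ o') := by
  have hd : symmDiff o o' ∈ dodecads := by
    refine ⟨symmDiff_mem_supports (octad_subset_supports ho) (octad_subset_supports ho'), ?_⟩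
    have := card_symmDiff_add (s := o) (t := o')
    rw [card_octad ho, card_octad ho', h2] at this
    omega
  have hinter : o ∩ symmDiff o o' = o \ o' := by
    ext p; simp [Finset.mem_symmDiff]; tauto
  have hc : (o \ o').card = 6 := by
    rw [Finset.card_sdiff, card_octad ho, Finset.inter_comm, h2]
  have hC : o \ o' ∈ hexadsOn (symmDiff o o') := ⟨hc, o, ho, hinter⟩
  refine ⟨hd, hC, ?_⟩
  ext g
  simp only [Subgroup.mem_inf, MulAction.mem_stabilizer_iff, coe_smul]
  constructor
  · rintro ⟨h1, h1'⟩
    exact ⟨by rw [Finset.smul_finset_symmDiff, h1, h1'], by rw [Finset.smul_finset_sdiff, h1, h1']⟩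
  · rintro ⟨h1, h1'⟩
    have ho1 : (g : Equiv.Perm GolayPt) • o = o := by
      refine octad_eq_of_five_le (smul_mem_octads g.2 ho) ho (le_trans (by rw [hc]; norm_num)
        (Finset.card_le_card (s := o \ o') (Finset.subset_inter ?_ Finset.sdiff_subset)))
      conv_lhs => rw [← h1']
      exact Finset.smul_finset_subset_smul_finset Finset.sdiff_subset
    refine ⟨ho1, ?_⟩
    have e : o' = symmDiff o (symmDiff o o') := by simp
    rw [e, Finset.smul_finset_symmDiff, ho1, h1]

end Cfsg.Agent.M24Orbits
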