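import Cfsg.Agent.M24Orbits.Certs

/-! Sextets, trios and octads as certified families; transitivity. -/

set_option autoImplicit false
open Cfsg Cfsg.Agent.Golay
open scoped Pointwise

namespace Cfsg.Agent.M24Orbits

theorem smul_mem_sextets {g : Equiv.Perm GolayPt} (hg : g ∈ M24) {S : Fam} (hS : S ∈ sextets) :
    g • S ∈ sextets := by
  obtain ⟨h6, h4, ho⟩ := hS
  refine ⟨by rw [Finset.card_smul_finset]; exact h6, ?_, ?_⟩
  · intro t ht
    obtain ⟨s, hs, rfl⟩ := Finset.mem_smul_finset.1 ht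
    rw [Finset.card_smul_finset]; exact h4 s hs
  · intro t ht u hu hne
    obtain ⟨s, hs, rfl⟩ := Finset.mem_smul_finset.1 ht
    obtain ⟨v, hv, rfl⟩ := Finset.mem_smul_finset.1 hu
    rw [← Finset.smul_finset_union]
    exact smul_mem_octads hg (ho s hs v hv fun e => hne (e ▸ rfl))

theorem smul_mem_trios {g : Equiv.Perm GolayPt} (hg : g ∈ M24) {T : Fam} (hT : T ∈ trios) :
    g • T ∈ trios := by
  obtain ⟨h3, ho, hd⟩ := hT
  refine ⟨by rw [Finset.card_smul_finset]; exact h3, ?_, ?_⟩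
  · intro t ht
    obtain ⟨s, hs, rfl⟩ := Finset.mem_smul_finset.1 ht
    exact smul_mem_octads hg (ho s hs)
  · intro t ht u hu hne
    obtain ⟨s, hs, rfl⟩ := Finset.mem_smul_finset.1 ht
    obtain ⟨v, hv, rfl⟩ := Finset.mem_smul_finset.1 hu
    rw [Finset.disjoint_iff_inter_eq_empty, ← Finset.smul_finset_inter,
      Finset.disjoint_iff_inter_eq_empty.1 (hd s hs v hv fun e => hne (e ▸ rfl)),
      Finset.smul_finset_empty]

/-- Octads as one-member families. -/
def octFams : Set Fam := (fun o => ({o} : Fam)) '' octads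

theorem smul_mem_octFams {g : Equiv.Perm GolayPt} (hg : g ∈ M24) {T : Fam} (hT : T ∈ octFams) :
    g • T ∈ octFams := by
  obtain ⟨o, ho, rfl⟩ := hT
  exact ⟨g • o, smul_mem_octads hg ho, (Finset.smul_finset_singleton _).symm⟩

theorem octFams_ncard : octFams.ncard = 759 := by
  rw [octFams, Set.ncard_image_of_injective _ (fun a b h => Finset.singleton_injective h), octads_ncard]

theorem toSet_card {l : List ℕ} (h : ascB l = true) : (toSet l).card = l.length := by
  obtain ⟨h1, h2⟩ := ascB_spec h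
  rw [toSet, List.toFinset_card_of_nodup, List.length_map]
  exact List.Nodup.map_on (fun x hx y hy e => eq_of_bset_eq (h2 x hx) (h2 y hy) e)
    (h1.imp fun h => h.ne)

theorem mem_toSet {l : List ℕ} {s : Finset GolayPt} : s ∈ toSet l ↔ ∃ m ∈ l, bset m = s := by
  simp [toSet]

theorem octad_of_mask {m : ℕ} (h : (inC m && pc m == 8) = true) : bset m ∈ octads := by
  simp only [Bool.and_eq_true, beq_iff_eq] at h
  rw [mem_octads_iff, mask_bset (lt_of_inC h.1)]
  exact h

/-- Sextet check. -/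
def sextetB (l : List ℕ) : Bool :=
  ascB l && l.length == 6 && l.all fun a => pc a == 4 &&
    l.all fun b => a == b || (inC (a ||| b) && pc (a ||| b) == 8)

theorem sextet_of_list {l : List ℕ} (h : sextetB l = true) : toSet l ∈ sextets := by
  simp only [sextetB, Bool.and_eq_true, beq_iff_eq, List.all_eq_true, Bool.or_eq_true] at h
  obtain ⟨⟨ha, h6⟩, hall⟩ := h
  refine ⟨by rw [toSet_card ha, h6], ?_, ?_⟩
  · intro t ht
    obtain ⟨m, hm, rfl⟩ := mem_toSet.1 ht
    rw [card_bset]; exact (hall m hm).1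
  · intro t ht u hu hne
    obtain ⟨m, hm, rfl⟩ := mem_toSet.1 ht
    obtain ⟨n, hn, rfl⟩ := mem_toSet.1 hu
    rw [← bset_or]
    refine octad_of_mask ?_
    rcases (hall m hm).2 n hn with e | e
    · exact absurd (by rw [e]) hne
    · simp [e.1, e.2]

/-- Trio check. -/
def trioB (l : List ℕ) : Bool :=
  ascB l && l.length == 3 && l.all fun a => inC a && pc a == 8 &&
    l.all fun b => a == b || a &&& b == 0

theorem trio_of_list {l : List ℕ} (h : trioB l = true) : toSet l ∈ trios := by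
  simp only [trioB, Bool.and_eq_true, beq_iff_eq, List.all_eq_true, Bool.or_eq_true] at h
  obtain ⟨⟨ha, h3⟩, hall⟩ := h
  refine ⟨by rw [toSet_card ha, h3], ?_, ?_⟩
  · intro t ht
    obtain ⟨m, hm, rfl⟩ := mem_toSet.1 ht
    exact octad_of_mask (by simp [(hall m hm).1.1, (hall m hm).1.2])
  · intro t ht u hu hne
    obtain ⟨m, hm, rfl⟩ := mem_toSet.1 ht
    obtain ⟨n, hn, rfl⟩ := mem_toSet.1 hu
    rcases (hall m hm).2 n hn with e | e
    · exact absurd (by rw [e]) hne
    · rw [Finset.disjoint_iff_inter_eq_empty, ← bset_and, e, bset_zero]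

theorem toSet_single (m : ℕ) : toSet [m] = {bset m} := by simp [toSet]

theorem octFam_of_list {l : List ℕ} (h : (l.length == 1 && l.all fun a => inC a && pc a == 8) = true) :
    toSet l ∈ octFams := by
  simp only [Bool.and_eq_true, beq_iff_eq, List.all_eq_true] at h
  obtain ⟨m, rfl⟩ := List.length_eq_one_iff.1 h.1
  exact ⟨bset m, octad_of_mask (by simp [h.2 m (by simp)]), (toSet_single m).symm⟩

theorem sextet_transitive {S S' : Fam} (hS : S ∈ sextets) (hS' : S' ∈ sextets) :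
    ∃ g ∈ M24, g • S = S' := by
  obtain ⟨t, ht⟩ : S.Nonempty := Finset.card_pos.1 (by rw [hS.1]; norm_num)
  obtain ⟨t', ht'⟩ : S'.Nonempty := Finset.card_pos.1 (by rw [hS'.1]; norm_num)
  obtain ⟨g, hg, e⟩ := exists_mem_M24_finset t t' (by rw [hS.2.1 t ht, hS'.2.1 t' ht'])
    (by rw [hS.2.1 t ht]; norm_num)
  refine ⟨g, hg, ?_⟩
  have h1 : t' ∈ g • S := e ▸ Finset.smul_mem_smul_finset ht
  rw [sextet_eq_partners (smul_mem_sextets hg hS) h1, ← sextet_eq_partners hS' ht']

theorem trio_of_root {T : Fam} (hT : T ∈ trios) : ∃ g ∈ M24, g • toSet rootTri = T := by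
  classical
  have h := okTrios
  simp only [Bool.and_eq_true, beq_iff_eq, List.all_eq_true] at h
  obtain ⟨⟨hlen, hasc⟩, hd⟩ := h
  set L := collectL [shiftCode, projInvCode, cubeTwistCode] treeTrios rootTri [rootTri]
  have hspec : ∀ x ∈ L, ∃ g ∈ M24, g • toSet rootTri = toSet x :=
    collectL_spec _ M24 stdGen_codes rootTri treeTrios rootTri [rootTri] ⟨1, one_mem _, one_smul _ _⟩
      (by intro y hy; rw [List.mem_singleton] at hy; subst hy; exact ⟨1, one_mem _, one_smul _ _⟩)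
  have hroot : toSet rootTri ∈ trios := trio_of_list (by decide +kernel)
  have hsub : ((L.map toSet).toFinset : Set Fam) ⊆ trios := by
    intro X hX
    simp only [Finset.mem_coe, List.mem_toFinset, List.mem_map] at hX
    obtain ⟨x, hx, rfl⟩ := hX
    obtain ⟨g, hg, e⟩ := hspec x hx
    exact e ▸ smul_mem_trios hg hroot
  have heq : ((L.map toSet).toFinset : Set Fam) = trios := by
    refine Set.eq_of_subset_of_ncard_le hsub ?_ (Set.toFinite _)
    rw [trios_ncard, Set.ncard_coe_finset, List.toFinset_card_of_nodup, List.length_map, hlen]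
    exact List.Nodup.map_on (fun x hx y hy e => toSet_injOn (hasc x hx) (hasc y hy) e)
      (nodup_of_distinctB hd)
  rw [← heq, Finset.mem_coe, List.mem_toFinset, List.mem_map] at hT
  obtain ⟨x, hx, rfl⟩ := hT
  exact hspec x hx

theorem rootOct_eq : toSet rootOct = ({bset 9347075} : Fam) := toSet_single _

theorem octad_of_root {o : Finset GolayPt} (ho : o ∈ octads) :
    ∃ g ∈ M24, g • toSet rootOct = ({o} : Fam) := by
  obtain ⟨g, hg, e⟩ := M24_octad_transitive octad_base ho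
  exact ⟨g, hg, by rw [rootOct_eq, Finset.smul_finset_singleton, e]⟩

theorem sextet_of_root {S : Fam} (hS : S ∈ sextets) : ∃ g ∈ M24, g • toSet rootSex = S :=
  sextet_transitive (sextet_of_list (by decide +kernel)) hS

theorem dod_of_root {d : Finset GolayPt} (hd : d ∈ dodecads) :
    ∃ g ∈ M24, g • toSet rootDod = ({d, Finset.univ \ d} : Fam) := by
  obtain ⟨g, hg, e⟩ := exists_mem_M24_sqMask hd
  refine ⟨g, hg, ?_⟩
  have h : toSet rootDod = ({bset sqMask, Finset.univ \ bset sqMask} : Fam) := by decide +kernel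
  rw [h, Finset.smul_finset_insert, Finset.smul_finset_singleton, Finset.smul_finset_sdiff,
    Finset.smul_finset_univ, e]

theorem three_of_root {Y : Finset GolayPt} (hY : Y.card = 3) :
    ∃ g ∈ M24, g • toSet rootY = ({Y} : Fam) := by
  have h3 : (bset (8388608 + 3)).card = 3 := by decide +kernel
  obtain ⟨g, hg, e⟩ := exists_mem_M24_finset (bset (8388608 + 3)) Y (by rw [h3, hY]) (by rw [h3]; norm_num)
  refine ⟨g, hg, ?_⟩
  rw [show rootY = [8388608 + 3] from by decide +kernel, toSet_single, Finset.smul_finset_singleton, e]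

/-- The orbits, carried to any conjugate structure. -/
theorem orbits_at {R gens : List ℕ} {Ps : List Part} {N : ℕ} {A : Set Fam}
    (h : partsOK R gens Ps N = true) (hA : ∀ g ∈ M24, ∀ X ∈ A, g • X ∈ A) (hN : A.ncard = N)
    (hroot : ∀ P ∈ Ps, toSet P.2.1 ∈ A) {R' : Fam} (hR : ∃ g ∈ M24, g • toSet R = R') :
    ∃ F : Part → Fam, (∀ P ∈ Ps, F P ∈ A ∧ (orbitSet R' (F P)).ncard = P.2.2.2) ∧
      (∀ X ∈ A, ∃ P ∈ Ps, X ∈ orbitSet R' (F P)) ∧
      (∀ P ∈ Ps, ∀ X ∈ orbitSet R' (F P), cross R' X = P.2.2.1) := by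
  obtain ⟨g, hg, rfl⟩ := hR
  obtain ⟨h1, h2, h3, -⟩ := partsOK_spec h hA hN hroot
  refine ⟨fun P => g • toSet P.2.1, fun P hP => ⟨hA g hg _ (hroot P hP), ?_⟩, fun X hX => ?_, ?_⟩
  · rw [orbitSet_conj_ncard hg]; exact h1 P hP
  · obtain ⟨P, hP, hm⟩ := h2 (g⁻¹ • X) (hA _ (inv_mem hg) X hX)
    exact ⟨P, hP, by rw [orbitSet_conj hg]; exact ⟨_, hm, smul_inv_smul g X⟩⟩
  · intro P hP X hX
    rw [orbitSet_conj hg] at hX
    obtain ⟨Z, hZ, rfl⟩ := hX
    show cross (g • toSet R) (g • Z) = _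
    rw [cross_smul]
    exact h3 P hP Z hZ

theorem orbitSet_subset {A : Set Fam} (hA : ∀ g ∈ M24, ∀ X ∈ A, g • X ∈ A) {R X : Fam} (hX : X ∈ A) :
    orbitSet R X ⊆ A := by
  rintro Y ⟨g, hg, -, rfl⟩; exact hA g hg X hX

theorem octFam_orbit (R : Fam) (o : Finset GolayPt) :
    orbitSet R ({o} : Fam) = (fun x => ({x} : Fam)) '' orbitSet R o := by
  ext Y
  constructor
  · rintro ⟨g, hg, h1, rfl⟩
    exact ⟨g • o, ⟨g, hg, h1, rfl⟩, (Finset.smul_finset_singleton _).symm⟩
  · rintro ⟨x, ⟨g, hg, h1, rfl⟩, rfl⟩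
    exact ⟨g, hg, h1, Finset.smul_finset_singleton _⟩

theorem octFam_orbit_ncard (R : Fam) (o : Finset GolayPt) :
    (orbitSet R ({o} : Fam)).ncard = (orbitSet R o).ncard := by
  rw [octFam_orbit, Set.ncard_image_of_injective _ (fun a b h => Finset.singleton_injective h)]

theorem three_parts {A : Set Fam} {R : Fam} (hA : ∀ g ∈ M24, ∀ X ∈ A, g • X ∈ A)
    {P₁ P₂ P₃ : Part} {F : Part → Fam}
    (h1 : ∀ P ∈ [P₁, P₂, P₃], F P ∈ A ∧ (orbitSet R (F P)).ncard = P.2.2.2)
    (h2 : ∀ X ∈ A, ∃ P ∈ [P₁, P₂, P₃], X ∈ orbitSet R (F P)) :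
    A = orbitSet R (F P₁) ∪ orbitSet R (F P₂) ∪ orbitSet R (F P₃) := by
  refine Set.Subset.antisymm (fun X hX => ?_) (Set.union_subset (Set.union_subset ?_ ?_) ?_)
  · obtain ⟨P, hP, hm⟩ := h2 X hX
    simp only [List.mem_cons, List.not_mem_nil, or_false] at hP
    rcases hP with rfl | rfl | rfl
    · exact Or.inl (Or.inl hm)
    · exact Or.inl (Or.inr hm)
    · exact Or.inr hm
  all_goals exact orbitSet_subset hA (h1 _ (by simp)).1

theorem four_parts {A : Set Fam} {R : Fam} (hA : ∀ g ∈ M24, ∀ X ∈ A, g • X ∈ A)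
    {P₁ P₂ P₃ P₄ : Part} {F : Part → Fam}
    (h1 : ∀ P ∈ [P₁, P₂, P₃, P₄], F P ∈ A ∧ (orbitSet R (F P)).ncard = P.2.2.2)
    (h2 : ∀ X ∈ A, ∃ P ∈ [P₁, P₂, P₃, P₄], X ∈ orbitSet R (F P)) :
    A = orbitSet R (F P₁) ∪ orbitSet R (F P₂) ∪ orbitSet R (F P₃) ∪ orbitSet R (F P₄) := by
  refine Set.Subset.antisymm (fun X hX => ?_)
    (Set.union_subset (Set.union_subset (Set.union_subset ?_ ?_) ?_) ?_)
  · obtain ⟨P, hP, hm⟩ := h2 X hX
    simp only [List.mem_cons, List.not_mem_nil, or_false] at hP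
    rcases hP with rfl | rfl | rfl | rfl
    · exact Or.inl (Or.inl (Or.inl hm))
    · exact Or.inl (Or.inl (Or.inr hm))
    · exact Or.inl (Or.inr hm)
    · exact Or.inr hm
  all_goals exact orbitSet_subset hA (h1 _ (by simp)).1

theorem octad_orbits3 {R : Fam} {X₁ X₂ X₃ : Finset GolayPt}
    (h : octFams = orbitSet R ({X₁} : Fam) ∪ orbitSet R ({X₂} : Fam) ∪ orbitSet R ({X₃} : Fam)) :
    octads = orbitSet R X₁ ∪ orbitSet R X₂ ∪ orbitSet R X₃ := by
  rw [octFam_orbit, octFam_orbit, octFam_orbit, ← Set.image_union, ← Set.image_union, octFams] at h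
  exact Set.image_injective.2 (fun a b h => Finset.singleton_injective h) h

end Cfsg.Agent.M24Orbits
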