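import Cfsg.Agent.M24Orbits.Hexad

/-! Six-element sets of points: transitivity and point-fixers. -/

set_option autoImplicit false
open Cfsg Cfsg.Agent.Golay
open scoped Pointwise

namespace Cfsg.Agent.M24Orbits

theorem lvl7 : lvl M24 7 = ⊥ :=
  (Subgroup.eq_bot_iff_forall _).2 fun _ hg =>
    eq_one_of_fix_base (mem_lvl.1 hg).1 (mem_lvl.1 hg).2

theorem lvl_step (k : ℕ) (hk : k < 7) :
    Nat.card (lvl M24 k) = pc (targetMasks.getD k 0) * Nat.card (lvl M24 (k + 1)) := by
  rw [lvl_succ M24 (show k < basePts.length from hk), ← card_bset]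
  exact card_eq_orbit_mul_stab _ _ _ (trans_spec M24 closure_stdGens_le k hk)
    (lvl_bound M24 le_rfl k hk)

theorem lvl6_card : Nat.card (lvl M24 6) = 3 := by
  rw [lvl_step 6 (by norm_num), lvl7, Subgroup.card_bot]; decide +kernel

theorem lvl5_card : Nat.card (lvl M24 5) = 48 := by
  rw [lvl_step 5 (by norm_num), lvl6_card]; decide +kernel

theorem lvl_mono {g : Equiv.Perm GolayPt} (h : g ∈ lvl M24 6) : g ∈ lvl M24 5 :=
  mem_lvl.2 ⟨(mem_lvl.1 h).1, fun i hi =>
    (mem_lvl.1 h).2 i (List.take_subset_take_left _ (by norm_num) hi)⟩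

/-- The standard five-point set. -/
def five : Finset GolayPt := bset (8388608 + 3 + 8192 + 32768)

/-- Its octad. -/
def oct : Finset GolayPt := bset 9347075

theorem five_subset : five ⊆ oct := by decide +kernel

theorem five_card : five.card = 5 := by decide +kernel

theorem mem_lvl5 {g : Equiv.Perm GolayPt} :
    g ∈ lvl M24 5 ↔ g ∈ M24 ∧ ∀ p ∈ five, g p = p := by
  have h1 : ∀ i ∈ basePts.take 5, pt i ∈ five := by decide +kernel
  have h2 : ∀ p ∈ five, idx p ∈ basePts.take 5 := by decide +kernel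
  rw [mem_lvl]
  refine and_congr_right fun _ => ⟨fun h p hp => ?_, fun h i hi => h _ (h1 i hi)⟩
  have := h _ (h2 p hp)
  rwa [pt_idx] at this

theorem lvl5_oct {g : Equiv.Perm GolayPt} (hg : g ∈ lvl M24 5) : g • oct = oct :=
  smul_octad_eq (mem_lvl5.1 hg).1 octad_base five_subset five_card.ge (mem_lvl5.1 hg).2

theorem inside_orbit {t : GolayPt} (ht : t ∈ oct) (ht5 : t ∉ five) :
    ∃ h ∈ lvl M24 5, h (pt (basePts.getD 6 0)) = t := by
  have hmem : t ∈ bset (targetMasks.getD 6 0) := by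
    have h' : ∀ t : GolayPt, t ∈ oct → t ∉ five → t ∈ bset (targetMasks.getD 6 0) := by decide +kernel
    exact h' t ht ht5
  obtain ⟨h, hh, e⟩ := trans_spec M24 closure_stdGens_le 6 (by norm_num) t hmem
  exact ⟨h, lvl_mono hh, e⟩

theorem outside_orbit {t : GolayPt} (ht : t ∉ oct) :
    ∃ h ∈ lvl M24 5, h (pt (basePts.getD 5 0)) = t := by
  have hmem : t ∈ bset (targetMasks.getD 5 0) := by
    have h' : ∀ t : GolayPt, t ∉ oct → t ∈ bset (targetMasks.getD 5 0) := by decide +kernel
    exact h' t ht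
  exact trans_spec M24 closure_stdGens_le 5 (by norm_num) t hmem

/-- Six distinct points lie in an octad. -/
def Special (x : Fin 6 ↪ GolayPt) : Prop := ∃ o ∈ octads, ∀ i, x i ∈ o

/-- Carrying the standard five points to the first five of a six-tuple. -/
theorem normalize (x : Fin 6 ↪ GolayPt) :
    ∃ g ∈ M24, (∀ i : Fin 5, g (pt (basePts.getD i 0)) = x i.castSucc) ∧
      g⁻¹ (x (Fin.last 5)) ∉ five ∧ (g⁻¹ (x (Fin.last 5)) ∈ oct ↔ Special x) := by
  obtain ⟨g, hg, hgi⟩ := exists_mem_M24_base 5 le_rfl (Fin.castSuccEmb.trans x)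
  have hgi' : ∀ i : Fin 5, g (pt (basePts.getD i 0)) = x i.castSucc := hgi
  have hfive : ∀ p ∈ five, ∃ i : Fin 5, pt (basePts.getD i 0) = p := by decide +kernel
  have hfive' : ∀ i : Fin 5, pt (basePts.getD i 0) ∈ five := by decide +kernel
  refine ⟨g, hg, hgi', fun h => ?_, ?_⟩
  · obtain ⟨i, hi⟩ := hfive _ h
    have := hgi' i
    rw [hi, Equiv.Perm.coe_inv, Equiv.apply_symm_apply] at this
    exact Fin.castSucc_ne_last i (x.injective this).symm
  · constructor
    · intro h
      refine ⟨g • oct, smul_mem_octads hg octad_base, fun i => ?_⟩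
      induction i using Fin.lastCases with
      | cast i => rw [← hgi' i]; exact Finset.smul_mem_smul_finset (five_subset (hfive' i))
      | last => rw [← Finset.inv_smul_mem_iff]; exact h
    · rintro ⟨o, ho, hx⟩
      have e : g • oct = o := by
        refine octad_eq_of_five_le (smul_mem_octads hg octad_base) ho ?_
        rw [← five_card, ← Finset.card_smul_finset g five]
        refine Finset.card_le_card (Finset.subset_inter
          (Finset.smul_finset_subset_smul_finset five_subset) ?_)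
        intro p hp
        obtain ⟨q, hq, rfl⟩ := Finset.mem_smul_finset.1 hp
        obtain ⟨i, rfl⟩ := hfive q hq
        rw [Equiv.Perm.smul_def, hgi' i]
        exact hx _
      have := hx (Fin.last 5)
      rw [← e, ← Finset.inv_smul_mem_iff] at this
      exact this

theorem six_move (x y : Fin 6 ↪ GolayPt) (h : Special x ↔ Special y) :
    ∃ g ∈ M24, ∀ i, g (x i) = y i := by
  obtain ⟨a, ha, hai, ha5, haO⟩ := normalize x
  obtain ⟨b, hb, hbi, hb5, hbO⟩ := normalize y
  obtain ⟨m, hm, hme⟩ : ∃ m ∈ lvl M24 5, m (a⁻¹ (x (Fin.last 5))) = b⁻¹ (y (Fin.last 5)) := by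
    by_cases hs : Special x
    · obtain ⟨p, hp, ep⟩ := inside_orbit (haO.2 hs) ha5
      obtain ⟨q, hq, eq⟩ := inside_orbit (hbO.2 (h.1 hs)) hb5
      exact ⟨q * p⁻¹, mul_mem hq (inv_mem hp),
        by rw [← ep, ← eq, Equiv.Perm.mul_apply, Equiv.Perm.coe_inv, Equiv.symm_apply_apply]⟩
    · obtain ⟨p, hp, ep⟩ := outside_orbit (fun e => hs (haO.1 e))
      obtain ⟨q, hq, eq⟩ := outside_orbit (fun e => hs (h.2 (hbO.1 e)))
      exact ⟨q * p⁻¹, mul_mem hq (inv_mem hp),
        by rw [← ep, ← eq, Equiv.Perm.mul_apply, Equiv.Perm.coe_inv, Equiv.symm_apply_apply]⟩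
  refine ⟨b * m * a⁻¹, mul_mem (mul_mem hb (mem_lvl5.1 hm).1) (inv_mem ha), fun i => ?_⟩
  induction i using Fin.lastCases with
  | cast i =>
    have h1 : a⁻¹ (x i.castSucc) = pt (basePts.getD i 0) := by
      rw [← hai i, Equiv.Perm.coe_inv, Equiv.symm_apply_apply]
    have h2 : pt (basePts.getD i 0) ∈ five := (by decide +kernel : ∀ i : Fin 5, pt (basePts.getD i 0) ∈ five) i
    simp only [Equiv.Perm.mul_apply]
    rw [h1, (mem_lvl5.1 hm).2 _ h2, hbi i]
  | last =>
    simp only [Equiv.Perm.mul_apply]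
    rw [hme, Equiv.Perm.coe_inv, Equiv.apply_symm_apply]

theorem special_iff {E : Finset GolayPt} (x : Fin 6 ↪ GolayPt) (hx : Finset.univ.map x = E) :
    Special x ↔ ∃ o ∈ octads, E ⊆ o := by
  refine exists_congr fun o => and_congr_right fun _ => ?_
  rw [← hx]
  simp [Finset.subset_iff]

theorem exists_enum (E : Finset GolayPt) (hE : E.card = 6) :
    ∃ x : Fin 6 ↪ GolayPt, Finset.univ.map x = E := by
  refine ⟨((finCongr hE.symm).trans E.equivFin.symm).toEmbedding.trans
    (Function.Embedding.subtype _), ?_⟩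
  ext p
  simp only [Finset.mem_map, Finset.mem_univ, true_and]
  constructor
  · rintro ⟨i, rfl⟩; exact (((finCongr hE.symm).trans E.equivFin.symm) i).2
  · intro hp
    exact ⟨((finCongr hE.symm).trans E.equivFin.symm).symm ⟨p, hp⟩, by simp⟩

theorem sym_on (E : Finset GolayPt) (hE : E.card = 6) (σ : Equiv.Perm ↥E) :
    ∃ g ∈ M24, ∀ p : ↥E, g p = σ p := by
  obtain ⟨x, hx⟩ := exists_enum E hE
  have hxm : ∀ i, x i ∈ E := fun i => hx ▸ Finset.mem_map_of_mem _ (Finset.mem_univ i)
  let y : Fin 6 ↪ GolayPt :=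
    ⟨fun i => (σ ⟨x i, hxm i⟩ : GolayPt), fun i j e => x.injective
      (congrArg Subtype.val (σ.injective (Subtype.ext e)))⟩
  have hy : Finset.univ.map y = E := by
    refine Finset.eq_of_subset_of_card_le (fun p hp => ?_) (by simp [hE])
    obtain ⟨i, -, rfl⟩ := Finset.mem_map.1 hp
    exact (σ _).2
  obtain ⟨g, hg, hgi⟩ := six_move x y (by rw [special_iff x hx, special_iff y hy])
  refine ⟨g, hg, fun p => ?_⟩
  have hp : (p : GolayPt) ∈ Finset.univ.map x := by rw [hx]; exact p.2
  obtain ⟨i, -, hi⟩ := Finset.mem_map.1 hp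
  have : (⟨x i, hxm i⟩ : ↥E) = p := Subtype.ext hi
  rw [← this]
  exact hgi i

/-- The point-fixer in `M24` of a set of points. -/
def fixer (E : Finset GolayPt) : Subgroup (Equiv.Perm GolayPt) :=
  M24 ⊓ fixingSubgroup (Equiv.Perm GolayPt) (E : Set GolayPt)

theorem mem_fixer {E : Finset GolayPt} {g : Equiv.Perm GolayPt} :
    g ∈ fixer E ↔ g ∈ M24 ∧ ∀ p ∈ E, g p = p := by
  simp [fixer, mem_fixingSubgroup_iff]

theorem fixer_insert (p : GolayPt) :
    fixer (insert p five) = lvl M24 5 ⊓ MulAction.stabilizer (Equiv.Perm GolayPt) p := by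
  ext g
  simp [mem_fixer, mem_lvl5, and_assoc, and_comm, and_left_comm]

theorem fixer_card (E : Finset GolayPt) (hE : E.card = 6) :
    ((∃ o ∈ octads, E ⊆ o) → Nat.card (fixer E) = 16) ∧
    ((¬ ∃ o ∈ octads, E ⊆ o) → Nat.card (fixer E) = 3) := by
  obtain ⟨x, hx⟩ := exists_enum E hE
  obtain ⟨g, hg, hgi, hg5, hgO⟩ := normalize x
  have hEeq : E = g • insert (g⁻¹ (x (Fin.last 5))) five := by
    have hfive : five = Finset.univ.image fun i : Fin 5 => pt (basePts.getD i 0) := by decide +kernel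
    rw [← hx, hfive, Finset.smul_finset_insert, ← Finset.image_smul, Finset.image_image]
    ext p
    simp only [Finset.mem_map, Finset.mem_univ, true_and, Finset.mem_insert, Finset.mem_image,
      Function.comp, Equiv.Perm.smul_def, Equiv.Perm.coe_inv, Equiv.apply_symm_apply]
    rw [Fin.exists_fin_succ']
    constructor
    · rintro (⟨i, rfl⟩ | rfl)
      · exact Or.inr ⟨i, hgi i⟩
      · exact Or.inl rfl
    · rintro (rfl | ⟨i, rfl⟩)
      · exact Or.inr rfl
      · exact Or.inl ⟨i, (hgi i).symm⟩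
  set a := g⁻¹ (x (Fin.last 5)) with hadef
  have hconj : Nat.card (fixer E) = Nat.card (fixer (insert a five)) := by
    refine Nat.card_congr
      { toFun := fun h => ⟨g⁻¹ * h.1 * g, mem_fixer.2
          ⟨mul_mem (mul_mem (inv_mem hg) (mem_fixer.1 h.2).1) hg, fun p hp => ?_⟩⟩
        invFun := fun h => ⟨g * h.1 * g⁻¹, mem_fixer.2
          ⟨mul_mem (mul_mem hg (mem_fixer.1 h.2).1) (inv_mem hg), fun p hp => ?_⟩⟩
        left_inv := fun h => Subtype.ext (by group)
        right_inv := fun h => Subtype.ext (by group) }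
    · have hp' : g p ∈ E := hEeq ▸ Finset.smul_mem_smul_finset hp
      simp [(mem_fixer.1 h.2).2 _ hp']
    · rw [hEeq, ← Finset.inv_smul_mem_iff] at hp
      have := (mem_fixer.1 h.2).2 _ hp
      simp only [Equiv.Perm.mul_apply]
      rw [show h.1 (g⁻¹ p) = g⁻¹ p from this, Equiv.Perm.coe_inv, Equiv.apply_symm_apply]
  have key : ∀ (T : Finset GolayPt), a ∈ T →
      (∀ t ∈ T, ∃ h ∈ lvl M24 5, h a = t) → (∀ h ∈ lvl M24 5, h a ∈ T) →
      48 = T.card * Nat.card (fixer E) := by
    intro T _ h1 h2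
    rw [hconj, fixer_insert, ← lvl5_card]
    exact card_eq_orbit_mul_stab _ a T h1 h2
  rw [← special_iff x hx]
  constructor
  · intro hs
    have haO : a ∈ oct := hgO.2 hs
    have hT : (oct \ five).card = 3 := by decide +kernel
    have := key (oct \ five) (Finset.mem_sdiff.2 ⟨haO, hg5⟩) (fun t ht => by
      obtain ⟨p, hp, ep⟩ := inside_orbit haO hg5
      obtain ⟨q, hq, eq⟩ := inside_orbit (Finset.mem_sdiff.1 ht).1 (Finset.mem_sdiff.1 ht).2
      exact ⟨q * p⁻¹, mul_mem hq (inv_mem hp),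
        by rw [← ep, ← eq, Equiv.Perm.mul_apply, Equiv.Perm.coe_inv, Equiv.symm_apply_apply]⟩)
      (fun h hh => by
        refine Finset.mem_sdiff.2 ⟨?_, fun e => hg5 ?_⟩
        · rw [← lvl5_oct hh]; exact Finset.smul_mem_smul_finset haO
        · have := (mem_lvl5.1 hh).2 _ e
          rwa [← h.injective this])
    rw [hT] at this
    omega
  · intro hs
    have haO : a ∉ oct := fun e => hs (hgO.1 e)
    have hT : (Finset.univ \ oct).card = 16 := by decide +kernel
    have := key (Finset.univ \ oct) (by simp [haO]) (fun t ht => by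
      obtain ⟨p, hp, ep⟩ := outside_orbit haO
      obtain ⟨q, hq, eq⟩ := outside_orbit (Finset.mem_sdiff.1 ht).2
      exact ⟨q * p⁻¹, mul_mem hq (inv_mem hp),
        by rw [← ep, ← eq, Equiv.Perm.mul_apply, Equiv.Perm.coe_inv, Equiv.symm_apply_apply]⟩)
      (fun h hh => by
        refine Finset.mem_sdiff.2 ⟨Finset.mem_univ _, fun e => haO ?_⟩
        rw [← lvl5_oct hh] at e
        exact (Finset.smul_mem_smul_finset_iff h).1 e)
    rw [hT] at this
    omega

theorem fixer_subtype (E : Finset GolayPt) :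
    Nat.card {g : Equiv.Perm GolayPt // g ∈ M24 ∧ ∀ p ∈ E, g p = p} = Nat.card (fixer E) :=
  Nat.card_congr (Equiv.subtypeEquivRight fun _ => mem_fixer.symm)

theorem stab_six_card (E : Finset GolayPt) (hE : E.card = 6) :
    Nat.card ↥(MulAction.stabilizer M24 E) = 720 * Nat.card (fixer E) := by
  classical
  let φ : ↥(MulAction.stabilizer M24 E) →* Equiv.Perm {p // p ∈ E} :=
    { toFun := fun g => (g.1 : Equiv.Perm GolayPt).subtypePerm fun p => by
        have h : (g.1 : Equiv.Perm GolayPt) • E = E := g.2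
        have h2 : (g.1 : Equiv.Perm GolayPt) • p ∈ (g.1 : Equiv.Perm GolayPt) • E ↔ p ∈ E :=
          Finset.smul_mem_smul_finset_iff _
        simpa [h] using h2
      map_one' := Equiv.ext fun _ => rfl
      map_mul' := fun _ _ => Equiv.ext fun _ => rfl }
  have hφ : ∀ g p, ((φ g p : {p // p ∈ E}) : GolayPt) = (g.1 : Equiv.Perm GolayPt) p := fun _ _ => rfl
  have hsurj : Function.Surjective φ := by
    intro σ
    obtain ⟨g, hg, hgp⟩ := sym_on E hE σ
    have hgE : g • E = E := by
      refine Finset.eq_of_subset_of_card_le (fun q hq => ?_) (by simp)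
      obtain ⟨p, hp, rfl⟩ := Finset.mem_smul_finset.1 hq
      show g p ∈ E
      rw [hgp ⟨p, hp⟩]
      exact (σ _).2
    exact ⟨⟨⟨g, hg⟩, hgE⟩, Equiv.ext fun p => Subtype.ext (by rw [hφ]; exact hgp p)⟩
  have hker : Nat.card φ.ker = Nat.card (fixer E) := by
    refine Nat.card_congr
      { toFun := fun g => ⟨g.1.1.1, mem_fixer.2 ⟨g.1.1.2, fun p hp => ?_⟩⟩
        invFun := fun g => ⟨⟨⟨g.1, (mem_fixer.1 g.2).1⟩, ?_⟩, ?_⟩
        left_inv := fun _ => rfl
        right_inv := fun _ => rfl }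
    · have := congrArg (fun π : Equiv.Perm {p // p ∈ E} => (π ⟨p, hp⟩ : GolayPt)) g.2
      exact this
    · refine Finset.eq_of_subset_of_card_le (fun q hq => ?_) (by simp)
      obtain ⟨p, hp, rfl⟩ := Finset.mem_smul_finset.1 hq
      show g.1 p ∈ E
      rw [(mem_fixer.1 g.2).2 p hp]
      exact hp
    · exact Equiv.ext fun p => Subtype.ext ((mem_fixer.1 g.2).2 p p.2)
  rw [← Subgroup.index_mul_card φ.ker, hker, Subgroup.index_ker, φ.range_eq_top.2 hsurj,
    Subgroup.card_top, Nat.card_perm, Nat.card_eq_fintype_card, Fintype.card_coe, hE]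
  rfl

end Cfsg.Agent.M24Orbits
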