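import Cfsg.Agent.M24Orbits.Objects
import Cfsg.Agent.M24Orbits.SixSets

/-! Products of packed permutations, finite closure certificates, point-fixer lists. -/

set_option autoImplicit false
open Cfsg Cfsg.Agent.Golay
open scoped Pointwise

namespace Cfsg.Agent.M24Orbits

/-- Pack a list of images. -/
def packL : List ℕ → ℕ
  | [] => 0
  | x :: l => x + 32 * packL l

theorem app_cons_zero {x m : ℕ} (hx : x < 32) : app (x + 32 * m) 0 = x := by
  simp only [app, Nat.mul_zero, Nat.shiftRight_zero]
  rw [show (31 : ℕ) = 2 ^ 5 - 1 from rfl, Nat.and_two_pow_sub_one_eq_mod]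
  omega

theorem app_cons_succ {x m i : ℕ} (hx : x < 32) : app (x + 32 * m) (i + 1) = app m i := by
  simp only [app]
  congr 1
  rw [show 5 * (i + 1) = 5 + 5 * i by ring, Nat.shiftRight_add]
  congr 1
  rw [Nat.shiftRight_eq_div_pow]
  omega

theorem app_packL : ∀ (l : List ℕ), (∀ x ∈ l, x < 32) → ∀ i (hi : i < l.length),
    app (packL l) i = l[i]
  | [], _, i, hi => by simp at hi
  | x :: l, h, 0, _ => by simp [packL, app_cons_zero (h x (by simp))]
  | x :: l, h, i + 1, hi => by
    rw [packL, app_cons_succ (h x (by simp)),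
      app_packL l (fun y hy => h y (by simp [hy])) i (by simpa using hi)]
    simp

theorem packL_lt : ∀ (l : List ℕ), (∀ x ∈ l, x < 32) → packL l < 2 ^ (5 * l.length)
  | [], _ => by simp [packL]
  | x :: l, h => by
    have := packL_lt l fun y hy => h y (by simp [hy])
    have := h x (by simp)
    rw [List.length_cons, show 5 * (l.length + 1) = 5 * l.length + 5 by ring, pow_add, packL]
    omega

theorem app_le (c i : ℕ) : app c i < 32 :=
  lt_of_le_of_lt Nat.and_le_right (by norm_num)

/-- Packed composite. -/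
def comp (a b : ℕ) : ℕ := packL ((List.range 24).map fun i => app a (app b i))

theorem app_comp (a b : ℕ) {i : ℕ} (hi : i < 24) : app (comp a b) i = app a (app b i) := by
  rw [comp, app_packL _ (fun x hx => by
    obtain ⟨j, -, rfl⟩ := List.mem_map.1 hx; exact app_le _ _) i (by simpa using hi)]
  simp

theorem comp_lt (a b : ℕ) : comp a b < 2 ^ 120 := by
  have := packL_lt ((List.range 24).map fun i => app a (app b i)) (fun x hx => by
    obtain ⟨j, -, rfl⟩ := List.mem_map.1 hx; exact app_le _ _)
  simpa [comp] using this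

theorem eq_permOf_of_idx {σ : Equiv.Perm GolayPt} {c : ℕ} (h : ∀ p, idx (σ p) = app c (idx p))
    (hok : permOK c = true) : σ = permOf c := by
  ext p : 1
  exact idx_injective (by rw [h p, idx_permOf hok])

theorem permOK_of_idx {σ : Equiv.Perm GolayPt} {c : ℕ} (h : ∀ p, idx (σ p) = app c (idx p)) :
    permOK c = true := by
  simp only [permOK, Bool.and_eq_true, beq_iff_eq, List.all_eq_true, decide_eq_true_eq]
  have happ : ∀ i < 24, app c i < 24 := fun i hi => by
    rw [← idx_pt hi, ← h]; exact idx_lt _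
  refine ⟨?_, fun i hi => happ i (List.mem_range.1 hi)⟩
  refine Nat.eq_of_testBit_eq fun j => ?_
  rw [show (16777215 : ℕ) = 2 ^ 24 - 1 by norm_num, Nat.testBit_two_pow_sub_one, Bool.eq_iff_iff,
    mapMask, testBit_mapAux, decide_eq_true_eq]
  constructor
  · rintro ⟨i, hi, -, rfl⟩; exact happ i hi
  · intro hj
    refine ⟨idx (σ.symm (pt j)), idx_lt _, ?_, ?_⟩
    · rw [show (2 ^ 24 - 1 : ℕ) = 16777215 by norm_num]
      exact mem_bset.1 (by rw [bset_full]; exact Finset.mem_univ _)
    · rw [← h, Equiv.apply_symm_apply, idx_pt hj]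

theorem permOf_comp {a b : ℕ} (ha : permOK a = true) (hb : permOK b = true) :
    permOK (comp a b) = true ∧ permOf (comp a b) = permOf a * permOf b := by
  have h : ∀ p, idx ((permOf a * permOf b) p) = app (comp a b) (idx p) := fun p => by
    rw [Equiv.Perm.mul_apply, idx_permOf ha, idx_permOf hb, app_comp _ _ (idx_lt p)]
  have hok := permOK_of_idx h
  exact ⟨hok, (eq_permOf_of_idx h hok).symm⟩

/-- Equality of two composites `a b = c d`. -/
def sqB (a b c d : ℕ) : Bool := (List.range 24).all fun i => app a (app b i) == app c (app d i)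

theorem sqB_iff {a b c d : ℕ} (ha : permOK a = true) (hb : permOK b = true) (hc : permOK c = true)
    (hd : permOK d = true) : sqB a b c d = true ↔ permOf a * permOf b = permOf c * permOf d := by
  simp only [sqB, List.all_eq_true, beq_iff_eq]
  constructor
  · intro h
    ext p : 1
    apply idx_injective
    rw [Equiv.Perm.mul_apply, Equiv.Perm.mul_apply, idx_permOf ha, idx_permOf hb, idx_permOf hc, idx_permOf hd]
    exact h _ (List.mem_range.2 (idx_lt p))
  · intro h i hi
    have := congrArg (fun σ : Equiv.Perm GolayPt => idx (σ (pt i))) h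
    simp only [Equiv.Perm.mul_apply, idx_permOf ha, idx_permOf hb, idx_permOf hc, idx_permOf hd,
      idx_pt (List.mem_range.1 hi)] at this
    exact this

theorem code_ext {a b : ℕ} (ha : a < 2 ^ 120) (hb : b < 2 ^ 120) (hoka : permOK a = true)
    (hokb : permOK b = true) (h : permOf a = permOf b) : a = b := by
  refine Nat.eq_of_testBit_eq fun j => ?_
  by_cases hj : j < 120
  · have h0 := congrArg (fun σ : Equiv.Perm GolayPt => idx (σ (pt (j / 5)))) h
    simp only [idx_permOf hoka, idx_permOf hokb, idx_pt (show j / 5 < 24 by omega)] at h0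
    have := congrArg (fun n : ℕ => n.testBit (j % 5)) h0
    simp only [app, Nat.testBit_and, Nat.testBit_shiftRight] at this
    rw [show 5 * (j / 5) + j % 5 = j by omega] at this
    have h31 : (31 : ℕ).testBit (j % 5) = true := by
      rw [show (31 : ℕ) = 2 ^ 5 - 1 from rfl, Nat.testBit_two_pow_sub_one]
      simpa using Nat.mod_lt _ (by norm_num)
    simpa [h31] using this
  · have hpow : (2 : ℕ) ^ 120 ≤ 2 ^ j := Nat.pow_le_pow_right (by norm_num) (by omega)
    rw [Nat.testBit_lt_two_pow (lt_of_lt_of_le ha hpow), Nat.testBit_lt_two_pow (lt_of_lt_of_le hb hpow)]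

/-! ### Finite closure -/

/-- Search. -/
def KeyTree.find : KeyTree → ℕ → Bool
  | .leaf, _ => false
  | .node v l r, a => bif a == v then true else bif Nat.ble a v then l.find a else r.find a

theorem KeyTree.find_spec : ∀ (t : KeyTree) (a : ℕ), t.find a = true → t.Mem a
  | .leaf, a, h => by simp [KeyTree.find] at h
  | .node v l r, a, h => by
    simp only [KeyTree.find] at h
    cases hav : (a == v)
    · rw [hav, cond_false] at h
      refine Or.inr ?_
      cases hle : Nat.ble a v <;> rw [hle] at h
      · exact KeyTree.find_spec r a h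
      · exact KeyTree.find_spec l a h
    · exact Or.inl (by simpa using hav)

theorem insertAll_mem : ∀ (l : List ℕ) (t t' : KeyTree), insertAll l t = some t' →
    ∀ a, t'.Mem a → t.Mem a ∨ a ∈ l
  | [], t, t', h, a, ha => by
    simp only [insertAll, Option.some.injEq] at h; subst h; exact Or.inl ha
  | b :: l, t, t', h, a, ha => by
    simp only [insertAll] at h
    cases hb : t.insert? b with
    | none => rw [hb] at h; simp at h
    | some t₁ =>
      rw [hb] at h
      rcases insertAll_mem l t₁ t' h a ha with h1 | h1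
      · rcases ((KeyTree.insert?_spec t t₁ b hb).2 a).1 h1 with h2 | h2
        · exact Or.inr (h2 ▸ List.mem_cons_self)
        · exact Or.inl h2
      · exact Or.inr (List.mem_cons_of_mem _ h1)

/-- Products along a forest. -/
def collectP (gens : List ℕ) : OrbTree → ℕ → List ℕ → List ℕ
  | .nil, _, acc => acc
  | .node g c s, m, acc =>
    collectP gens s m (collectP gens c (comp m (gens.getD g idCode))
      (comp m (gens.getD g idCode) :: acc))

theorem collectP_spec (gens : List ℕ) (H : Subgroup (Equiv.Perm GolayPt))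
    (hok : ∀ c ∈ gens, permOK c = true ∧ permOf c ∈ H) (B : ℕ → Prop) (hB : ∀ a b, B (comp a b))
    (T : OrbTree) (m : ℕ) (acc : List ℕ) (hm : permOK m = true ∧ permOf m ∈ H ∧ B m)
    (hacc : ∀ x ∈ acc, permOK x = true ∧ permOf x ∈ H ∧ B x) :
    ∀ x ∈ collectP gens T m acc, permOK x = true ∧ permOf x ∈ H ∧ B x := by
  induction T generalizing m acc with
  | nil => rw [collectP]; exact hacc
  | node g c s ihc ihs =>
    have hd : permOK (gens.getD g idCode) = true ∧ permOf (gens.getD g idCode) ∈ H := by
      by_cases hg : g < gens.length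
      · rw [List.getD_eq_getElem _ _ hg]; exact hok _ (List.getElem_mem _)
      · rw [List.getD_eq_default _ _ (by omega), permOf_idCode]
        exact ⟨idCode_ok, one_mem _⟩
    rw [collectP]
    generalize gens.getD g idCode = k at hd ⊢
    have hC := permOf_comp hm.1 hd.1
    have hBn := hB m k
    generalize comp m k = n at hC hBn ⊢
    have hstep : permOK n = true ∧ permOf n ∈ H ∧ B n :=
      ⟨hC.1, by rw [hC.2]; exact mul_mem hm.2.1 hd.2, hBn⟩
    refine ihs m _ hm (ihc n _ hstep ?_)
    intro x hx
    rcases List.mem_cons.1 hx with e | hx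
    · rw [e]; exact hstep
    · exact hacc x hx

/-- The forest lists a group of order `N` generated by `gens`. -/
def groupOK (gens : List ℕ) (T : OrbTree) (N : ℕ) : Bool :=
  gens.all isAut &&
    let l := collectP gens T idCode [idCode]
    l.length == N &&
      match insertAll l .leaf with
      | none => false
      | some t => l.all fun x => gens.all fun g => t.find (comp x g)

theorem groupOK_spec {gens : List ℕ} {T : OrbTree} {N : ℕ} (h : groupOK gens T N = true) :
    ∃ P : Subgroup (Equiv.Perm GolayPt), P ≤ M24 ∧ Nat.card P = N ∧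
      ∀ σ ∈ P, ∃ x ∈ collectP gens T idCode [idCode], permOK x = true ∧ permOf x = σ := by
  classical
  simp only [groupOK, Bool.and_eq_true, List.all_eq_true, beq_iff_eq] at h
  obtain ⟨hg, hlen, hcl⟩ := h
  set l := collectP gens T idCode [idCode]
  cases ht : insertAll l .leaf with
  | none => rw [ht] at hcl; simp at hcl
  | some t =>
  rw [ht] at hcl
  simp only [List.all_eq_true] at hcl
  set S : Set (Equiv.Perm GolayPt) := {σ | ∃ c ∈ gens, σ = permOf c}
  set P := Subgroup.closure S
  have hSM : S ⊆ M24 := by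
    rintro σ ⟨c, hc, rfl⟩; exact permOf_mem_M24 (hg c hc)
  have hl : ∀ x ∈ l, permOK x = true ∧ permOf x ∈ P ∧ x < 2 ^ 120 :=
    collectP_spec gens P (fun c hc => ⟨permOK_of_isAut (hg c hc), Subgroup.subset_closure ⟨c, hc, rfl⟩⟩)
      (fun x => x < 2 ^ 120) comp_lt T idCode [idCode] ⟨idCode_ok, permOf_idCode ▸ one_mem _, by norm_num [idCode]⟩
      (by intro x hx; rw [List.mem_singleton] at hx; subst hx
          exact ⟨idCode_ok, permOf_idCode ▸ one_mem _, by norm_num [idCode]⟩)
  have hone : idCode ∈ l := collectP_acc gens T idCode [idCode] idCode (by simp)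
  have hnd := (insertAll_spec l .leaf t ht).1
  have hmul : ∀ x ∈ l, ∀ c ∈ gens, ∃ y ∈ l, permOf y = permOf x * permOf c := by
    intro x hx c hc
    rcases insertAll_mem l .leaf t ht _ (KeyTree.find_spec t _ (hcl x hx c hc)) with hm | hm
    · exact hm.elim
    · exact ⟨_, hm, (permOf_comp (hl x hx).1 (permOK_of_isAut (hg c hc))).2⟩
  have hall : ∀ σ ∈ P, ∃ x ∈ l, permOK x = true ∧ permOf x = σ := by
    intro σ hσ
    have hS' : σ ∈ Submonoid.closure S := by
      rw [← Subgroup.closure_toSubmonoid_of_finite]; exact hσ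
    refine Submonoid.closure_induction_right (motive := fun σ _ => ∃ x ∈ l, permOK x = true ∧ permOf x = σ)
      ⟨idCode, hone, idCode_ok, permOf_idCode⟩ ?_ hS'
    rintro σ _ τ ⟨c, hc, rfl⟩ ⟨x, hx, -, rfl⟩
    obtain ⟨y, hy, e⟩ := hmul x hx c hc
    exact ⟨y, hy, (hl y hy).1, e⟩
  refine ⟨P, (Subgroup.closure_le M24).2 hSM, ?_, hall⟩
  have heq : (P : Set (Equiv.Perm GolayPt)) = ((l.map permOf).toFinset : Set (Equiv.Perm GolayPt)) := by
    ext σ
    simp only [SetLike.mem_coe, Finset.mem_coe, List.mem_toFinset, List.mem_map]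
    constructor
    · intro hσ
      obtain ⟨x, hx, -, e⟩ := hall σ hσ
      exact ⟨x, hx, e⟩
    · rintro ⟨x, hx, rfl⟩; exact (hl x hx).2.1
  rw [show Nat.card P = (P : Set (Equiv.Perm GolayPt)).ncard from (Nat.card_coe_set_eq _), heq,
    Set.ncard_coe_finset, List.toFinset_card_of_nodup, List.length_map, hlen]
  exact List.Nodup.map_on (fun x hx y hy e => code_ext (hl x hx).2.2 (hl y hy).2.2 (hl x hx).1 (hl y hy).1 e) hnd
where
  collectP_acc (gens : List ℕ) : ∀ (T : OrbTree) (m : ℕ) (acc : List ℕ) (x : ℕ),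
      x ∈ acc → x ∈ collectP gens T m acc
    | .nil, _, _, _, h => h
    | .node g c s, m, acc, x, h =>
      collectP_acc gens s m _ x (collectP_acc gens c _ _ x (List.mem_cons_of_mem _ h))

/-! ### Point fixers -/

/-- `L` lists the point fixer of the six points in `E`; `O` is an octad through them if there is one. -/
def fixerOK (E O : ℕ) (L : List ℕ) : Bool :=
  pc E == 6 && decide L.Nodup &&
    (L.all fun c => decide (c < 2 ^ 120) && isAut c &&
      (List.range 24).all fun i => !E.testBit i || app c i == i) &&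
    ((L.length == 16 && inC O && pc O == 8 && O &&& E == E) ||
     (L.length == 3 && allB (fun i => !(pc (encode i) == 8 && encode i &&& E == E)) 12 0))

theorem octad_supset {E : ℕ} {o : Finset GolayPt} (ho : o ∈ octads) (hE : bset E ⊆ o) (hlt : E < 2 ^ 24) :
    ∃ i < 4096, pc (encode i) = 8 ∧ encode i &&& E = E := by
  obtain ⟨h1, h2⟩ := mem_octads_iff.1 ho
  obtain ⟨i, hi, hie⟩ := inC_eq_encode h1
  refine ⟨i, hi, hie ▸ h2, eq_of_bset_eq (lt_of_le_of_lt Nat.and_le_right hlt) hlt ?_⟩
  rw [bset_and, hie, bset_mask, Finset.inter_eq_right.2 hE]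

theorem fixerOK_spec {E O : ℕ} {L : List ℕ} (h : fixerOK E O L = true) (hlt : E < 2 ^ 24)
    {g : Equiv.Perm GolayPt} (hg : g ∈ M24) (hfix : ∀ p ∈ bset E, g p = p) :
    ∃ c ∈ L, permOK c = true ∧ permOf c = g := by
  classical
  simp only [fixerOK, Bool.and_eq_true, beq_iff_eq, decide_eq_true_eq, List.all_eq_true,
    Bool.or_eq_true, Bool.not_eq_true'] at h
  obtain ⟨⟨⟨hE, hnd⟩, hL⟩, hkind⟩ := h
  have hEc : (bset E).card = 6 := by rw [card_bset]; exact hE
  have hcard : Nat.card (fixer (bset E)) = L.length := by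
    rcases hkind with ⟨⟨⟨hl, hO⟩, hO8⟩, hOE⟩ | ⟨hl, hno⟩
    · rw [hl]
      refine (fixer_card _ hEc).1 ⟨bset O, octad_of_mask (by simp [hO, hO8]), fun p hp => ?_⟩
      have : p ∈ bset (O &&& E) := by rw [hOE]; exact hp
      rw [bset_and] at this
      exact (Finset.mem_inter.1 this).1
    · rw [hl]
      refine (fixer_card _ hEc).2 fun ⟨o, ho, hEo⟩ => ?_
      obtain ⟨i, hi, h8, hie⟩ := octad_supset ho hEo hlt
      have := allB_spec _ 12 0 hno i (Nat.zero_le _) (by simpa using hi)
      simp [h8, hie] at this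
  have hmem : ∀ c ∈ L, permOf c ∈ fixer (bset E) := by
    intro c hc
    obtain ⟨⟨-, hA⟩, hI⟩ := hL c hc
    refine mem_fixer.2 ⟨permOf_mem_M24 hA, fun p hp => idx_injective ?_⟩
    rw [idx_permOf (permOK_of_isAut hA)]
    rcases hI (idx p) (List.mem_range.2 (idx_lt p)) with e | e
    · rw [mem_bset, e] at hp; simp at hp
    · exact e
  have heq : ((L.map permOf).toFinset : Set (Equiv.Perm GolayPt)) = (fixer (bset E) : Set (Equiv.Perm GolayPt)) := by
    refine Set.eq_of_subset_of_ncard_le ?_ ?_ (Set.toFinite _)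
    · intro x hx
      simp only [Finset.mem_coe, List.mem_toFinset, List.mem_map] at hx
      obtain ⟨c, hc, rfl⟩ := hx
      exact hmem c hc
    · rw [Set.ncard_coe_finset, List.toFinset_card_of_nodup, List.length_map, ← Nat.card_coe_set_eq]
      · exact le_of_eq hcard
      · exact List.Nodup.map_on (fun a ha b hb e => code_ext (hL a ha).1.1 (hL b hb).1.1
          (permOK_of_isAut (hL a ha).1.2) (permOK_of_isAut (hL b hb).1.2) e) hnd
  have hgm : g ∈ ((L.map permOf).toFinset : Set (Equiv.Perm GolayPt)) := by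
    rw [heq]; exact mem_fixer.2 ⟨hg, hfix⟩
  simp only [Finset.mem_coe, List.mem_toFinset, List.mem_map] at hgm
  obtain ⟨c, hc, rfl⟩ := hgm
  exact ⟨c, hc, permOK_of_isAut (hL c hc).1.2, rfl⟩

end Cfsg.Agent.M24Orbits
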